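import Cfsg.Agent.Helper1.BG139Defs
import Cfsg.Agent.Helper22.BG12b
import Cfsg.Agent.S1403
import Cfsg.Agent.S1414
import Cfsg.Agent.S1415
import Cfsg.Agent.S1423

/-!
# CALL S1378 (helper1), PIECE C1 (helper53): the Hall `τ₃(M)`-subgroup `E₃` of `E` centralizes `S`.
-/

set_option autoImplicit false

namespace Cfsg.Agent.Helper53

open Cfsg Subgroup Cfsg.Agent.Helper1

universe u

variable {G : Type u} [Group G] [Finite G]

/-- In the configuration of B&G 13.9, `s ∉ β(M)` (as `S` lies in two maximal subgroups). -/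
theorem bg139C1_not_beta (hG : IsMinSimpleOddOrder G) {M Ms S : Subgroup G} {s : ℕ}
    (c : BG139Cfg M Ms S s) : s ∉ beta M := by
  intro hβ
  have : Fact s.Prime := ⟨c.hs⟩
  have hU : Helper22.BGUniq G := fun K hK h1 h2 => Cfsg.Agent.S1403.result hG K hK h1 h2
  have hSM : S ≤ M := (le_normalizer.trans c.hN).trans inf_le_left
  have hSMs : S ≤ Ms := (le_normalizer.trans c.hN).trans inf_le_right
  have hSσ : S ≤ sigmaCore M := Helper22.bg12_le_sigmaCore hG hU c.hM c.hs c.hsM hSM c.hSp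
  -- a subgroup of order `s` in `S`
  obtain ⟨x, hxS, hx⟩ : ∃ x ∈ S, orderOf x = s := by
    have hcard : s ∣ Nat.card S := by
      obtain ⟨n, hn⟩ := IsPGroup.iff_card.mp c.hSp
      have hn0 : n ≠ 0 := by
        rintro rfl
        rw [pow_zero] at hn
        exact c.hS1 (Subgroup.card_eq_one.mp hn)
      rw [hn]; exact dvd_pow_self s hn0
    obtain ⟨y, hy⟩ := exists_prime_orderOf_dvd_card' s hcard
    exact ⟨y.1, y.2, by rw [← hy]; exact (Subgroup.orderOf_coe y)⟩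
  have hXM : Subgroup.zpowers x ≤ M := by
    rw [Subgroup.zpowers_le]; exact hSM hxS
  have hXc : Nat.card (Subgroup.zpowers x) = s := by rw [Nat.card_zpowers, hx]
  -- `S` as a Sylow subgroup of `M_σ`
  let P : Sylow s ↥(sigmaCore M) :=
    { toSubgroup := S.subgroupOf (sigmaCore M)
      isPGroup' := c.hSp.comap_subtype
      is_maximal' := by
        intro Q hQ hle
        have h1 : IsPGroup s (Q.map (sigmaCore M).subtype) := hQ.map _
        have h2 : S ≤ Q.map (sigmaCore M).subtype := by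
          rw [← Subgroup.map_subgroupOf_eq_of_le hSσ]
          exact Subgroup.map_mono hle
        have h3 := c.hSmax _ h1 h2
        rw [← h3]
        exact (Subgroup.comap_map_eq_self_of_injective (Subgroup.subtype_injective _) Q).symm }
  have hP : (P : Subgroup ↥(sigmaCore M)).map (sigmaCore M).subtype = S :=
    Subgroup.map_subgroupOf_eq_of_le hSσ
  obtain ⟨-, hum, -⟩ := Cfsg.Agent.S1423.result hG M c.hM s c.hsM (Subgroup.zpowers x) hXM hXc P
    (Or.inl hβ)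
  rw [hP] at hum
  obtain ⟨L, -, hL⟩ := hum
  have e1 : M = L := hL M ⟨c.hM, hSM⟩
  have e2 : Ms = L := hL Ms ⟨c.hMs, hSMs⟩
  apply c.hnc 1
  rw [e2, ← e1]
  ext y
  simp [Subgroup.mem_map]

/-- PIECE `C1`. -/
theorem bg139_E3_cent (hG : IsMinSimpleOddOrder G) {M Ms S : Subgroup G} {s : ℕ}
    (c : BG139Cfg M Ms S s) {E E₃ : Subgroup G} (hE : IsComplIn E (sigmaCore M) M)
    (hEN : E ≤ normalizer (S : Set G)) (hE₃ : IsPiHallOf (tau3 M) E₃ E) :
    E₃ ≤ centralizer (S : Set G) := by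
  have : Fact s.Prime := ⟨c.hs⟩
  have hSMs : S ≤ Ms := (le_normalizer.trans c.hN).trans inf_le_right
  have hEMs : E ≤ Ms := (hEN.trans c.hN).trans inf_le_right
  obtain ⟨-, -, h3⟩ := Cfsg.Agent.S1415.result hG M c.hM E hE
  obtain ⟨-, hE₃d, -⟩ := h3 E₃ hE₃
  have hE₃D : E₃ ≤ ⁅Ms, Ms⁆ := hE₃d.trans (Subgroup.commutator_mono hEMs hEMs)
  have hsMs : s ∣ Nat.card Ms := c.hsMs.2.1
  have hβ : s ∉ beta Ms := bg139C1_not_beta hG c.symm
  obtain ⟨-, -, -, -, h5⟩ := Cfsg.Agent.S1414.result hG Ms c.hMs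
  obtain ⟨⟨P, N, hNn, hNP⟩, -, -⟩ := h5 s c.hs hsMs hβ
  -- `|N|` is prime to `s`
  have hNcard : ¬ s ∣ Nat.card N := by
    have h1 : (P : Subgroup ↥⁅Ms, Ms⁆).index = Nat.card N := hNP.index_eq_card
    rw [← h1]
    exact P.not_dvd_index
  -- the index of `N` is a power of `s`
  have hNidx : ∃ k, N.index = s ^ k := by
    have h1 : N.index = Nat.card (P : Subgroup ↥⁅Ms, Ms⁆) := hNP.symm.index_eq_card
    rw [h1]
    exact IsPGroup.iff_card.mp P.isPGroup'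
  -- the `s'`-elements of `Ms'` lie in `N`
  have key : ∀ y : ↥⁅Ms, Ms⁆, ¬ s ∣ orderOf y → y ∈ N := by
    intro y hy
    obtain ⟨k, hk⟩ := hNidx
    have h1 : orderOf (QuotientGroup.mk' N y) ∣ orderOf y := orderOf_map_dvd _ y
    have h2 : orderOf (QuotientGroup.mk' N y) ∣ s ^ k := by
      rw [← hk, Subgroup.index_eq_card]
      exact orderOf_dvd_natCard _
    have h3 : orderOf (QuotientGroup.mk' N y) = 1 := by
      obtain ⟨j, -, hj⟩ := (Nat.dvd_prime_pow c.hs).mp h2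
      rcases Nat.eq_zero_or_pos j with rfl | hjpos
      · simpa using hj
      · exfalso; apply hy
        exact dvd_trans (by rw [hj]; exact dvd_pow_self s hjpos.ne') h1
    rw [orderOf_eq_one_iff] at h3
    exact (QuotientGroup.eq_one_iff y).mp h3
  intro e he
  rw [Subgroup.mem_centralizer_iff]
  intro x hx
  have heD : e ∈ ⁅Ms, Ms⁆ := hE₃D he
  have hsE3 : ¬ s ∣ Nat.card E₃ := fun h => (hE₃.2.1 s c.hs h).2.1 c.hsM
  have heord : ¬ s ∣ orderOf e := fun h => hsE3 (h.trans (by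
    have := orderOf_dvd_natCard (⟨e, he⟩ : E₃)
    rwa [Subgroup.orderOf_mk] at this))
  have hxMs : x ∈ Ms := hSMs hx
  have heMs : e ∈ Ms := Subgroup.commutator_le_self Ms heD
  have hxeD : x * e * x⁻¹ ∈ ⁅Ms, Ms⁆ := by
    have h1 : x * e * x⁻¹ * e⁻¹ ∈ ⁅Ms, Ms⁆ := Subgroup.commutator_mem_commutator hxMs heMs
    have h2 := Subgroup.mul_mem _ h1 heD
    have e1 : x * e * x⁻¹ * e⁻¹ * e = x * e * x⁻¹ := by group
    rwa [e1] at h2
  have h1 : (⟨e, heD⟩ : ↥⁅Ms, Ms⁆) ∈ N := key _ (by rwa [Subgroup.orderOf_mk])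
  have h2 : (⟨x * e * x⁻¹, hxeD⟩ : ↥⁅Ms, Ms⁆) ∈ N :=
    key _ (by
      rw [Subgroup.orderOf_mk]
      have e1 : orderOf (x * e * x⁻¹) = orderOf e := (MulAut.conj x).orderOf_eq e
      rw [e1]; exact heord)
  have h3 : (⟨x * e * x⁻¹, hxeD⟩ * (⟨e, heD⟩ : ↥⁅Ms, Ms⁆)⁻¹ : ↥⁅Ms, Ms⁆) ∈ N :=
    N.mul_mem h2 (N.inv_mem h1)
  have h4 : x * e * x⁻¹ * e⁻¹ ∈ S := by
    have h5 := (Subgroup.mem_normalizer_iff.mp (hEN (hE₃.1 he)) x⁻¹).mp (S.inv_mem hx)
    have h6 := S.mul_mem hx h5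
    have e1 : x * (e * x⁻¹ * e⁻¹) = x * e * x⁻¹ * e⁻¹ := by group
    rwa [e1] at h6
  have h5 : x * e * x⁻¹ * e⁻¹ = 1 := by
    obtain ⟨k, hk⟩ := c.hSp ⟨x * e * x⁻¹ * e⁻¹, h4⟩
    have hk' : (x * e * x⁻¹ * e⁻¹) ^ s ^ k = 1 := by
      have := congrArg Subtype.val hk
      simpa using this
    have hN' : (x * e * x⁻¹ * e⁻¹) ^ Nat.card N = 1 := by
      have h7 : ((⟨_, h3⟩ : N)) ^ Nat.card N = 1 := pow_card_eq_one'
      have h8 := congrArg (fun z : N => ((z : ↥⁅Ms, Ms⁆) : G)) h7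
      exact h8
    have hcop : (s ^ k).Coprime (Nat.card N) :=
      Nat.Coprime.pow_left k ((Nat.Prime.coprime_iff_not_dvd c.hs).mpr hNcard)
    have h9 : (x * e * x⁻¹ * e⁻¹) ^ Nat.gcd (s ^ k) (Nat.card N) = 1 :=
      pow_gcd_eq_one.mpr ⟨hk', hN'⟩
    rwa [Nat.Coprime.gcd_eq_one hcop, pow_one] at h9
  calc x * e = (x * e * x⁻¹ * e⁻¹) * (e * x) := by group
    _ = e * x := by rw [h5, one_mul]

end Cfsg.Agent.Helper53
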