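import Mathlib
import Cfsg.Prelude.Def_Involutions
import Cfsg.Prelude.Def_Transfer
import Cfsg.Agent.Helper21.StrEmb
import Cfsg.Agent.S0223
import Cfsg.Agent.Helper49.ThompsonEA

/-!
Helper53: PIECE SE of CALL S2951 round 2 (helper11).  In a group with a strongly embedded
subgroup `L`, every nontrivial normal 2-subgroup `O` of `L` contains all involutions of `L`, hence
`J(T)` for every `T ≤ L`.
-/

set_option autoImplicit false

namespace Cfsg.Agent.Helper53

variable {G : Type*} [Group G]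

/-- PIECE SE -/
theorem se_thompson_le [Finite G] (L T O : Subgroup G) (hSE : Cfsg.IsStronglyEmbedded L)
    (hTL : T ≤ L) (hOL : O ≤ L) (hOn : L ≤ Subgroup.normalizer (O : Set G)) (hO1 : O ≠ ⊥)
    (hO2 : IsPGroup 2 O) : Cfsg.thompsonSubgroupOf 2 T ≤ O := by
  -- an involution of `O`
  have hOnt : Nontrivial O := (Subgroup.nontrivial_iff_ne_bot O).mpr hO1
  have h2 : 2 ∣ Nat.card O := by
    obtain ⟨n, hn⟩ := IsPGroup.iff_card.mp hO2
    have hn0 : n ≠ 0 := by
      rintro rfl
      have : Nat.card O = 1 := by simpa using hn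
      have hsub : Subsingleton O := (Nat.card_eq_one_iff_unique.mp this).1
      exact not_subsingleton O hsub
    rw [hn]; exact dvd_pow_self 2 hn0
  obtain ⟨z, hz⟩ := exists_prime_orderOf_dvd_card' (G := O) 2 h2
  have hz0 : orderOf (z : G) = 2 := by rw [Subgroup.orderOf_coe]; exact hz
  have hz0L : (z : G) ∈ L := hOL z.2
  have hres := (Cfsg.Agent.S0223.result L hSE.1 hSE.2.1).mp hSE
  apply Cfsg.Agent.Helper49.thompsonOf_le_of_forall
  intro A hA a ha
  by_cases ha1 : a = 1
  · rw [ha1]; exact O.one_mem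
  have haa : a ^ 2 = 1 := hA.2.1.2 a ha
  have hao : orderOf a = 2 := orderOf_eq_prime haa ha1
  have haL : a ∈ L := hTL (hA.1 ha)
  have hconj : IsConj (z : G) a := Cfsg.Agent.Helper21.StrEmb.isConj_involutions hSE hz0 hao
  obtain ⟨h, hhL, hh⟩ := hres.2 (z : G) hz0L a haL hz0 hao hconj
  rw [← hh]
  exact (Subgroup.mem_normalizer_iff.mp (hOn hhL) (z : G)).mp z.2

end Cfsg.Agent.Helper53
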