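import Mathlib
import Cfsg.Agent.Helper53.Quat

set_option autoImplicit false

namespace Cfsg.Agent.Helper53

section Quat2

variable {P : Type*} [Group P]

/-- The non-cyclic case of `unique_invol_structure`, with the coset decomposition and the inversion
action spelled out. -/
theorem unique_invol_structure' [Finite P] (hP : IsPGroup 2 P) (z : P) (hz : orderOf z = 2)
    (huniq : ∀ t : P, orderOf t = 2 → t = z) (hnc : ∃ g h : P, g * h ≠ h * g) :
    ∃ (a y : P) (k : ℕ), 2 ≤ k ∧ orderOf a = 2 ^ k ∧ Nat.card P = 2 ^ (k + 1) ∧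
      y ∉ Subgroup.zpowers a ∧ y * a * y⁻¹ = a⁻¹ ∧ y * y = z ∧ a ^ (2 ^ (k - 1)) = z ∧
      (∀ g : P, g ∈ Subgroup.zpowers a ∨ g * y⁻¹ ∈ Subgroup.zpowers a) ∧
      (∀ u ∈ Subgroup.zpowers a, y * u * y⁻¹ = u⁻¹) := by
  rcases unique_invol_structure hP z hz huniq with ⟨x, hx⟩ | ⟨a, y, k, hk2, hka, hcard, hya, hyinv, hyy, haz⟩
  · exfalso
    obtain ⟨g, h, hgh⟩ := hnc
    apply hgh
    obtain ⟨i, rfl⟩ := Subgroup.mem_zpowers_iff.mp (hx g)
    obtain ⟨j, rfl⟩ := Subgroup.mem_zpowers_iff.mp (hx h)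
    rw [← zpow_add, ← zpow_add, add_comm]
  · refine ⟨a, y, k, hk2, hka, hcard, hya, hyinv, hyy, haz, ?_, ?_⟩
    · have hidx : (Subgroup.zpowers a).index = 2 := by
        have h1 := (Subgroup.zpowers a).card_mul_index
        rw [Nat.card_zpowers, hka, hcard, pow_succ] at h1
        exact Nat.eq_of_mul_eq_mul_left (by positivity) h1
      intro g
      by_cases hg : g ∈ Subgroup.zpowers a
      · left; exact hg
      · right
        rw [Subgroup.mul_mem_iff_of_index_two hidx]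
        constructor
        · intro h; exact absurd h hg
        · intro h; exact absurd ((Subgroup.inv_mem_iff _).mp h) hya
    · intro u hu
      obtain ⟨i, rfl⟩ := Subgroup.mem_zpowers_iff.mp hu
      rw [conj_zpow', hyinv, inv_zpow]

/-- In a nonabelian finite 2-group with a unique involution `z`, the centre is `{1, z}`. -/
theorem central_eq_one_or_of_unique_invol [Finite P] (hP : IsPGroup 2 P) (z : P) (hz : orderOf z = 2)
    (huniq : ∀ t : P, orderOf t = 2 → t = z) (hnc : ∃ g h : P, g * h ≠ h * g) (w : P)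
    (hw : ∀ g : P, g * w = w * g) : w = 1 ∨ w = z := by
  obtain ⟨a, y, k, hk2, hka, hcard, hya, hyinv, hyy, haz, hcov, hinv⟩ :=
    unique_invol_structure' hP z hz huniq hnc
  have hww : w * w = 1 := by
    rcases hcov w with h | h
    · have h1 := hinv w h
      have h2 : y * w * y⁻¹ = w := by rw [hw y]; group
      rw [h2] at h1
      calc w * w = w * w⁻¹ := by rw [← h1]
        _ = 1 := mul_inv_cancel w
    · exfalso
      have h1 : Commute (w * y⁻¹) a := by
        obtain ⟨i, hi⟩ := Subgroup.mem_zpowers_iff.mp h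
        rw [← hi]
        exact (Commute.refl a).zpow_left i
      have h2 : a = a⁻¹ := by
        calc a = w * a * w⁻¹ := by rw [← hw a]; group
          _ = (w * y⁻¹) * (y * a * y⁻¹) * (w * y⁻¹)⁻¹ := by group
          _ = (w * y⁻¹) * a⁻¹ * (w * y⁻¹)⁻¹ := by rw [hyinv]
          _ = a⁻¹ := by rw [(h1.inv_right).eq, mul_inv_cancel_right]
      have h3 : a ^ 2 = 1 := by
        rw [pow_two]
        calc a * a = a * a⁻¹ := by rw [← h2]
          _ = 1 := mul_inv_cancel a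
      have h4 := orderOf_dvd_of_pow_eq_one h3
      rw [hka] at h4
      have h5 : 2 ^ 2 ≤ 2 ^ k := Nat.pow_le_pow_right (by norm_num) hk2
      have h6 := Nat.le_of_dvd (by norm_num) h4
      omega
  rcases eq_or_ne w 1 with h | h
  · left; exact h
  · right; exact huniq w (orderOf_eq_prime (by rw [pow_two]; exact hww) h)

/-- If `y` normalizes the subgroup `A` and `y * y ∈ A`, then `A ∪ A y` is a subgroup. -/
theorem exists_subgroup_union_coset (A : Subgroup P) (y : P) (h1 : ∀ u ∈ A, y * u * y⁻¹ ∈ A)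
    (h2 : ∀ u ∈ A, y⁻¹ * u * y ∈ A) (h3 : y * y ∈ A) :
    ∃ Q : Subgroup P, ∀ g : P, g ∈ Q ↔ (g ∈ A ∨ g * y⁻¹ ∈ A) := by
  refine ⟨{ carrier := {g | g ∈ A ∨ g * y⁻¹ ∈ A}
            one_mem' := Or.inl A.one_mem
            mul_mem' := ?_
            inv_mem' := ?_ }, fun g => Iff.rfl⟩
  · rintro g h (hg | hg) (hh | hh)
    · exact Or.inl (A.mul_mem hg hh)
    · right
      have : g * h * y⁻¹ = g * (h * y⁻¹) := by group
      rw [this]; exact A.mul_mem hg hh
    · right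
      have : g * h * y⁻¹ = (g * y⁻¹) * (y * h * y⁻¹) := by group
      rw [this]; exact A.mul_mem hg (h1 h hh)
    · left
      have : g * h = (g * y⁻¹) * (y * (h * y⁻¹) * y⁻¹) * (y * y) := by group
      rw [this]; exact A.mul_mem (A.mul_mem hg (h1 _ hh)) h3
  · rintro g (hg | hg)
    · exact Or.inl (A.inv_mem hg)
    · right
      have : g⁻¹ * y⁻¹ = (y⁻¹ * (g * y⁻¹)⁻¹ * y) * (y * y)⁻¹ := by group
      rw [this]; exact A.mul_mem (h2 _ (A.inv_mem hg)) (A.inv_mem h3)

/-- Lifting the generalized quaternion structure of a quotient `S ⧸ N` (nonabelian 2-group with a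
unique involution) to elements of `S`. -/
theorem quat_quotient_lift {S : Type*} [Group S] [Finite S] (hS : IsPGroup 2 S) (N : Subgroup S)
    [N.Normal] (hnc : ¬ IsMulCommutative (S ⧸ N)) (zb : S ⧸ N) (hzb : orderOf zb = 2)
    (hzu : ∀ t : S ⧸ N, orderOf t = 2 → t = zb) :
    ∃ (a y : S) (k : ℕ), 2 ≤ k ∧ orderOf (a : S ⧸ N) = 2 ^ k ∧ Nat.card (S ⧸ N) = 2 ^ (k + 1) ∧
      (y : S ⧸ N) ∉ Subgroup.zpowers (a : S ⧸ N) ∧ y * a * y⁻¹ * a ∈ N ∧
      ((y * y : S) : S ⧸ N) = zb ∧ ((a ^ (2 ^ (k - 1)) : S) : S ⧸ N) = zb ∧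
      (∀ s : S, (∃ i : ℤ, (a ^ i)⁻¹ * s ∈ N) ∨ (∃ i : ℤ, (a ^ i)⁻¹ * (s * y⁻¹) ∈ N)) := by
  have hnc' : ∃ g h : S ⧸ N, g * h ≠ h * g := by
    by_contra hcon
    push Not at hcon
    exact hnc ⟨⟨hcon⟩⟩
  obtain ⟨ab, yb, k, hk2, hka, hcard, hya, hyinv, hyy, haz, hcov, hinv⟩ :=
    unique_invol_structure' (hS.to_quotient N) zb hzb hzu hnc'
  obtain ⟨a, rfl⟩ := QuotientGroup.mk_surjective ab
  obtain ⟨y, rfl⟩ := QuotientGroup.mk_surjective yb
  refine ⟨a, y, k, hk2, hka, hcard, hya, ?_, hyy, ?_, ?_⟩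
  · apply (QuotientGroup.eq_one_iff _).mp
    have h1 : ((y * a * y⁻¹ * a : S) : S ⧸ N) = (y : S ⧸ N) * a * (y : S ⧸ N)⁻¹ * a := rfl
    rw [h1, hyinv, inv_mul_cancel]
  · rw [QuotientGroup.mk_pow]; exact haz
  · intro s
    rcases hcov (s : S ⧸ N) with h | h
    · left
      obtain ⟨i, hi⟩ := Subgroup.mem_zpowers_iff.mp h
      exact ⟨i, QuotientGroup.eq.mp (by rw [QuotientGroup.mk_zpow]; exact hi)⟩
    · right
      obtain ⟨i, hi⟩ := Subgroup.mem_zpowers_iff.mp h
      exact ⟨i, QuotientGroup.eq.mp (by rw [QuotientGroup.mk_zpow]; exact hi)⟩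

/-- Facts on a central quotient that is a nonabelian 2-group with a unique involution. -/
theorem central_quotient_facts {S : Type*} [Group S] [Finite S] (hS : IsPGroup 2 S) (N : Subgroup S)
    [N.Normal] (hnc : ¬ IsMulCommutative (S ⧸ N)) (zb : S ⧸ N) (hzb : orderOf zb = 2)
    (hzu : ∀ t : S ⧸ N, orderOf t = 2 → t = zb) :
    (∀ w ∈ Subgroup.center S, w ∉ N → (w : S ⧸ N) = zb) ∧
    (∀ w ∈ Subgroup.center S, w * w ∈ N) ∧
    (∀ s : S, s * s ∈ N → (∃ w ∈ Subgroup.center S, w ∉ N) → N ≤ Subgroup.center S →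
      s ∈ Subgroup.center S) := by
  have hnc' : ∃ g h : S ⧸ N, g * h ≠ h * g := by
    by_contra hcon
    push Not at hcon
    exact hnc ⟨⟨hcon⟩⟩
  have hzz : zb * zb = 1 := by
    have := pow_orderOf_eq_one zb
    rw [hzb, pow_two] at this
    exact this
  have hcen : ∀ w ∈ Subgroup.center S, (w : S ⧸ N) = 1 ∨ (w : S ⧸ N) = zb := by
    intro w hw
    apply central_eq_one_or_of_unique_invol (hS.to_quotient N) zb hzb hzu hnc'
    intro g
    obtain ⟨g, rfl⟩ := QuotientGroup.mk_surjective g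
    have h1 := Subgroup.mem_center_iff.mp hw g
    have h2 : ((g * w : S) : S ⧸ N) = ((w * g : S) : S ⧸ N) := by rw [h1]
    exact h2
  have h1 : ∀ w ∈ Subgroup.center S, w ∉ N → (w : S ⧸ N) = zb := by
    intro w hw hwN
    rcases hcen w hw with h | h
    · exact absurd ((QuotientGroup.eq_one_iff w).mp h) hwN
    · exact h
  refine ⟨h1, ?_, ?_⟩
  · intro w hw
    apply (QuotientGroup.eq_one_iff _).mp
    have h2 : ((w * w : S) : S ⧸ N) = (w : S ⧸ N) * (w : S ⧸ N) := rfl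
    rw [h2]
    rcases hcen w hw with h | h
    · rw [h, one_mul]
    · rw [h, hzz]
  · intro s hs ⟨w, hw, hwN⟩ hNc
    have h2 : (s : S ⧸ N) * (s : S ⧸ N) = 1 := (QuotientGroup.eq_one_iff (s * s)).mpr hs
    rcases eq_or_ne (s : S ⧸ N) 1 with h | h
    · exact hNc ((QuotientGroup.eq_one_iff s).mp h)
    · have h3 : (s : S ⧸ N) = zb := hzu _ (orderOf_eq_prime (by rw [pow_two]; exact h2) h)
      have h4 : (w : S ⧸ N) = (s : S ⧸ N) := by rw [h3]; exact h1 w hw hwN
      have h5 : w⁻¹ * s ∈ N := QuotientGroup.eq.mp h4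
      have h6 : s = w * (w⁻¹ * s) := by group
      rw [h6]
      exact Subgroup.mul_mem _ hw (hNc h5)

end Quat2

end Cfsg.Agent.Helper53
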