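import Cfsg.Agent.Helper22.BG10b
import Cfsg.Agent.S1403

set_option autoImplicit false

/-!
CALL BG16 (helper25), piece SN (double by helper53).
-/

namespace Cfsg.Agent.Helper53

open Cfsg Subgroup

universe u

variable {G : Type u} [Group G] [Finite G]

/-- SN. For a Hall subgroup `T` of `M` inside `M_σ`, the normalizer of every nontrivial Sylow
subgroup of `T` lies in `M`. -/
theorem bg16_sylow_norm (hG : IsMinSimpleOddOrder G) (M : Subgroup G) (hM : IsCoatom M)
    (T : Subgroup G) (hT : T ≤ sigmaCore M) (hHall : (Nat.card T).Coprime (T.relIndex M))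
    (p : ℕ) (hp : p.Prime) (P : Sylow p ↥T) (hP : (P : Subgroup ↥T) ≠ ⊥) :
    normalizer ((((P : Subgroup ↥T).map T.subtype : Subgroup G)) : Set G) ≤ M := by
  have : Fact p.Prime := ⟨hp⟩
  have hsM : sigmaCore M ≤ M := by
    unfold sigmaCore
    exact Subgroup.map_subtype_le _
  have hTM : T ≤ M := hT.trans hsM
  -- `p ∣ |T|`
  have hpP : p ∣ Nat.card (P : Subgroup T) := by
    have h1 : Nat.card (P : Subgroup T) ≠ 1 := fun h => hP (Subgroup.card_eq_one.mp h)
    obtain ⟨n, hn⟩ := IsPGroup.iff_card.mp P.isPGroup'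
    rw [hn] at h1 ⊢
    cases n with
    | zero => exact absurd (pow_zero p) h1
    | succ n => exact dvd_pow_self p (Nat.succ_ne_zero n)
  have hpT : p ∣ Nat.card T := hpP.trans (Subgroup.card_subgroup_dvd_card _)
  -- `p ∈ σ(M)`
  have hsig := Cfsg.Agent.Helper22.bg10_sigma_hall hG
    (fun K hK h1 h2 => Cfsg.Agent.S1403.result hG K hK h1 h2) hM
  have hpσ : p ∈ sigma M :=
    hsig.2.1.1 p hp (hpT.trans (Subgroup.card_dvd_of_le hT))
  obtain ⟨-, -, P₀, hP₀⟩ := hpσ
  -- the image `Q` of `P` in `G`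
  set Q : Subgroup G := (P : Subgroup ↥T).map T.subtype with hQ
  have hQT : Q ≤ T := Subgroup.map_subtype_le _
  have hQM : Q ≤ M := hQT.trans hTM
  have hcardQ : Nat.card Q = p ^ (Nat.card T).factorization p := by
    rw [hQ, Subgroup.card_map_of_injective T.subtype_injective]
    exact P.card_eq_multiplicity
  -- `p ∤ |M : T|`
  have hpR : ¬ p ∣ T.relIndex M := by
    intro h
    have := Nat.dvd_gcd hpT h
    rw [hHall] at this
    exact hp.one_lt.ne' (Nat.dvd_one.mp this)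
  have hcardM : Nat.card M = Nat.card T * T.relIndex M := by
    rw [Subgroup.relIndex, ← Subgroup.card_mul_index (T.subgroupOf M),
      Nat.card_congr (Subgroup.subgroupOfEquivOfLe hTM).toEquiv]
  have hfac : (Nat.card M).factorization p = (Nat.card T).factorization p := by
    rw [hcardM, Nat.factorization_mul Nat.card_pos.ne' (fun h => hpR (by rw [h]; exact dvd_zero p)),
      Finsupp.add_apply, Nat.factorization_eq_zero_of_not_dvd hpR, add_zero]
  have hcardQM : Nat.card (Q.subgroupOf M) = p ^ (Nat.card M).factorization p := by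
    rw [Nat.card_congr (Subgroup.subgroupOfEquivOfLe hQM).toEquiv, hcardQ, hfac]
  let P₁ : Sylow p ↥M := Sylow.ofCard (Q.subgroupOf M) hcardQM
  have hP₁ : (P₁ : Subgroup ↥M) = Q.subgroupOf M := rfl
  obtain ⟨m, hm⟩ := MulAction.exists_smul_eq (↥M) P₁ P₀
  -- membership transfer
  have hcoe : ((m • P₁ : Sylow p ↥M) : Subgroup ↥M) = (P₀ : Subgroup ↥M) := by rw [hm]
  have hmem0 : ∀ y : ↥M, y ∈ (P₀ : Subgroup ↥M) ↔ ((m : G)⁻¹ * (y : G) * (m : G)) ∈ Q := by
    intro y
    rw [← hcoe, Sylow.coe_subgroup_smul, Subgroup.mem_pointwise_smul_iff_inv_smul_mem,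
      MulAut.smul_def, ← map_inv, MulAut.conj_apply, inv_inv]
    show m⁻¹ * y * m ∈ Q.subgroupOf M ↔ _
    rw [Subgroup.mem_subgroupOf]
    rfl
  have hmem : ∀ x : G, x ∈ (P₀ : Subgroup ↥M).map M.subtype ↔ (m : G)⁻¹ * x * (m : G) ∈ Q := by
    intro x
    constructor
    · rintro ⟨y, hy, rfl⟩
      exact (hmem0 y).mp hy
    · intro hx
      have hxM : x ∈ M := by
        have h1 : (m : G)⁻¹ * x * (m : G) ∈ M := hQM hx
        have h2 : x = (m : G) * ((m : G)⁻¹ * x * (m : G)) * (m : G)⁻¹ := by group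
        rw [h2]
        exact M.mul_mem (M.mul_mem m.2 h1) (M.inv_mem m.2)
      exact ⟨⟨x, hxM⟩, (hmem0 ⟨x, hxM⟩).mpr hx, rfl⟩
  intro g hg
  rw [Subgroup.mem_normalizer_iff] at hg
  have hg' : (m : G) * g * (m : G)⁻¹ ∈
      normalizer ((((P₀ : Subgroup ↥M).map M.subtype : Subgroup G)) : Set G) := by
    rw [Subgroup.mem_normalizer_iff]
    intro x
    rw [hmem, hmem, hg ((m : G)⁻¹ * x * (m : G))]
    have h3 : g * ((m : G)⁻¹ * x * (m : G)) * g⁻¹ =
        (m : G)⁻¹ * ((m : G) * g * (m : G)⁻¹ * x * ((m : G) * g * (m : G)⁻¹)⁻¹) * (m : G) := by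
      group
    rw [h3]
  have h4 : (m : G) * g * (m : G)⁻¹ ∈ M := hP₀ hg'
  have h5 : g = (m : G)⁻¹ * ((m : G) * g * (m : G)⁻¹) * (m : G) := by group
  rw [h5]
  exact M.mul_mem (M.mul_mem (M.inv_mem m.2) h4) m.2

end Cfsg.Agent.Helper53
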