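import Mathlib
import Cfsg.Agent.Helper87.R2Ctx

/-!
# A `p`-element acts trivially on a section of order `p` (PIECE S of CALL S5289)
-/

set_option autoImplicit false

namespace Cfsg.Agent.Helper53

/-- If `Y ⊴ X` with `|X : Y| = p` and `t` is an automorphism of `p`-power order leaving `X` and `Y`
invariant, then `t` acts trivially on `X / Y`. -/
theorem psec {G : Type*} [Group G] (p : ℕ) [Fact p.Prime] (X Y : Subgroup G) [Finite X] (hYX : Y ≤ X)
    (hnorm : ∀ x ∈ X, ∀ y ∈ Y, x * y * x⁻¹ ∈ Y) (hcard : Nat.card X = p * Nat.card Y)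
    (t : MulAut G) (n : ℕ) (ht : t ^ (p ^ n) = 1) (htX : ∀ x ∈ X, t x ∈ X) (htY : ∀ y ∈ Y, t y ∈ Y) :
    ∀ x ∈ X, t x * x⁻¹ ∈ Y := by
  have hpp : p.Prime := Fact.out
  intro x hx
  by_cases hxY : x ∈ Y
  · exact Y.mul_mem (htY x hxY) (Y.inv_mem hxY)
  have hN : (Y.subgroupOf X).Normal := by
    constructor
    intro y hy x
    rw [Subgroup.mem_subgroupOf] at hy ⊢
    exact hnorm x x.2 y hy
  have hfinY : Finite Y :=
    Finite.of_injective (Subgroup.inclusion hYX) (Subgroup.inclusion_injective hYX)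
  have hcardQ : Nat.card (X ⧸ Y.subgroupOf X) = p := by
    have h1 := Subgroup.card_eq_card_quotient_mul_card_subgroup (Y.subgroupOf X)
    have h2 : Nat.card (Y.subgroupOf X) = Nat.card Y :=
      Nat.card_congr (Subgroup.subgroupOfEquivOfLe hYX).toEquiv
    rw [h2, hcard] at h1
    have h3 : 0 < Nat.card Y := Nat.card_pos
    exact (Nat.eq_of_mul_eq_mul_right h3 h1).symm
  -- restriction of t to X
  let τ : X →* X := (t.toMonoidHom.comp X.subtype).codRestrict X (fun u => htX u u.2)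
  have hτ : ∀ u : X, ((τ u : X) : G) = t u := fun u => rfl
  have hτN : Y.subgroupOf X ≤ (Y.subgroupOf X).comap τ := by
    intro u hu
    rw [Subgroup.mem_comap, Subgroup.mem_subgroupOf]
    rw [Subgroup.mem_subgroupOf] at hu
    exact htY u hu
  let f : X ⧸ Y.subgroupOf X →* X ⧸ Y.subgroupOf X := QuotientGroup.map _ _ τ hτN
  have hf : ∀ u : X, f (u : X ⧸ Y.subgroupOf X) = ((τ u : X) : X ⧸ Y.subgroupOf X) := fun u => rfl
  set g : X ⧸ Y.subgroupOf X := ((⟨x, hx⟩ : X) : X ⧸ Y.subgroupOf X) with hg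
  have hg1 : g ≠ 1 := by
    intro h
    rw [hg, QuotientGroup.eq_one_iff, Subgroup.mem_subgroupOf] at h
    exact hxY h
  obtain ⟨k, hk⟩ := mem_powers_of_prime_card (g' := f g) hcardQ hg1
  have hk' : g ^ k = f g := hk
  have hiter : ∀ m : ℕ, f^[m] g = g ^ (k ^ m) := by
    intro m
    induction m with
    | zero => simp
    | succ m ih =>
      rw [Function.iterate_succ_apply', ih, map_pow, ← hk', ← pow_mul, pow_succ']
  have hτiter : ∀ m : ℕ, ∀ u : X, ((τ^[m] u : X) : G) = (t ^ m) u := by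
    intro m
    induction m with
    | zero => intro u; simp
    | succ m ih =>
      intro u
      rw [Function.iterate_succ_apply', hτ, ih, pow_succ', MulAut.mul_apply]
  have hfiter : ∀ m : ℕ, ∀ u : X,
      f^[m] (u : X ⧸ Y.subgroupOf X) = ((τ^[m] u : X) : X ⧸ Y.subgroupOf X) := by
    intro m
    induction m with
    | zero => intro u; rfl
    | succ m ih =>
      intro u
      rw [Function.iterate_succ_apply', Function.iterate_succ_apply', ih, hf]
  have h1 : g ^ (k ^ (p ^ n)) = g ^ 1 := by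
    rw [← hiter, hg, hfiter, pow_one]
    congr 1
    apply Subtype.ext
    rw [hτiter, ht]
    rfl
  have hord : orderOf g = p := by
    have hd : orderOf g ∣ p := hcardQ ▸ orderOf_dvd_natCard g
    rcases (Nat.dvd_prime hpp).mp hd with h | h
    · exact absurd (orderOf_eq_one_iff.mp h) hg1
    · exact h
  have h2 : k ^ (p ^ n) ≡ 1 [MOD p] := by
    have := pow_eq_pow_iff_modEq.mp h1
    rw [hord] at this
    exact this
  have h3 : k ≡ 1 [MOD p] := by
    rw [← ZMod.natCast_eq_natCast_iff] at h2 ⊢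
    push_cast at h2 ⊢
    rw [ZMod.pow_card_pow] at h2
    exact h2
  have h4 : g ^ k = g := by
    have : g ^ k = g ^ 1 := by
      rw [pow_eq_pow_iff_modEq, hord]; exact h3
    rw [this, pow_one]
  have h5 : f g = g := hk' ▸ h4
  rw [hg, hf] at h5
  have h6 := QuotientGroup.eq.mp h5
  rw [Subgroup.mem_subgroupOf] at h6
  have h7 : (t x)⁻¹ * x ∈ Y := h6
  have h8 := hnorm x hx _ (Y.inv_mem h7)
  have h9 : x * ((t x)⁻¹ * x)⁻¹ * x⁻¹ = t x * x⁻¹ := by group
  rw [h9] at h8
  exact h8

end Cfsg.Agent.Helper53
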