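import Cfsg.Agent.Helper53.Card

set_option autoImplicit false

/-!
2-groups containing an involution with centralizer of order 4 (Suzuki's lemma in its concrete form):
such a group has a cyclic subgroup of index 2 avoiding the involution.  Also: recognition of dihedral
groups.
-/

namespace Cfsg.Agent.Helper53

open Subgroup

universe u

theorem index_subgroupOf_eq_two_of_card {G : Type*} [Group G] [Finite G] {M S : Subgroup G} (hle : M ≤ S)
    (k : ℕ) (hM : Nat.card M = 2 ^ k) (hS : Nat.card S = 2 ^ (k + 1)) :
    (M.subgroupOf S).index = 2 := by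
  have h1 := Subgroup.card_mul_index (M.subgroupOf S)
  have h2 : Nat.card (M.subgroupOf S) = 2 ^ k := by
    rw [← hM]; exact Nat.card_congr (Subgroup.subgroupOfEquivOfLe hle).toEquiv
  rw [h2, hS, pow_succ] at h1
  exact Nat.eq_of_mul_eq_mul_left (by positivity) h1

section Recognition

variable {P : Type*} [Group P]

theorem pow_val_add' (a : P) (N : ℕ) [NeZero N] (ha : orderOf a = N) (i j : ZMod N) :
    a ^ (i + j).val = a ^ i.val * a ^ j.val := by
  rw [← pow_add, pow_eq_pow_iff_modEq, ha, ZMod.val_add]
  exact Nat.mod_modEq _ _

theorem pow_val_sub' (a : P) (N : ℕ) [NeZero N] (ha : orderOf a = N) (i j : ZMod N) :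
    a ^ (j - i).val * a ^ i.val = a ^ j.val := by
  rw [← pow_val_add' a N ha, sub_add_cancel]

theorem conj_pow_of_conj_inv {a x : P} (hax : x * a * x⁻¹ = a⁻¹) (k : ℕ) :
    x * a ^ k * x⁻¹ = (a ^ k)⁻¹ := by
  rw [← conj_pow, hax, inv_pow]

/-- The homomorphism from the dihedral group attached to `a` of order `N` and an involution `x`
inverting `a`. -/
def dihedralHomOf (N : ℕ) [NeZero N] (a x : P) (ha : orderOf a = N) (hx : x * x = 1)
    (hax : x * a * x⁻¹ = a⁻¹) : DihedralGroup N →* P where
  toFun g := match g with
    | DihedralGroup.r i => a ^ i.val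
    | DihedralGroup.sr i => x * a ^ i.val
  map_one' := by
    show a ^ (0 : ZMod N).val = 1
    rw [ZMod.val_zero, pow_zero]
  map_mul' := by
    have hxinv : x⁻¹ = x := inv_eq_of_mul_eq_one_left hx
    rintro (i | i) (j | j)
    · show a ^ (i + j).val = a ^ i.val * a ^ j.val
      exact pow_val_add' a N ha i j
    · show x * a ^ (j - i).val = a ^ i.val * (x * a ^ j.val)
      have h1 := conj_pow_of_conj_inv hax i.val
      have h2 := pow_val_sub' a N ha i j
      have h3 : a ^ i.val * x = x * (a ^ i.val)⁻¹ := by
        have : x * (a ^ i.val)⁻¹ = x * (x * a ^ i.val * x⁻¹) := by rw [h1]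
        rw [this, hxinv]
        calc a ^ i.val * x = (x * x) * a ^ i.val * x := by rw [hx, one_mul]
          _ = x * (x * a ^ i.val * x) := by group
      calc x * a ^ (j - i).val = x * (a ^ (j - i).val * a ^ i.val) * (a ^ i.val)⁻¹ := by group
        _ = x * a ^ j.val * (a ^ i.val)⁻¹ := by rw [h2]
        _ = x * (a ^ i.val)⁻¹ * a ^ j.val := by
            rw [mul_assoc, mul_assoc]
            congr 1
            rw [← inv_pow, ← (Commute.refl a).inv_right.pow_pow]
        _ = a ^ i.val * x * a ^ j.val := by rw [h3]
        _ = a ^ i.val * (x * a ^ j.val) := by group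
    · show x * a ^ (i + j).val = x * a ^ i.val * a ^ j.val
      rw [pow_val_add' a N ha i j, mul_assoc]
    · show a ^ (j - i).val = x * a ^ i.val * (x * a ^ j.val)
      have h1 := conj_pow_of_conj_inv hax i.val
      have h2 := pow_val_sub' a N ha i j
      calc a ^ (j - i).val = (a ^ (j - i).val * a ^ i.val) * (a ^ i.val)⁻¹ := by group
        _ = a ^ j.val * (a ^ i.val)⁻¹ := by rw [h2]
        _ = (a ^ i.val)⁻¹ * a ^ j.val := by
            rw [← inv_pow, ← (Commute.refl a).inv_right.pow_pow]
        _ = (x * a ^ i.val * x⁻¹) * a ^ j.val := by rw [h1]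
        _ = x * a ^ i.val * (x * a ^ j.val) := by rw [hxinv]; group

/-- Recognition of dihedral groups. -/
theorem nonempty_mulEquiv_dihedralGroup_of [Finite P] (N : ℕ) [NeZero N] (a x : P)
    (hcard : Nat.card P = 2 * N) (ha : orderOf a = N) (hx : x * x = 1)
    (hax : x * a * x⁻¹ = a⁻¹) (hxa : x ∉ zpowers a) : Nonempty (P ≃* DihedralGroup N) := by
  have hinj : Function.Injective (dihedralHomOf N a x ha hx hax) := by
    rw [injective_iff_map_eq_one]
    rintro (i | i) h
    · have h' : a ^ i.val = 1 := h
      have h0 : orderOf a ∣ i.val := orderOf_dvd_of_pow_eq_one h'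
      have h1 : N ∣ i.val := by rwa [ha] at h0
      have h2 : i.val = 0 := Nat.eq_zero_of_dvd_of_lt h1 (ZMod.val_lt i)
      have h3 : i = 0 := (ZMod.val_eq_zero i).mp h2
      rw [h3]; rfl
    · exfalso
      have h' : x * a ^ i.val = 1 := h
      apply hxa
      have h1 : x = (a ^ i.val)⁻¹ := eq_inv_of_mul_eq_one_left h'
      rw [h1]
      exact inv_mem (pow_mem (mem_zpowers a) _)
  have hfin : Finite (DihedralGroup N) := inferInstance
  have hbij : Function.Bijective (dihedralHomOf N a x ha hx hax) := by
    rw [Nat.bijective_iff_injective_and_card]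
    exact ⟨hinj, by rw [DihedralGroup.nat_card, hcard]⟩
  exact ⟨(MulEquiv.ofBijective _ hbij).symm⟩

end Recognition

/-- In a 2-group of order at least 4, the centralizer of an involution has order at least 4. -/
theorem card_centralizer_ge_four {T : Type*} [Group T] [Finite T] (hT : IsPGroup 2 T)
    (h4 : 4 ≤ Nat.card T) (y : T) (hy : orderOf y = 2) :
    4 ≤ Nat.card (Subgroup.centralizer ({y} : Set T)) := by
  have : Fact (Nat.Prime 2) := ⟨Nat.prime_two⟩
  have hy1 : y ≠ 1 := by intro h; rw [h, orderOf_one] at hy; omega
  have hyC : y ∈ Subgroup.centralizer ({y} : Set T) := by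
    rw [Subgroup.mem_centralizer_iff]; rintro _ rfl; rfl
  obtain ⟨k, hk⟩ := (hT.to_subgroup (Subgroup.centralizer ({y} : Set T))).exists_card_eq
  have hnt : Nontrivial T := by
    rw [← Finite.one_lt_card_iff_nontrivial]; omega
  have hZnt : Nontrivial (Subgroup.center T) := hT.center_nontrivial
  have hZne : Subgroup.center T ≠ ⊥ := (Subgroup.nontrivial_iff_ne_bot _).mp hZnt
  have hZle : Subgroup.center T ≤ Subgroup.centralizer ({y} : Set T) :=
    Subgroup.center_le_centralizer _
  rw [hk]
  by_contra hlt
  push Not at hlt
  have hk1 : k ≤ 1 := by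
    by_contra h2; push Not at h2
    have : 2 ^ 2 ≤ 2 ^ k := Nat.pow_le_pow_right (by norm_num) h2
    omega
  have hZ1 : 1 < Nat.card (Subgroup.center T) := by
    rw [Finite.one_lt_card_iff_nontrivial]; exact hZnt
  have hZ2 : Nat.card (Subgroup.center T) ≤ 2 ^ k := hk ▸ Subgroup.card_le_of_le hZle
  have hk' : k = 1 := by
    rcases Nat.eq_zero_or_pos k with h0 | hpos
    · rw [h0] at hZ2; omega
    · omega
  rw [hk', pow_one] at hZ2 hk
  have hZeq : Subgroup.center T = Subgroup.centralizer ({y} : Set T) :=
    Subgroup.eq_of_le_of_card_ge hZle (by omega)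
  have hyZ : y ∈ Subgroup.center T := hZeq ▸ hyC
  have htop : Subgroup.centralizer ({y} : Set T) = ⊤ := by
    rw [eq_top_iff]
    intro g _
    rw [Subgroup.mem_centralizer_iff]
    rintro _ rfl
    exact (Subgroup.mem_center_iff.mp hyZ g).symm
  rw [htop, Subgroup.card_top] at hk
  omega

/-- **Suzuki's lemma, concrete form.**  A non-cyclic finite 2-group `T` with an involution `y` whose
centralizer has order 4 has an element `a` of order `|T|/2` with `y ∉ ⟨a⟩`. -/
theorem exists_cyclic_of_centralizer_four : ∀ (N : ℕ) (T : Type u) [Group T] [Finite T],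
    Nat.card T = N → IsPGroup 2 T → ¬ IsCyclic T → ∀ y : T, orderOf y = 2 →
    Nat.card (Subgroup.centralizer ({y} : Set T)) = 4 →
    ∃ a : T, y ∉ Subgroup.zpowers a ∧ 2 * orderOf a = Nat.card T := by
  intro N
  induction N using Nat.strong_induction_on with
  | _ N ih =>
    intro T _ _ hN hT hcyc y hy hC
    classical
    have : Fact (Nat.Prime 2) := ⟨Nat.prime_two⟩
    have hy1 : y ≠ 1 := by intro h; rw [h, orderOf_one] at hy; omega
    have hyy : y * y = 1 := by rw [← pow_two, ← hy, pow_orderOf_eq_one]
    have hyinv : y⁻¹ = y := inv_eq_of_mul_eq_one_left hyy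
    obtain ⟨e, he⟩ := hT.exists_card_eq
    have hCle : Nat.card (Subgroup.centralizer ({y} : Set T)) ≤ Nat.card T :=
      Subgroup.card_le_card_group _
    have he2 : 2 ≤ e := by
      by_contra hlt
      push Not at hlt
      have h1 : 2 ^ e ≤ 2 ^ 1 := Nat.pow_le_pow_right (by norm_num) (by omega)
      rw [hC, he] at hCle
      omega
    have hyC : y ∈ Subgroup.centralizer ({y} : Set T) := by
      rw [Subgroup.mem_centralizer_iff]; rintro _ rfl; rfl
    by_cases he3 : e = 2
    · -- order 4
      have hT4 : Nat.card T = 4 := by rw [he, he3]; norm_num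
      have hzy : Nat.card (Subgroup.zpowers y) = 2 := by rw [Nat.card_zpowers, hy]
      obtain ⟨a, ha⟩ : ∃ a : T, a ∉ Subgroup.zpowers y := by
        by_contra hall
        push Not at hall
        have htop : Subgroup.zpowers y = ⊤ := eq_top_iff.mpr (fun g _ => hall g)
        rw [htop, Subgroup.card_top, hT4] at hzy
        omega
      have ha1 : a ≠ 1 := fun h => ha (h ▸ Subgroup.one_mem _)
      have hao : orderOf a = 2 := by
        have hdvd : orderOf a ∣ 2 ^ 2 := by
          have h1 := orderOf_dvd_natCard a
          rwa [hT4] at h1
        obtain ⟨j, hj, hj'⟩ := (Nat.dvd_prime_pow Nat.prime_two).mp hdvd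
        interval_cases j
        · rw [pow_zero, orderOf_eq_one_iff] at hj'
          exact absurd hj' ha1
        · simpa using hj'
        · exfalso; apply hcyc
          exact isCyclic_of_orderOf_eq_card a (by rw [hj', hT4]; norm_num)
      refine ⟨a, ?_, by rw [hao, hT4]⟩
      intro hya
      have hle : Subgroup.zpowers y ≤ Subgroup.zpowers a := by rw [Subgroup.zpowers_le]; exact hya
      have heq := Subgroup.eq_of_le_of_card_ge hle
        (by rw [Nat.card_zpowers, Nat.card_zpowers, hao, hy])
      exact ha (heq ▸ Subgroup.mem_zpowers a)
    · -- order at least 8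
      have he3' : 3 ≤ e := by omega
      have h8 : 2 ^ 3 ≤ 2 ^ e := Nat.pow_le_pow_right (by norm_num) he3'
      have hyZ : y ∉ Subgroup.center T := by
        intro h
        have htop : Subgroup.centralizer ({y} : Set T) = ⊤ := by
          rw [eq_top_iff]
          intro g _
          rw [Subgroup.mem_centralizer_iff]
          rintro _ rfl
          exact (Subgroup.mem_center_iff.mp h g).symm
        rw [htop, Subgroup.card_top, he] at hC
        omega
      have hZle : Subgroup.center T ≤ Subgroup.centralizer ({y} : Set T) :=
        Subgroup.center_le_centralizer _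
      have hnt : Nontrivial T := by
        rw [← Finite.one_lt_card_iff_nontrivial]; omega
      have hZcard : Nat.card (Subgroup.center T) = 2 := by
        obtain ⟨j, hj⟩ := (hT.to_subgroup (Subgroup.center T)).exists_card_eq
        have hZnt : Nontrivial (Subgroup.center T) := hT.center_nontrivial
        have hZ1 : 1 < Nat.card (Subgroup.center T) := by
          rw [Finite.one_lt_card_iff_nontrivial]; exact hZnt
        have hlt : Subgroup.center T < Subgroup.centralizer ({y} : Set T) :=
          lt_of_le_of_ne hZle (fun h => hyZ (h ▸ hyC))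
        have h1 := card_lt_of_lt hlt
        rw [hC, hj] at h1
        have hj2 : j < 2 := by
          by_contra h2; push Not at h2
          have : 2 ^ 2 ≤ 2 ^ j := Nat.pow_le_pow_right (by norm_num) h2
          omega
        have hj1 : j ≠ 0 := by
          intro h0
          rw [h0, pow_zero] at hj
          omega
        have hj' : j = 1 := by omega
        rw [hj, hj', pow_one]
      obtain ⟨z, hzZ, hz1, hZall⟩ : ∃ z ∈ Subgroup.center T, z ≠ 1 ∧
          ∀ w ∈ Subgroup.center T, w = 1 ∨ w = z := by
        obtain ⟨z', hz', huniq⟩ := (Nat.card_eq_two_iff' (1 : ↥(Subgroup.center T))).mp hZcard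
        refine ⟨z', z'.2, fun h => hz' (Subtype.ext h), ?_⟩
        intro w hw
        by_cases hw1 : w = 1
        · exact Or.inl hw1
        · right
          have h1 := huniq ⟨w, hw⟩ (fun h => hw1 (congrArg Subtype.val h))
          exact congrArg Subtype.val h1
      have hzc : ∀ g : T, g * z = z * g := fun g => Subgroup.mem_center_iff.mp hzZ g
      have hzz : z * z = 1 := by
        rcases hZall (z * z) (Subgroup.mul_mem _ hzZ hzZ) with h | h
        · exact h
        · exfalso; exact hz1 (mul_eq_left.mp h)
      have hzinv : z⁻¹ = z := inv_eq_of_mul_eq_one_left hzz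
      have hzy : z ≠ y := fun h => hyZ (h ▸ hzZ)
      -- the centralizer of y is {1, y, z, yz}
      have hCall : ∀ c : T, y * c = c * y → c = 1 ∨ c = y ∨ c = z ∨ c = y * z := by
        intro c hc
        have hcC : c ∈ Subgroup.centralizer ({y} : Set T) := by
          rw [Subgroup.mem_centralizer_iff]; rintro _ rfl; exact hc
        have hzC : z ∈ Subgroup.centralizer ({y} : Set T) := hZle hzZ
        have hidx : ((Subgroup.zpowers y).subgroupOf (Subgroup.centralizer ({y} : Set T))).index = 2 :=
          index_subgroupOf_eq_two_of_card (Subgroup.zpowers_le.mpr hyC) 1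
            (by rw [Nat.card_zpowers, hy, pow_one]) (by rw [hC]; norm_num)
        have hpow : ∀ w ∈ Subgroup.zpowers y, w = 1 ∨ w = y := by
          intro w hw
          obtain ⟨k, rfl⟩ := Subgroup.mem_zpowers_iff.mp hw
          rcases Int.even_or_odd k with ⟨m, rfl⟩ | ⟨m, rfl⟩
          · left
            rw [← two_mul, zpow_mul, zpow_two, hyy, one_zpow]
          · right
            rw [zpow_add, zpow_mul, zpow_two, hyy, one_zpow, one_mul, zpow_one]
        by_cases hcy : c ∈ Subgroup.zpowers y
        · rcases hpow c hcy with h | h
          · exact Or.inl h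
          · exact Or.inr (Or.inl h)
        · have hzy' : z ∉ Subgroup.zpowers y := by
            intro h
            rcases hpow z h with h | h
            · exact hz1 h
            · exact hzy h
          have h1 := Subgroup.mul_mem_iff_of_index_two hidx
            (a := (⟨c, hcC⟩ : ↥(Subgroup.centralizer ({y} : Set T)))) (b := ⟨z, hzC⟩)
          have h2 : (⟨c, hcC⟩ : ↥(Subgroup.centralizer ({y} : Set T))) * ⟨z, hzC⟩ ∈
              (Subgroup.zpowers y).subgroupOf (Subgroup.centralizer ({y} : Set T)) := by
            rw [h1]; simp only [Subgroup.mem_subgroupOf]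
            exact ⟨fun h => absurd h hcy, fun h => absurd h hzy'⟩
          rw [Subgroup.mem_subgroupOf] at h2
          have h3 : c * z ∈ Subgroup.zpowers y := h2
          rcases hpow _ h3 with h | h
          · right; right; left
            have h4 : c = z⁻¹ := eq_inv_of_mul_eq_one_left h
            rw [h4, hzinv]
          · right; right; right
            have h4 : c = y * z⁻¹ := by rw [← h]; group
            rw [h4, hzinv]
      -- the quotient by the centre
      obtain ⟨π, hπdef⟩ : ∃ π : T →* T ⧸ Subgroup.center T, π = QuotientGroup.mk' (Subgroup.center T) :=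
        ⟨_, rfl⟩
      have hπ1 : ∀ g : T, π g = 1 ↔ g ∈ Subgroup.center T := by
        intro g; rw [hπdef]; exact QuotientGroup.eq_one_iff g
      have hπsurj : Function.Surjective π := by
        rw [hπdef]; exact QuotientGroup.mk'_surjective _
      have hcardQ : Nat.card (T ⧸ Subgroup.center T) * 2 = Nat.card T := by
        rw [← hZcard]; exact (Subgroup.card_eq_card_quotient_mul_card_subgroup _).symm
      have hQT : IsPGroup 2 (T ⧸ Subgroup.center T) := hT.to_quotient _
      have hQcyc : ¬ IsCyclic (T ⧸ Subgroup.center T) := by
        intro hc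
        apply hyZ
        rw [Subgroup.mem_center_iff]
        intro g
        exact commutative_of_cyclic_center_quotient π (by rw [hπdef, QuotientGroup.ker_mk']) g y
      have hπy : orderOf (π y) = 2 := by
        apply orderOf_eq_prime
        · rw [← map_pow, pow_two, hyy, map_one]
        · intro h; exact hyZ ((hπ1 y).mp h)
      have hQcard4 : 4 ≤ Nat.card (T ⧸ Subgroup.center T) := by omega
      have hCbar : Nat.card (Subgroup.centralizer ({π y} : Set (T ⧸ Subgroup.center T))) = 4 := by
        apply le_antisymm
        · obtain ⟨Cb, hCb⟩ : ∃ Cb : Subgroup (T ⧸ Subgroup.center T),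
              Cb = Subgroup.centralizer ({π y} : Set (T ⧸ Subgroup.center T)) := ⟨_, rfl⟩
          rw [← hCb]
          have hNmem : ∀ s : ↥(Cb.comap π), (s : T) * y * (s : T)⁻¹ * y⁻¹ ∈ Subgroup.center T := by
            intro s
            have hs0 : π (s : T) ∈ Cb := s.2
            have hs : π (s : T) ∈ Subgroup.centralizer ({π y} : Set (T ⧸ Subgroup.center T)) := by
              rw [← hCb]; exact hs0
            rw [Subgroup.mem_centralizer_iff] at hs
            have hs' := hs (π y) rfl
            apply (hπ1 _).mp
            simp only [map_mul, map_inv]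
            rw [← hs']; group
          let ψ : ↥(Cb.comap π) →* ↥(Subgroup.center T) :=
            { toFun := fun s => ⟨(s : T) * y * (s : T)⁻¹ * y⁻¹, hNmem s⟩
              map_one' := by apply Subtype.ext; simp
              map_mul' := by
                intro s t
                apply Subtype.ext
                have hc := Subgroup.mem_center_iff.mp (hNmem t)
                show ((s : T) * (t : T)) * y * ((s : T) * (t : T))⁻¹ * y⁻¹ =
                  ((s : T) * y * (s : T)⁻¹ * y⁻¹) * ((t : T) * y * (t : T)⁻¹ * y⁻¹)
                have h1 := hc ((s : T) * y * (s : T)⁻¹ * y⁻¹)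
                rw [h1]
                have h2 := hc (s : T)
                calc (s : T) * t * y * ((s : T) * t)⁻¹ * y⁻¹
                    = ((s : T) * ((t : T) * y * (t : T)⁻¹ * y⁻¹)) * y * (s : T)⁻¹ * y⁻¹ := by group
                  _ = (((t : T) * y * (t : T)⁻¹ * y⁻¹) * (s : T)) * y * (s : T)⁻¹ * y⁻¹ := by rw [h2]
                  _ = _ := by group }
          have hker : Nat.card ψ.ker ≤ 4 := by
            rw [← hC]
            have hmemC : ∀ s : ↥ψ.ker, ((s : ↥(Cb.comap π)) : T) ∈ Subgroup.centralizer ({y} : Set T) := by
              intro s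
              have hs : ψ (s : ↥(Cb.comap π)) = 1 := s.2
              have hs' : ((s : ↥(Cb.comap π)) : T) * y * ((s : ↥(Cb.comap π)) : T)⁻¹ * y⁻¹ = 1 :=
                congrArg Subtype.val hs
              rw [Subgroup.mem_centralizer_iff]
              rintro _ rfl
              have h3 := mul_inv_eq_one.mp hs'
              exact (mul_inv_eq_iff_eq_mul.mp h3).symm
            apply Nat.card_le_card_of_injective
              (fun s : ↥ψ.ker => (⟨((s : ↥(Cb.comap π)) : T), hmemC s⟩ :
                ↥(Subgroup.centralizer ({y} : Set T))))
            intro s t hst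
            have hst' : ((s : ↥(Cb.comap π)) : T) = ((t : ↥(Cb.comap π)) : T) :=
              congrArg (fun c : ↥(Subgroup.centralizer ({y} : Set T)) => (c : T)) hst
            exact Subtype.ext (Subtype.ext hst')
          have hrange : Nat.card ψ.range ≤ 2 := by
            rw [← hZcard]; exact Subgroup.card_le_card_group _
          have hN8 : Nat.card (Cb.comap π) ≤ 8 := by
            have h1 := Subgroup.card_mul_index ψ.ker
            rw [Subgroup.index_ker] at h1
            calc Nat.card (Cb.comap π) = Nat.card ψ.ker * Nat.card ψ.range := h1.symm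
              _ ≤ 4 * 2 := Nat.mul_le_mul hker hrange
          have hidx : (Cb.comap π).index = Cb.index := Subgroup.index_comap_of_surjective Cb hπsurj
          have h1 := Subgroup.card_mul_index (Cb.comap π)
          have h2 := Subgroup.card_mul_index Cb
          have hpos : 0 < Cb.index := Nat.pos_of_ne_zero Subgroup.index_ne_zero_of_finite
          rw [hidx] at h1
          have h3 : Nat.card (Cb.comap π) = Nat.card Cb * 2 := by
            have h4 : Nat.card (Cb.comap π) * Cb.index = Nat.card Cb * 2 * Cb.index := by
              rw [h1, ← hcardQ, ← h2]; ring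
            exact Nat.eq_of_mul_eq_mul_right hpos h4
          omega
        · exact card_centralizer_ge_four hQT hQcard4 (π y) hπy
      obtain ⟨ab, hab, habo⟩ := ih (Nat.card (T ⧸ Subgroup.center T)) (by omega)
        (T ⧸ Subgroup.center T) rfl hQT hQcyc (π y) hπy hCbar
      obtain ⟨a, rfl⟩ := hπsurj ab
      obtain ⟨m, hm⟩ : ∃ m : ℕ, m = orderOf (π a) := ⟨_, rfl⟩
      rw [← hm] at habo
      have hm4 : m * 4 = 2 ^ e := by omega
      have hmj : m = 2 ^ (e - 2) := by
        have h1 : 2 ^ e = 2 ^ (e - 2) * 4 := by
          have : e = (e - 2) + 2 := by omega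
          conv_lhs => rw [this]
          rw [pow_add]; norm_num
        rw [h1] at hm4
        exact Nat.eq_of_mul_eq_mul_right (by norm_num) hm4
      have hmpos : 0 < m := by rw [hmj]; positivity
      have ham : a ^ m ∈ Subgroup.center T := by
        rw [← hπ1, map_pow, hm, pow_orderOf_eq_one]
      have hnot : ∀ i : ℕ, ∀ ζ ∈ Subgroup.center T, y ≠ a ^ i * ζ := by
        intro i ζ hζ h
        apply hab
        rw [h, map_mul, map_pow, (hπ1 ζ).mpr hζ, mul_one]
        exact Subgroup.pow_mem _ (Subgroup.mem_zpowers _) i
      rcases hZall (a ^ m) ham with h1 | hz'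
      · -- a^m = 1
        have hao : orderOf a = m := by
          apply Nat.dvd_antisymm (orderOf_dvd_of_pow_eq_one h1)
          rw [hm]; exact orderOf_map_dvd π a
        have hidx₂ : (Subgroup.zpowers (π a)).index = 2 := by
          have h2 := Subgroup.card_mul_index (Subgroup.zpowers (π a))
          rw [Nat.card_zpowers, ← hm, ← habo] at h2
          have h3 : m * (Subgroup.zpowers (π a)).index = m * 2 := by rw [h2]; ring
          exact Nat.eq_of_mul_eq_mul_left hmpos h3
        have hn : π (y * a * y⁻¹) ∈ Subgroup.zpowers (π a) := by
          rw [map_mul, map_mul, map_inv]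
          exact (Subgroup.normal_of_index_eq_two hidx₂).conj_mem _ (Subgroup.mem_zpowers _) _
        obtain ⟨k, hk⟩ : ∃ k : ℕ, (π a) ^ k = π (y * a * y⁻¹) := by
          have h2 := (mem_powers_iff_mem_zpowers (x := π a) (y := π (y * a * y⁻¹))).mpr hn
          exact (Submonoid.mem_powers_iff _ _).mp h2
        have hζ : y * a * y⁻¹ * (a ^ k)⁻¹ ∈ Subgroup.center T := by
          rw [← hπ1, map_mul, map_inv, map_pow, hk, mul_inv_cancel]
        have hconj : y * a * y⁻¹ = (y * a * y⁻¹ * (a ^ k)⁻¹) * a ^ k := by group
        obtain ⟨ζ, hζdef⟩ : ∃ ζ : T, ζ = y * a * y⁻¹ * (a ^ k)⁻¹ := ⟨_, rfl⟩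
        rw [← hζdef] at hζ hconj
        have hζc : ∀ g : T, g * ζ = ζ * g := fun g => Subgroup.mem_center_iff.mp hζ g
        have hζ2 : ζ * ζ = 1 := by
          rcases hZall ζ hζ with h | h
          · rw [h, one_mul]
          · rw [h]; exact hzz
        have haZ : a ∉ Subgroup.center T := by
          intro h
          have h2 : π a = 1 := (hπ1 a).mpr h
          rw [h2, orderOf_one] at hm
          have h3 : 4 ≤ 2 * m := by omega
          omega
        by_cases hm2 : m = 2
        · -- |T| = 8
          have haa : a * a = 1 := by rw [← pow_two, ← hm2]; exact h1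
          have ha1 : a ≠ 1 := fun h => haZ (h ▸ Subgroup.one_mem _)
          have hak : a ^ k = 1 ∨ a ^ k = a := by
            rcases Nat.even_or_odd k with ⟨j, rfl⟩ | ⟨j, rfl⟩
            · left; rw [← two_mul, pow_mul, pow_two, haa, one_pow]
            · right; rw [pow_succ, pow_mul, pow_two, haa, one_pow, one_mul]
          have hconj' : y * a * y⁻¹ = z * a := by
            rcases hZall ζ hζ with hζ1 | hζz <;> rcases hak with hk1 | hka
            · exfalso
              rw [hζ1, hk1, one_mul] at hconj
              apply ha1
              have h2 : a = y⁻¹ * (y * a * y⁻¹) * y := by group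
              rw [h2, hconj]; group
            · exfalso
              rw [hζ1, hka, one_mul] at hconj
              have h2 : y * a = a * y := by
                calc y * a = (y * a * y⁻¹) * y := by group
                  _ = a * y := by rw [hconj]
              rcases hCall a h2 with h3 | h3 | h3 | h3
              · exact ha1 h3
              · exact hnot 1 1 (Subgroup.one_mem _) (by rw [pow_one, mul_one]; exact h3.symm)
              · exact haZ (h3 ▸ hzZ)
              · apply hnot 1 z hzZ
                rw [pow_one, h3, mul_assoc, hzz, mul_one]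
            · exfalso
              rw [hζz, hk1, mul_one] at hconj
              apply haZ
              have h2 : a = y⁻¹ * (y * a * y⁻¹) * y := by group
              rw [h2, hconj]
              have h3 : y⁻¹ * z * y = z := by
                rw [mul_assoc, ← hzc y, ← mul_assoc, inv_mul_cancel, one_mul]
              rw [h3]; exact hzZ
            · rw [hζz, hka] at hconj
              exact hconj
          have hbb : (y * a) * (y * a) = z := by
            calc (y * a) * (y * a) = (y * a * y⁻¹) * (y * y) * a := by group
              _ = z * (a * a) := by rw [hconj', hyy]; group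
              _ = z := by rw [haa, mul_one]
          have hbo : orderOf (y * a) = 4 := by
            have h2 : orderOf (y * a) = 2 ^ (1 + 1) := by
              apply orderOf_eq_prime_pow
              · rw [pow_one, pow_two, hbb]; exact hz1
              · have h3 : (y * a) ^ 2 ^ (1 + 1) = ((y * a) * (y * a)) * ((y * a) * (y * a)) := by
                  norm_num [pow_succ]
                  group
                rw [h3, hbb, hzz]
            rw [h2]; norm_num
          refine ⟨y * a, ?_, ?_⟩
          · intro hyb
            have h2 := (mem_zpowers_iff_mem_range_orderOf (x := y * a) (y := y)).mp hyb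
            rw [hbo, Finset.mem_image] at h2
            obtain ⟨i, hi, hiy⟩ := h2
            rw [Finset.mem_range] at hi
            have hiy' : (y * a) ^ i = y := hiy
            interval_cases i
            · rw [pow_zero] at hiy'; exact hy1 hiy'.symm
            · rw [pow_one] at hiy'
              exact ha1 (mul_eq_left.mp hiy')
            · rw [pow_two, hbb] at hiy'; exact hzy hiy'
            · have h3 : (y * a) ^ 3 = ((y * a) * (y * a)) * (y * a) := by
                rw [pow_succ, pow_two]
              rw [h3, hbb] at hiy'
              -- z * (y * a) = y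
              apply haZ
              have h4 : a = z⁻¹ := by
                have h5 : y * (z * a) = y := by
                  calc y * (z * a) = (y * z) * a := by group
                    _ = z * y * a := by rw [hzc y]
                    _ = z * (y * a) := by group
                    _ = y := hiy'
                have h6 : z * a = 1 := mul_eq_left.mp h5
                exact eq_inv_of_mul_eq_one_right h6
              rw [h4, hzinv]; exact hzZ
          · rw [hbo, he, ← hm4, hm2]
        · -- impossible
          exfalso
          have he4 : 4 ≤ e := by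
            by_contra hlt
            push Not at hlt
            have : e = 3 := by omega
            rw [this] at hmj
            exact hm2 (by rw [hmj]; norm_num)
          obtain ⟨m', hm'⟩ : ∃ m' : ℕ, m' = 2 ^ (e - 3) := ⟨_, rfl⟩
          have hmm' : m = m' + m' := by
            rw [hmj, hm', ← two_mul, ← pow_succ']
            congr 1; omega
          have hm'even : ∃ q : ℕ, m' = q + q := by
            refine ⟨2 ^ (e - 4), ?_⟩
            rw [hm', ← two_mul, ← pow_succ']
            congr 1; omega
          have hm'pos : 0 < m' := by rw [hm']; positivity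
          have htt : a ^ m' * a ^ m' = 1 := by rw [← pow_add, ← hmm', h1]
          have ht1 : a ^ m' ≠ 1 := pow_ne_one_of_lt_orderOf hm'pos.ne' (by rw [hao]; omega)
          have hζm' : ζ ^ m' = 1 := by
            obtain ⟨q, hq⟩ := hm'even
            rw [hq, ← two_mul, pow_mul, pow_two, hζ2, one_pow]
          have hconjt : y * a ^ m' * y⁻¹ = (a ^ m') ^ k := by
            rw [← conj_pow, hconj, (show Commute ζ (a ^ k) from (hζc (a ^ k)).symm).mul_pow, hζm',
              one_mul, ← pow_mul, ← pow_mul, mul_comm]
          have htk : (a ^ m') ^ k = 1 ∨ (a ^ m') ^ k = a ^ m' := by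
            rcases Nat.even_or_odd k with ⟨j, rfl⟩ | ⟨j, rfl⟩
            · left; rw [← two_mul, pow_mul, pow_two, htt, one_pow]
            · right; rw [pow_succ, pow_mul, pow_two, htt, one_pow, one_mul]
          have hcomm : y * a ^ m' = a ^ m' * y := by
            rcases htk with h2 | h2
            · exfalso
              rw [h2] at hconjt
              apply ht1
              have h3 : a ^ m' = y⁻¹ * (y * a ^ m' * y⁻¹) * y := by group
              rw [h3, hconjt]; group
            · rw [h2] at hconjt
              calc y * a ^ m' = (y * a ^ m' * y⁻¹) * y := by group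
                _ = a ^ m' * y := by rw [hconjt]
          rcases hCall _ hcomm with h3 | h3 | h3 | h3
          · exact ht1 h3
          · exact hnot m' 1 (Subgroup.one_mem _) (by rw [mul_one]; exact h3.symm)
          · have h4 : π (a ^ m') = 1 := (hπ1 _).mpr (h3 ▸ hzZ)
            rw [map_pow] at h4
            have h5 := orderOf_dvd_of_pow_eq_one h4
            rw [← hm] at h5
            have h6 := Nat.le_of_dvd hm'pos h5
            omega
          · apply hnot m' z hzZ
            rw [h3, mul_assoc, hzz, mul_one]
      · -- a^m = z: a has order 2m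
        have hao : orderOf a = 2 ^ ((e - 2) + 1) := by
          apply orderOf_eq_prime_pow
          · rw [← hmj, hz']; exact hz1
          · rw [pow_succ, pow_mul, ← hmj, hz', pow_two, hzz]
        refine ⟨a, ?_, ?_⟩
        · intro hya
          apply hab
          obtain ⟨k, hk⟩ := Subgroup.mem_zpowers_iff.mp hya
          rw [← hk, map_zpow]
          exact Subgroup.zpow_mem _ (Subgroup.mem_zpowers _) k
        · rw [hao, he, ← pow_succ']
          congr 1; omega

end Cfsg.Agent.Helper53
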