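import Mathlib
import Cfsg.Agent.Helper9.OrdTools
import Cfsg.Agent.Helper9.OrdTools2
import Cfsg.Agent.Helper8.SylFix

set_option autoImplicit false
set_option linter.style.haveILetI false

/-!
# PIECE TI4 of CALL S0435 (helper52): Burnside count of (element, Sylow 3-subgroup) pairs

For a Sylow `3`-subgroup `R`, the number of pairs `(r, S)` with `r ∈ R`, `S` a Sylow
`3`-subgroup containing `r`, is divisible by `|R|` (it is `|R|` times the number of `R`-orbits
on the Sylow `3`-subgroups).
-/

namespace Cfsg.Agent.Helper53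

variable {G : Type*} [Group G] [Finite G]

/-- an element `r` of the Sylow `3`-subgroup `R` fixes the Sylow `3`-subgroup `S` iff it lies
in `S`. -/
theorem u7920_fix_iff_mem (R : Sylow 3 G) (r : ↥(R : Subgroup G)) (S : Sylow 3 G) :
    r • S = S ↔ (r : G) ∈ (S : Subgroup G) := by
  have h1 : r • S = (r : G) • S := rfl
  rw [h1, Sylow.smul_eq_iff_mem_normalizer]
  constructor
  · intro h
    have hP : IsPGroup 3 (Subgroup.zpowers (r : G)) := by
      refine IsPGroup.to_le R.2 ?_
      rw [Subgroup.zpowers_le]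
      exact r.2
    have hle : Subgroup.zpowers (r : G) ≤ Subgroup.normalizer ((S : Subgroup G) : Set G) := by
      rw [Subgroup.zpowers_le]
      exact h
    exact Cfsg.Agent.Helper9.OrdTools.mem_sylow_of_mem_normalizer S hP hle
      (Subgroup.mem_zpowers _)
  · intro h
    exact Subgroup.le_normalizer h

theorem u7920_pairs (R : Sylow 3 G) :
    Nat.card ↥(R : Subgroup G) ∣
      Nat.card {p : ↥(R : Subgroup G) × Sylow 3 G // (p.1 : G) ∈ (p.2 : Subgroup G)} := by
  classical
  haveI : Fintype (Sylow 3 G) := Fintype.ofFinite _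
  haveI : Fintype ↥(R : Subgroup G) := Fintype.ofFinite _
  have hB := MulAction.sum_card_fixedBy_eq_card_orbits_mul_card_group
    ↥(R : Subgroup G) (Sylow 3 G)
  let e : {p : ↥(R : Subgroup G) × Sylow 3 G // (p.1 : G) ∈ (p.2 : Subgroup G)} ≃
      (Σ r : ↥(R : Subgroup G), MulAction.fixedBy (Sylow 3 G) r) :=
    { toFun := fun p => ⟨p.1.1, ⟨p.1.2, (u7920_fix_iff_mem R p.1.1 p.1.2).mpr p.2⟩⟩
      invFun := fun q => ⟨(q.1, q.2.1), (u7920_fix_iff_mem R q.1 q.2.1).mp q.2.2⟩
      left_inv := fun p => rfl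
      right_inv := fun q => rfl }
  have h1 : Nat.card (Σ r : ↥(R : Subgroup G), MulAction.fixedBy (Sylow 3 G) r) =
      Fintype.card (Σ r : ↥(R : Subgroup G), MulAction.fixedBy (Sylow 3 G) r) :=
    Nat.card_eq_fintype_card
  have h2 : Nat.card ↥(R : Subgroup G) = Fintype.card ↥(R : Subgroup G) :=
    Nat.card_eq_fintype_card
  rw [Nat.card_congr e, h1, Fintype.card_sigma, hB, h2]
  exact Dvd.intro_left _ rfl

end Cfsg.Agent.Helper53
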