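import Mathlib

/-!
# CALL BGC (helper25), PIECE BJ (helper53)
-/

set_option autoImplicit false

namespace Cfsg.Agent.Helper53

open Subgroup

universe u

variable {G : Type u} [Group G] [Finite G]

/-- BJ (PURE). `r ↦ r M r⁻¹` is a bijection from `R` onto the conjugates of `M` containing `a`. -/
theorem bgc_card_orbit {M R : Subgroup G} {a : G}
    (h1 : ∀ g : G, a ∈ M.map (MulAut.conj g).toMonoidHom →
      ∃ r ∈ R, M.map (MulAut.conj g).toMonoidHom = M.map (MulAut.conj r).toMonoidHom)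
    (h2 : ∀ r ∈ R, a ∈ M.map (MulAut.conj r).toMonoidHom)
    (h3 : ∀ r ∈ R, ∀ r' ∈ R,
      M.map (MulAut.conj r).toMonoidHom = M.map (MulAut.conj r').toMonoidHom → r = r') :
    Nat.card R =
      Set.ncard {C : Subgroup G | (∃ g : G, C = M.map (MulAut.conj g).toMonoidHom) ∧ a ∈ C} := by
  obtain ⟨f, hf⟩ : ∃ f : R → Subgroup G, ∀ r : R, f r = M.map (MulAut.conj (r : G)).toMonoidHom :=
    ⟨_, fun _ => rfl⟩
  have hinj : Function.Injective f := by
    intro r r' hrr
    rw [hf, hf] at hrr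
    exact Subtype.ext (h3 r.1 r.2 r'.1 r'.2 hrr)
  have hrange : {C : Subgroup G | (∃ g : G, C = M.map (MulAut.conj g).toMonoidHom) ∧ a ∈ C} =
      Set.range f := by
    ext C
    constructor
    · rintro ⟨⟨g, rfl⟩, haC⟩
      obtain ⟨r, hr, hgr⟩ := h1 g haC
      exact ⟨⟨r, hr⟩, by rw [hf, hgr]⟩
    · rintro ⟨r, rfl⟩
      rw [hf]
      exact ⟨⟨r.1, rfl⟩, h2 r.1 r.2⟩
  rw [hrange, ← Nat.card_coe_set_eq]
  exact (Nat.card_range_of_injective hinj).symm

end Cfsg.Agent.Helper53
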