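import Cfsg.Agent.Helper53.PGroup

set_option autoImplicit false

/-!
The Baer–Suzuki theorem for involutions (Alperin–Lyons proof): an involution `x` of a finite group
whose product with each of its conjugates is a `2`-element lies in a normal `2`-subgroup.
-/

namespace Cfsg.Agent.Helper53

variable {G : Type*} [Group G]

theorem isPGroup_zpowers_of_pow {p : ℕ} {y : G} (k : ℕ) (hk : y ^ (p ^ k) = 1) :
    IsPGroup p (Subgroup.zpowers y) := by
  rintro ⟨g, hg⟩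
  obtain ⟨i, rfl⟩ := Subgroup.mem_zpowers_iff.mp hg
  refine ⟨k, Subtype.ext ?_⟩
  show (y ^ i) ^ (p ^ k) = 1
  rw [← zpow_natCast, ← zpow_mul, mul_comm, zpow_mul, zpow_natCast, hk, one_zpow]

/-- Two involutions whose product is a `2`-element, both normalizing a `2`-subgroup `E`, lie together with
`E` in a common `2`-subgroup. -/
theorem exists_isPGroup_two_of_invol [Finite G] {y₁ y₂ : G} (E : Subgroup G) (hE : IsPGroup 2 E)
    (h1 : y₁ * y₁ = 1) (h2 : y₂ * y₂ = 1) (k : ℕ) (hk : (y₁ * y₂) ^ (2 ^ k) = 1)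
    (hn1 : y₁ ∈ Subgroup.normalizer (E : Set G)) (hn2 : y₂ ∈ Subgroup.normalizer (E : Set G)) :
    ∃ K : Subgroup G, IsPGroup 2 K ∧ E ≤ K ∧ y₁ ∈ K ∧ y₂ ∈ K := by
  have : Fact (Nat.Prime 2) := ⟨Nat.prime_two⟩
  have hy1inv : y₁⁻¹ = y₁ := inv_eq_of_mul_eq_one_left h1
  have hy2inv : y₂⁻¹ = y₂ := inv_eq_of_mul_eq_one_left h2
  have hp1 : IsPGroup 2 (Subgroup.zpowers y₁) :=
    isPGroup_zpowers_of_pow 1 (by rw [pow_one, pow_two]; exact h1)
  have hpr : IsPGroup 2 (Subgroup.zpowers (y₁ * y₂)) := isPGroup_zpowers_of_pow k hk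
  have hnorm : Subgroup.zpowers y₁ ≤
      Subgroup.normalizer ((Subgroup.zpowers (y₁ * y₂) : Subgroup G) : Set G) := by
    rw [Subgroup.zpowers_le, mem_normalizer_iff_map_conj]
    apply map_conj_eq_of_le
    rw [MonoidHom.map_zpowers, Subgroup.zpowers_le]
    have h3 : (MulAut.conj y₁).toMonoidHom (y₁ * y₂) = (y₁ * y₂)⁻¹ := by
      show y₁ * (y₁ * y₂) * y₁⁻¹ = (y₁ * y₂)⁻¹
      rw [mul_inv_rev, hy1inv, hy2inv, ← mul_assoc, h1, one_mul]
    rw [h3]; exact Subgroup.inv_mem _ (Subgroup.mem_zpowers _)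
  have hK₁ : IsPGroup 2 (Subgroup.zpowers y₁ ⊔ Subgroup.zpowers (y₁ * y₂) : Subgroup G) :=
    IsPGroup.to_sup_of_normal_right' hp1 hpr hnorm
  have hK₁N : Subgroup.zpowers y₁ ⊔ Subgroup.zpowers (y₁ * y₂) ≤ Subgroup.normalizer (E : Set G) :=
    sup_le (Subgroup.zpowers_le.mpr hn1) (Subgroup.zpowers_le.mpr (Subgroup.mul_mem _ hn1 hn2))
  refine ⟨(Subgroup.zpowers y₁ ⊔ Subgroup.zpowers (y₁ * y₂)) ⊔ E,
    IsPGroup.to_sup_of_normal_right' hK₁ hE hK₁N, le_sup_right, ?_, ?_⟩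
  · exact Subgroup.mem_sup_left (Subgroup.mem_sup_left (Subgroup.mem_zpowers y₁))
  · apply Subgroup.mem_sup_left
    have h4 : y₁⁻¹ * (y₁ * y₂) ∈ Subgroup.zpowers y₁ ⊔ Subgroup.zpowers (y₁ * y₂) :=
      Subgroup.mul_mem _ (Subgroup.inv_mem _ (Subgroup.mem_sup_left (Subgroup.mem_zpowers y₁)))
        (Subgroup.mem_sup_right (Subgroup.mem_zpowers _))
    rwa [inv_mul_cancel_left] at h4

/-- The conjugates of `x` lying in the subgroup `H`. -/
def conjSet (x : G) (H : Subgroup G) : Set G := {y | (∃ g : G, y = g * x * g⁻¹) ∧ y ∈ H}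

theorem conjSet_mono (x : G) {H K : Subgroup G} (h : H ≤ K) : conjSet x H ⊆ conjSet x K :=
  fun _ hy => ⟨hy.1, h hy.2⟩

theorem conjSet_map (x : G) (H : Subgroup G) (g : G) :
    conjSet x (H.map (MulAut.conj g).toMonoidHom) = (fun y => g * y * g⁻¹) '' conjSet x H := by
  ext y
  constructor
  · rintro ⟨⟨g', rfl⟩, hy⟩
    rw [mem_map_conj] at hy
    refine ⟨g⁻¹ * (g' * x * g'⁻¹) * g, ⟨⟨g⁻¹ * g', by group⟩, hy⟩, by group⟩
  · rintro ⟨y', ⟨⟨g', rfl⟩, hy'⟩, rfl⟩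
    exact ⟨⟨g * g', by group⟩, conj_mem_map_conj hy'⟩

theorem ncard_conjSet_map [Finite G] (x : G) (H : Subgroup G) (g : G) :
    (conjSet x (H.map (MulAut.conj g).toMonoidHom)).ncard = (conjSet x H).ncard := by
  rw [conjSet_map]
  apply Set.ncard_image_of_injective
  intro a b hab
  have h1 : g * a * g⁻¹ = g * b * g⁻¹ := hab
  have h2 : a = g⁻¹ * (g * a * g⁻¹) * g := by group
  rw [h2, h1]; group

/-- Normalizer growth for conjugates: if `E` is generated by the conjugates of `x` it contains, `E ≤ R`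
for a `2`-group `R`, and some conjugate of `x` lies in `R` but not in `E`, then some conjugate of `x` in
`R \ E` normalizes `E`. -/
theorem exists_conj_normalizing [Finite G] (x : G) (R : Subgroup G) (hR : IsPGroup 2 R)
    (E : Subgroup G) (D : Set G) (hE : E = Subgroup.closure D) (hD : D = conjSet x E) (hER : E ≤ R)
    (y₀ : G) (hy₀ : y₀ ∈ conjSet x R) (hy₀E : y₀ ∉ E) :
    ∃ y ∈ conjSet x R, y ∉ E ∧ y ∈ Subgroup.normalizer (E : Set G) := by
  have : Fact (Nat.Prime 2) := ⟨Nat.prime_two⟩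
  have hpE : (fun M : Subgroup G => E ≤ M ∧ M ≤ R ∧ conjSet x M ⊆ (E : Set G)) E :=
    ⟨le_rfl, hER, fun y hy => hy.2⟩
  obtain ⟨M, hEM, hMmax⟩ := Finite.exists_le_maximal
    (p := fun M : Subgroup G => E ≤ M ∧ M ≤ R ∧ conjSet x M ⊆ (E : Set G)) hpE
  obtain ⟨⟨hM1, hM2, hM3⟩, hMmax'⟩ := hMmax
  have hMR : M ≠ R := by
    intro h
    rw [h] at hM3
    exact hy₀E (hM3 hy₀)
  obtain ⟨n, hnR, hnM, hnN⟩ := exists_mem_normalizer_not_mem hR (lt_of_le_of_ne hM2 hMR)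
  have hM' : ¬ (conjSet x (Subgroup.normalizer (M : Set G) ⊓ R) ⊆ (E : Set G)) := by
    intro hsub
    have hp' : E ≤ Subgroup.normalizer (M : Set G) ⊓ R ∧ Subgroup.normalizer (M : Set G) ⊓ R ≤ R ∧
        conjSet x (Subgroup.normalizer (M : Set G) ⊓ R) ⊆ (E : Set G) :=
      ⟨le_inf (hM1.trans Subgroup.le_normalizer) hER, inf_le_right, hsub⟩
    have hle := hMmax' hp' (le_inf Subgroup.le_normalizer hM2)
    exact hnM (hle (Subgroup.mem_inf.mpr ⟨hnN, hnR⟩))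
  rw [Set.not_subset] at hM'
  obtain ⟨y, hy, hyE⟩ := hM'
  have hyN : y ∈ Subgroup.normalizer (M : Set G) := (Subgroup.mem_inf.mp hy.2).1
  refine ⟨y, ⟨hy.1, (Subgroup.mem_inf.mp hy.2).2⟩, hyE, ?_⟩
  rw [mem_normalizer_iff_map_conj]
  apply map_conj_eq_of_le
  conv_lhs => rw [hE]
  rw [MonoidHom.map_closure, Subgroup.closure_le]
  rintro _ ⟨d, hd, rfl⟩
  rw [hD] at hd
  obtain ⟨⟨g', rfl⟩, hdE⟩ := hd
  apply hM3
  refine ⟨⟨y * g', ?_⟩, ?_⟩
  · show y * (g' * x * g'⁻¹) * y⁻¹ = _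
    group
  · exact (Subgroup.mem_normalizer_iff.mp hyN _).mp (hM1 hdE)

theorem baer_suzuki_aux [Finite G] (x : G) (hx2 : x * x = 1)
    (hx : ∀ g : G, ∃ k : ℕ, (x * (g * x * g⁻¹)) ^ (2 ^ k) = 1) :
    ∀ d : ℕ, ∀ P Q : Sylow 2 G,
      Nat.card G - (conjSet x ((P : Subgroup G) ⊓ (Q : Subgroup G))).ncard = d →
      conjSet x (P : Subgroup G) = conjSet x (Q : Subgroup G) := by
  classical
  have : Fact (Nat.Prime 2) := ⟨Nat.prime_two⟩
  have hXsq : ∀ y : G, (∃ g : G, y = g * x * g⁻¹) → y * y = 1 := by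
    rintro y ⟨g, rfl⟩
    calc g * x * g⁻¹ * (g * x * g⁻¹) = g * (x * x) * g⁻¹ := by group
      _ = 1 := by rw [hx2]; group
  have hXprod : ∀ y₁ y₂ : G, (∃ g : G, y₁ = g * x * g⁻¹) → (∃ g : G, y₂ = g * x * g⁻¹) →
      ∃ k : ℕ, (y₁ * y₂) ^ (2 ^ k) = 1 := by
    rintro y₁ y₂ ⟨g₁, rfl⟩ ⟨g₂, rfl⟩
    obtain ⟨k, hk⟩ := hx (g₁⁻¹ * g₂)
    refine ⟨k, ?_⟩
    have h3 : g₁ * x * g₁⁻¹ * (g₂ * x * g₂⁻¹) =
        g₁ * (x * (g₁⁻¹ * g₂ * x * (g₁⁻¹ * g₂)⁻¹)) * g₁⁻¹ := by group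
    rw [h3, conj_pow, hk]; group
  intro d
  induction d using Nat.strong_induction_on with
  | _ d ih =>
    intro P Q hd
    by_contra hne
    -- the two sets have the same size
    have hcard : (conjSet x (P : Subgroup G)).ncard = (conjSet x (Q : Subgroup G)).ncard := by
      obtain ⟨g, hg⟩ := MulAction.exists_smul_eq G P Q
      rw [← hg, sylow_smul_eq_map, ncard_conjSet_map]
    have hP : ∃ y, y ∈ conjSet x (P : Subgroup G) ∧ y ∉ (Q : Subgroup G) := by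
      by_contra hcon
      push Not at hcon
      have hsub : conjSet x (P : Subgroup G) ⊆ conjSet x (Q : Subgroup G) :=
        fun y hy => ⟨hy.1, hcon y hy⟩
      exact hne (Set.eq_of_subset_of_ncard_le hsub hcard.ge)
    have hQ : ∃ y, y ∈ conjSet x (Q : Subgroup G) ∧ y ∉ (P : Subgroup G) := by
      by_contra hcon
      push Not at hcon
      have hsub : conjSet x (Q : Subgroup G) ⊆ conjSet x (P : Subgroup G) :=
        fun y hy => ⟨hy.1, hcon y hy⟩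
      exact hne (Set.eq_of_subset_of_ncard_le hsub hcard.le).symm
    obtain ⟨y₁, hy₁, hy₁Q⟩ := hP
    obtain ⟨y₂, hy₂, hy₂P⟩ := hQ
    obtain ⟨E, hEdef⟩ : ∃ E : Subgroup G,
        E = Subgroup.closure (conjSet x ((P : Subgroup G) ⊓ (Q : Subgroup G))) := ⟨_, rfl⟩
    have hEle : E ≤ (P : Subgroup G) ⊓ (Q : Subgroup G) := by
      rw [hEdef, Subgroup.closure_le]
      exact fun y hy => hy.2
    have hEP : E ≤ (P : Subgroup G) := hEle.trans inf_le_left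
    have hEQ : E ≤ (Q : Subgroup G) := hEle.trans inf_le_right
    have hE2 : IsPGroup 2 E := P.2.to_le hEP
    have hDE : conjSet x ((P : Subgroup G) ⊓ (Q : Subgroup G)) = conjSet x E := by
      apply Set.Subset.antisymm
      · intro y hy
        exact ⟨hy.1, hEdef ▸ Subgroup.subset_closure hy⟩
      · exact conjSet_mono x hEle
    obtain ⟨yP, hyP, hyPE, hyPN⟩ := exists_conj_normalizing x P P.2 E _ hEdef hDE hEP y₁ hy₁
      (fun h => hy₁Q (hEQ h))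
    obtain ⟨yQ, hyQ, hyQE, hyQN⟩ := exists_conj_normalizing x Q Q.2 E _ hEdef hDE hEQ y₂ hy₂
      (fun h => hy₂P (hEP h))
    obtain ⟨k, hk⟩ := hXprod yP yQ hyP.1 hyQ.1
    obtain ⟨K, hK2, hEK, hyPK, hyQK⟩ := exists_isPGroup_two_of_invol E hE2 (hXsq yP hyP.1)
      (hXsq yQ hyQ.1) k hk hyPN hyQN
    obtain ⟨R₀, hKR⟩ := hK2.exists_le_sylow
    have hdef : ∀ (P' : Sylow 2 G) (y' : G), E ≤ (P' : Subgroup G) → y' ∈ conjSet x (P' : Subgroup G) →
        y' ∉ E → y' ∈ K →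
        Nat.card G - (conjSet x ((P' : Subgroup G) ⊓ (R₀ : Subgroup G))).ncard <
          Nat.card G - (conjSet x ((P : Subgroup G) ⊓ (Q : Subgroup G))).ncard := by
      intro P' y' hEP' hy' hy'E hy'K
      have hss : conjSet x ((P : Subgroup G) ⊓ (Q : Subgroup G)) ⊂
          conjSet x ((P' : Subgroup G) ⊓ (R₀ : Subgroup G)) := by
        refine ⟨?_, ?_⟩
        · rw [hDE]
          exact conjSet_mono x (le_inf hEP' (hEK.trans hKR))
        · intro hsub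
          have h3 : y' ∈ conjSet x ((P' : Subgroup G) ⊓ (R₀ : Subgroup G)) :=
            ⟨hy'.1, Subgroup.mem_inf.mpr ⟨hy'.2, hKR hy'K⟩⟩
          have h4 := hsub h3
          rw [hDE] at h4
          exact hy'E h4.2
      have h5 := Set.ncard_lt_ncard hss
      have h6 := Set.ncard_le_card (conjSet x ((P' : Subgroup G) ⊓ (R₀ : Subgroup G)))
      omega
    have h1 := ih _ (hd ▸ hdef P yP hEP hyP hyPE hyPK) P R₀ rfl
    have h2 := ih _ (hd ▸ hdef Q yQ hEQ hyQ hyQE hyQK) Q R₀ rfl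
    exact hne (h1.trans h2.symm)

/-- **Baer–Suzuki for involutions**: if `x² = 1` and the product of `x` with each of its conjugates is a
`2`-element, then `x` lies in a normal `2`-subgroup. -/
theorem baer_suzuki_two [Finite G] (x : G) (hx2 : x * x = 1)
    (hx : ∀ g : G, ∃ k : ℕ, (x * (g * x * g⁻¹)) ^ (2 ^ k) = 1) :
    ∃ N : Subgroup G, N.Normal ∧ IsPGroup 2 N ∧ x ∈ N := by
  have : Fact (Nat.Prime 2) := ⟨Nat.prime_two⟩
  have key : ∀ P Q : Sylow 2 G, conjSet x (P : Subgroup G) = conjSet x (Q : Subgroup G) :=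
    fun P Q => baer_suzuki_aux x hx2 hx _ P Q rfl
  obtain ⟨P₀⟩ : Nonempty (Sylow 2 G) := inferInstance
  refine ⟨(P₀ : Subgroup G).normalCore, Subgroup.normalCore_normal _,
    P₀.2.to_le (Subgroup.normalCore_le _), ?_⟩
  show ∀ g : G, g * x * g⁻¹ ∈ (P₀ : Subgroup G)
  intro g
  have hsq : (g * x * g⁻¹) * (g * x * g⁻¹) = 1 := by
    calc g * x * g⁻¹ * (g * x * g⁻¹) = g * (x * x) * g⁻¹ := by group
      _ = 1 := by rw [hx2]; group
  obtain ⟨P₁, hP₁⟩ := (isPGroup_zpowers_of_pow (p := 2) (y := g * x * g⁻¹) 1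
    (by rw [pow_one, pow_two]; exact hsq)).exists_le_sylow
  have h1 : g * x * g⁻¹ ∈ conjSet x (P₁ : Subgroup G) := ⟨⟨g, rfl⟩, hP₁ (Subgroup.mem_zpowers _)⟩
  rw [key P₁ P₀] at h1
  exact h1.2

/-- **Baer–Suzuki for involutions**, inversion form: an involution inverting no nontrivial element of odd
order lies in a normal `2`-subgroup. -/
theorem baer_suzuki_two_of_inverts [Finite G] (x : G) (hx2 : x * x = 1)
    (hinv : ∀ u : G, Odd (orderOf u) → x * u * x⁻¹ = u⁻¹ → u = 1) :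
    ∃ N : Subgroup G, N.Normal ∧ IsPGroup 2 N ∧ x ∈ N := by
  apply baer_suzuki_two x hx2
  intro g
  have hxinv : x⁻¹ = x := inv_eq_of_mul_eq_one_left hx2
  have hrinv : x * (x * (g * x * g⁻¹)) * x⁻¹ = (x * (g * x * g⁻¹))⁻¹ := by
    have e1 : (x * (g * x * g⁻¹))⁻¹ = g * x⁻¹ * g⁻¹ * x⁻¹ := by group
    rw [e1, hxinv]
    calc x * (x * (g * x * g⁻¹)) * x = (x * x) * (g * x * g⁻¹) * x := by group
      _ = g * x * g⁻¹ * x := by rw [hx2, one_mul]
  obtain ⟨e, m, hm, ho⟩ := Nat.exists_eq_two_pow_mul_odd (orderOf_pos (x * (g * x * g⁻¹))).ne'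
  refine ⟨e, ?_⟩
  apply hinv
  · have h3 : orderOf ((x * (g * x * g⁻¹)) ^ (2 ^ e)) ∣ m := by
      apply orderOf_dvd_of_pow_eq_one
      rw [← pow_mul, ← ho, pow_orderOf_eq_one]
    exact hm.of_dvd_nat h3
  · rw [← conj_pow, hrinv, inv_pow]

end Cfsg.Agent.Helper53
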