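import Cfsg.Agent.Helper55.N9Defs

/-!
CALL S4409 (helper55), piece C2b (double by helper53).
-/

set_option autoImplicit false

namespace Cfsg.Agent.Helper53.N9

open Subgroup Cfsg.Agent.Helper55.N9

variable {G : Type*} [Group G]

/-- a subgroup isomorphic to the quaternion group is not commutative -/
theorem n9h53_q8_not_comm (Z : Subgroup G) (hQ : IsQ8 Z)
    (hab : ∀ a ∈ Z, ∀ b ∈ Z, a * b = b * a) : False := by
  obtain ⟨e⟩ := hQ
  have h1 := hab (e.symm (QuaternionGroup.a 1)) (e.symm (QuaternionGroup.a 1)).2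
    (e.symm (QuaternionGroup.xa 0)) (e.symm (QuaternionGroup.xa 0)).2
  have h2 : e.symm (QuaternionGroup.a 1) * e.symm (QuaternionGroup.xa 0) =
      e.symm (QuaternionGroup.xa 0) * e.symm (QuaternionGroup.a 1) := Subtype.ext h1
  rw [← map_mul, ← map_mul] at h2
  have h3 := e.symm.injective h2
  revert h3
  decide

/-- normalizer membership from one-sided conjugation invariance -/
theorem n9h53_norm_of_conj (K Y : Subgroup G) (h : ∀ k ∈ K, ∀ y ∈ Y, k * y * k⁻¹ ∈ Y) :
    K ≤ normalizer (Y : Set G) := by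
  intro k hk
  rw [Subgroup.mem_normalizer_iff]
  intro y
  constructor
  · exact h k hk y
  · intro hy
    have h2 := h k⁻¹ (K.inv_mem hk) _ hy
    have h3 : k⁻¹ * (k * y * k⁻¹) * k⁻¹⁻¹ = y := by group
    rw [h3] at h2
    exact h2

/-- the subgroup of squares of a `K`-invariant subgroup is `K`-invariant -/
theorem n9h53_sqs_inv (X K : Subgroup G) (hinv : K ≤ normalizer (X : Set G)) :
    K ≤ normalizer ((sqs X : Subgroup G) : Set G) := by
  apply n9h53_norm_of_conj
  intro k hk y hy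
  have hmap : (sqs X).map (MulAut.conj k).toMonoidHom ≤ sqs X := by
    unfold sqs
    rw [MonoidHom.map_closure, Subgroup.closure_le]
    rintro _ ⟨g, ⟨x, hx, rfl⟩, rfl⟩
    apply Subgroup.subset_closure
    refine ⟨k * x * k⁻¹, (Subgroup.mem_normalizer_iff.mp (hinv hk) x).mp hx, ?_⟩
    show k * x ^ 2 * k⁻¹ = (k * x * k⁻¹) ^ 2
    rw [conj_pow]
  exact hmap ⟨y, hy, rfl⟩

/-- the centre of a `K`-invariant subgroup is `K`-invariant -/
theorem n9h53_zc_inv (X K : Subgroup G) (hinv : K ≤ normalizer (X : Set G)) :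
    K ≤ normalizer ((zc X : Subgroup G) : Set G) := by
  apply n9h53_norm_of_conj
  intro k hk y hy
  have hkn := Subgroup.mem_normalizer_iff.mp (hinv hk)
  refine ⟨(hkn y).mp hy.1, ?_⟩
  show k * y * k⁻¹ ∈ centralizer (X : Set G)
  rw [Subgroup.mem_centralizer_iff]
  intro x hx
  have hx' : k⁻¹ * x * k ∈ X := by
    have h1 : x = k * (k⁻¹ * x * k) * k⁻¹ := by group
    rw [h1] at hx
    exact (hkn _).mpr hx
  have h2 := Subgroup.mem_centralizer_iff.mp hy.2 _ hx'
  calc x * (k * y * k⁻¹) = k * ((k⁻¹ * x * k) * y) * k⁻¹ := by group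
    _ = k * (y * (k⁻¹ * x * k)) * k⁻¹ := by rw [h2]
    _ = k * y * k⁻¹ * x := by group

/-- exponent 2 implies commutative -/
theorem n9h53_comm_of_sq (X : Subgroup G) (h : ∀ x ∈ X, x ^ 2 = 1) :
    ∀ a ∈ X, ∀ b ∈ X, a * b = b * a := by
  intro a ha b hb
  have h1 : a⁻¹ = a := inv_eq_of_mul_eq_one_left (by rw [← sq]; exact h a ha)
  have h2 : b⁻¹ = b := inv_eq_of_mul_eq_one_left (by rw [← sq]; exact h b hb)
  have h3 : (a * b)⁻¹ = a * b :=
    inv_eq_of_mul_eq_one_left (by rw [← sq]; exact h (a * b) (X.mul_mem ha hb))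
  calc a * b = (a * b)⁻¹ := h3.symm
    _ = b⁻¹ * a⁻¹ := mul_inv_rev a b
    _ = b * a := by rw [h1, h2]

variable [Finite G]

-- C2b
theorem n9_case2_frat (T : Tools G) (X K : Subgroup G) (c : Core X K) (hXK : ⁅X, K⁆ = X)
    (hni : NoIdx2 K X)
    (hna : ¬ ∀ a ∈ X, ∀ b ∈ X, a * b = b * a)
    (hs : ∀ Y : Subgroup G, Y ≤ X → Y ≠ X → K ≤ normalizer (Y : Set G) →
      ¬ Y ≤ centralizer (K : Set G) → MinCfg K Y ∧ (IsV4 Y ∨ IsQ8 Y))
    (hmf : ∀ Y : Subgroup G, Y ≤ X → MinCfg K Y → MinFacts K Y)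
    (hsq : ∀ x ∈ X, x ^ 2 ∈ zc X) :
    ∀ M : Subgroup G, M ≤ X → M.relIndex X = 2 → zc X ≤ M := by
  intro M hMX hidx
  have hZX : zc X ≤ X := inf_le_left
  have hZab : ∀ a ∈ zc X, ∀ b ∈ zc X, a * b = b * a := by
    intro a ha b hb
    exact (Subgroup.mem_centralizer_iff.mp hb.2 a ha.1)
  have hZne : zc X ≠ X := by
    intro h
    apply hna
    intro a ha b hb
    rw [← h] at ha hb
    exact hZab a ha b hb
  have hZK : K ≤ normalizer ((zc X : Subgroup G) : Set G) := n9h53_zc_inv X K c.inv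
  by_cases hcase : zc X ≤ centralizer (K : Set G)
  · intro v hv
    exact T.norm_trick X K c.pX c.odd c.inv hni v (hZX hv) (hcase hv) M hMX hidx
  · obtain ⟨hmin, hV⟩ := hs (zc X) hZX hZne hZK hcase
    have hV4 : IsV4 (zc X) := by
      rcases hV with h | h
      · exact h
      · exact (n9h53_q8_not_comm (zc X) h hZab).elim
    have mfZ := hmf (zc X) hZX hmin
    by_contra hZM
    -- all squares of `X` lie in `M`
    have hsqM : ∀ x ∈ X, x ^ 2 ∈ M := by
      intro x hx
      have h2 : (M.subgroupOf X).index = 2 := hidx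
      have h3 := Subgroup.sq_mem_of_index_two h2 (⟨x, hx⟩ : ↥X)
      rw [Subgroup.mem_subgroupOf] at h3
      exact h3
    set F : Subgroup G := sqs X with hF
    have hFZ : F ≤ zc X := by
      rw [hF]; unfold sqs
      rw [Subgroup.closure_le]
      rintro g ⟨x, hx, rfl⟩
      exact hsq x hx
    have hFM : F ≤ M := by
      rw [hF]; unfold sqs
      rw [Subgroup.closure_le]
      rintro g ⟨x, hx, rfl⟩
      exact hsqM x hx
    have hFK : K ≤ normalizer (F : Set G) := n9h53_sqs_inv X K c.inv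
    have hFne : F ≠ zc X := fun h => hZM (h ▸ hFM)
    have hcardZ : Nat.card (zc X) = 4 := hV4.1
    have hdvd : Nat.card F ∣ 4 := hcardZ ▸ Subgroup.card_dvd_of_le hFZ
    have hne4 : Nat.card F ≠ 4 := by
      intro h4
      exact hFne (Subgroup.eq_of_le_of_card_ge hFZ (by rw [hcardZ, h4]))
    have hle4 : Nat.card F ≤ 4 := Nat.le_of_dvd (by norm_num) hdvd
    have hpos : 0 < Nat.card F := Nat.card_pos
    have hcases : Nat.card F = 1 ∨ Nat.card F = 2 := by
      interval_cases h : Nat.card F <;> simp_all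
    rcases hcases with h1 | h2
    · -- `F = ⊥`: `X` has exponent 2, hence is abelian
      have hbot : F = ⊥ := Subgroup.card_eq_one.mp h1
      apply hna
      apply n9h53_comm_of_sq
      intro x hx
      have hxF : x ^ 2 ∈ F := by
        rw [hF]; unfold sqs
        exact Subgroup.subset_closure ⟨x, hx, rfl⟩
      rw [hbot, Subgroup.mem_bot] at hxF
      exact hxF
    · -- `F` is a `K`-invariant subgroup of index 2 in `Z`
      have hrel : F.relIndex (zc X) = 2 := by
        have h3 : Nat.card (F.subgroupOf (zc X)) * (F.subgroupOf (zc X)).index =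
            Nat.card (zc X) := Subgroup.card_mul_index _
        rw [Nat.card_congr (Subgroup.subgroupOfEquivOfLe hFZ).toEquiv, h2, hcardZ] at h3
        show (F.subgroupOf (zc X)).index = 2
        omega
      exact mfZ.noidx2 F hFZ hrel hFK

end Cfsg.Agent.Helper53.N9
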