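import Mathlib
import Cfsg.Agent.Helper16.NGDefs

/-!
CALL S4404 (helper16), piece LF (double by helper53).
-/

set_option autoImplicit false

namespace Cfsg.Agent.Helper53.NGLF
open Cfsg.Agent.Helper16.NG

variable {S : Type*} [Group S]

/-- LF -/
theorem ng_LF [Finite S] (M : Subgroup S) [M.Normal] (hcomm : ∀ a ∈ M, ∀ b ∈ M, a * b = b * a)
    (hsq : ∀ a ∈ M, a ^ 2 = 1) (W : Subgroup S) (hW : W ≤ M) (t : S) (ht : Odd (orderOf t))
    (h1 : ∀ w ∈ W, t * w * t⁻¹ = w) (h2 : ∀ m ∈ M, t * m * t⁻¹ * m⁻¹ ∈ W) :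
    t ∈ Subgroup.centralizer (M : Set S) := by
  rw [Subgroup.mem_centralizer_iff]
  intro m hm
  have hm' : m ∈ M := hm
  -- `w = [t, m] ∈ W`
  have hw : t * m * t⁻¹ * m⁻¹ ∈ W := h2 m hm'
  obtain ⟨w, hwdef⟩ : ∃ w : S, w = t * m * t⁻¹ * m⁻¹ := ⟨_, rfl⟩
  rw [← hwdef] at hw
  have htm : t * m * t⁻¹ = w * m := by rw [hwdef]; group
  have hwt : t * w * t⁻¹ = w := h1 w hw
  -- `t^k m t^-k = w^k m`
  have hpow : ∀ k : ℕ, t ^ k * m * (t ^ k)⁻¹ = w ^ k * m := by
    intro k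
    induction k with
    | zero => simp
    | succ k ih =>
      have hwk : t * w ^ k * t⁻¹ = w ^ k := by
        have := conj_pow (a := t) (b := w) (i := k)
        rw [hwt] at this
        exact this.symm
      calc t ^ (k + 1) * m * (t ^ (k + 1))⁻¹ = t * (t ^ k * m * (t ^ k)⁻¹) * t⁻¹ := by
            rw [pow_succ']; group
        _ = t * (w ^ k * m) * t⁻¹ := by rw [ih]
        _ = (t * w ^ k * t⁻¹) * (t * m * t⁻¹) := by group
        _ = w ^ k * (w * m) := by rw [hwk, htm]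
        _ = w ^ (k + 1) * m := by rw [pow_succ]; group
  have h3 := hpow (orderOf t)
  rw [pow_orderOf_eq_one, one_mul, inv_one, mul_one] at h3
  have h4 : w ^ orderOf t = 1 := by
    have : 1 * m = w ^ orderOf t * m := by rw [one_mul]; exact h3
    exact (mul_right_cancel this).symm
  have hw2 : w ^ 2 = 1 := hsq w (hW hw)
  have hw1 : w = 1 := by
    obtain ⟨j, hj⟩ := ht
    rw [hj, pow_add, pow_mul, hw2, one_pow, one_mul, pow_one] at h4
    exact h4
  rw [hw1, one_mul] at htm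
  -- `t m t⁻¹ = m` gives `m t = t m`
  calc m * t = (t * m * t⁻¹) * t := by rw [htm]
    _ = t * m := by group

end Cfsg.Agent.Helper53.NGLF
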