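import Mathlib
import Cfsg.Agent.Helper13.OrdDefs

/-!
# CALL S2264 (helper13), PIECE NT4 (helper53)
-/

set_option autoImplicit false

namespace Cfsg.Agent.Helper53

open Polynomial
open Cfsg.Agent.Helper13 (SRec OBnd)

theorem obndNT4_prod_add (q : ℕ) (hq : 2 ≤ q) (k : ℕ) :
    (q - 1) * ∏ v ∈ Finset.range k, (q ^ 2 ^ v + 1) + 1 = q ^ 2 ^ k := by
  induction k with
  | zero => simp; omega
  | succ k ih =>
    rw [Finset.prod_range_succ, pow_succ 2 k, pow_mul]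
    have e : (q - 1) * ((∏ v ∈ Finset.range k, (q ^ 2 ^ v + 1)) * (q ^ 2 ^ k + 1)) + 1 =
        ((q - 1) * ∏ v ∈ Finset.range k, (q ^ 2 ^ v + 1)) * (q ^ 2 ^ k + 1) + 1 := by ring
    rw [e, ← ih]
    ring

theorem obndNT4_prod_pow (q : ℕ) (k : ℕ) :
    q * ∏ v ∈ Finset.range k, q ^ 2 ^ v = q ^ 2 ^ k := by
  induction k with
  | zero => simp
  | succ k ih =>
    rw [Finset.prod_range_succ, ← mul_assoc, ih, ← pow_add, pow_succ 2 k, mul_two]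

/-- PIECE NT4 -/
theorem obnd_lt (q K s : ℕ) (hq : 2 ≤ q) (h : OBnd q K s) : (q - 1) * K < q ^ (s + 1) := by
  obtain ⟨V, -, hb⟩ := h
  have hq1 : 0 < q := by omega
  obtain ⟨k, hk⟩ : ∃ k, V ⊆ Finset.range k := by
    refine ⟨V.sup id + 1, fun v hv => ?_⟩
    rw [Finset.mem_range]
    exact Nat.lt_succ_of_le (Finset.le_sup (f := id) hv)
  have hPpos : 0 < ∏ v ∈ V, q ^ 2 ^ v := Finset.prod_pos (fun v _ => pow_pos hq1 _)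
  have hRpos : 0 < ∏ v ∈ Finset.range k \ V, q ^ 2 ^ v :=
    Finset.prod_pos (fun v _ => pow_pos hq1 _)
  have hRR' : ∏ v ∈ Finset.range k \ V, q ^ 2 ^ v ≤ ∏ v ∈ Finset.range k \ V, (q ^ 2 ^ v + 1) :=
    Finset.prod_le_prod (fun _ _ => Nat.zero_le _) (fun v _ => Nat.le_succ _)
  have e1 : (∏ v ∈ Finset.range k \ V, (q ^ 2 ^ v + 1)) * ∏ v ∈ V, (q ^ 2 ^ v + 1) =
      ∏ v ∈ Finset.range k, (q ^ 2 ^ v + 1) := Finset.prod_sdiff hk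
  have e2 : (∏ v ∈ Finset.range k \ V, q ^ 2 ^ v) * ∏ v ∈ V, q ^ 2 ^ v =
      ∏ v ∈ Finset.range k, q ^ 2 ^ v := Finset.prod_sdiff hk
  have h1 := obndNT4_prod_add q hq k
  have h2 := obndNT4_prod_pow q k
  rw [← e1] at h1
  rw [← e2] at h2
  have claim : (q - 1) * ∏ v ∈ V, (q ^ 2 ^ v + 1) < q * ∏ v ∈ V, q ^ 2 ^ v := by
    have h3 : (q - 1) * (∏ v ∈ V, (q ^ 2 ^ v + 1)) * (∏ v ∈ Finset.range k \ V, q ^ 2 ^ v) <
        q * (∏ v ∈ V, q ^ 2 ^ v) * (∏ v ∈ Finset.range k \ V, q ^ 2 ^ v) := by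
      calc (q - 1) * (∏ v ∈ V, (q ^ 2 ^ v + 1)) * (∏ v ∈ Finset.range k \ V, q ^ 2 ^ v)
          ≤ (q - 1) * (∏ v ∈ V, (q ^ 2 ^ v + 1)) * (∏ v ∈ Finset.range k \ V, (q ^ 2 ^ v + 1)) :=
            Nat.mul_le_mul_left _ hRR'
        _ = (q - 1) * ((∏ v ∈ Finset.range k \ V, (q ^ 2 ^ v + 1)) *
              ∏ v ∈ V, (q ^ 2 ^ v + 1)) := by ring
        _ < q ^ 2 ^ k := by omega
        _ = q * (∏ v ∈ V, q ^ 2 ^ v) * (∏ v ∈ Finset.range k \ V, q ^ 2 ^ v) := by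
            rw [← h2]; ring
    exact Nat.lt_of_mul_lt_mul_right h3
  have h4 : (q - 1) * K * (∏ v ∈ V, q ^ 2 ^ v) < q ^ (s + 1) * ∏ v ∈ V, q ^ 2 ^ v := by
    calc (q - 1) * K * (∏ v ∈ V, q ^ 2 ^ v) = (q - 1) * (K * ∏ v ∈ V, q ^ 2 ^ v) := by ring
      _ ≤ (q - 1) * (q ^ s * ∏ v ∈ V, (q ^ 2 ^ v + 1)) := Nat.mul_le_mul_left _ hb
      _ = q ^ s * ((q - 1) * ∏ v ∈ V, (q ^ 2 ^ v + 1)) := by ring
      _ < q ^ s * (q * ∏ v ∈ V, q ^ 2 ^ v) := mul_lt_mul_of_pos_left claim (pow_pos hq1 s)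
      _ = q ^ (s + 1) * ∏ v ∈ V, q ^ 2 ^ v := by rw [pow_succ]; ring
  exact Nat.lt_of_mul_lt_mul_right h4

end Cfsg.Agent.Helper53
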