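import Mathlib
import Cfsg.Agent.Helper87.R2Ctx
import Cfsg.Agent.Helper87.OddFix
import Cfsg.Agent.Helper53.R2Psec
import Cfsg.Agent.Helper53.PCenter

/-!
# Case I of the rank two analysis (PIECE I of CALL S5289)

An `A`-invariant elementary abelian subgroup `R` of order `p ^ 2` in an `R2Ctx` is everything.
-/

set_option autoImplicit false

namespace Cfsg.Agent.Helper53

open scoped commutatorElement
open Cfsg.Agent.Helper87

/-- A subgroup of a finite group all of whose `p'`-elements are trivial is a `p`-group. -/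
theorem r2I_isPGroup_of_p'_trivial {H : Type*} [Group H] [Finite H] (p : ℕ) [Fact p.Prime]
    (K : Subgroup H) (hK : ∀ β ∈ K, ∀ m : ℕ, m.Coprime p → β ^ m = 1 → β = 1) : IsPGroup p K := by
  have hpp : p.Prime := Fact.out
  rintro ⟨α, hα⟩
  obtain ⟨a, m, hm, hord⟩ := Nat.exists_eq_pow_mul_and_not_dvd (orderOf_pos α).ne' p hpp.ne_one
  refine ⟨a, Subtype.ext ?_⟩
  show α ^ (p ^ a) = 1
  have h1 : (α ^ (p ^ a)) ^ m = 1 := by
    rw [← pow_mul, ← hord, pow_orderOf_eq_one]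
  exact hK _ (K.pow_mem hα _) m ((Nat.Prime.coprime_iff_not_dvd hpp).mpr hm).symm h1

/-- The closure of a commuting set of elements of order dividing `p` is elementary abelian. -/
theorem r2I_elemab_closure {G : Type*} [Group G] (p : ℕ) (S : Set G)
    (hcomm : ∀ a ∈ S, ∀ b ∈ S, a * b = b * a) (hexp : ∀ a ∈ S, a ^ p = 1) :
    (∀ a ∈ Subgroup.closure S, ∀ b ∈ Subgroup.closure S, a * b = b * a) ∧
      ∀ a ∈ Subgroup.closure S, a ^ p = 1 := by
  have hc := Subgroup.isMulCommutative_closure hcomm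
  have hcomm' : ∀ a ∈ Subgroup.closure S, ∀ b ∈ Subgroup.closure S, a * b = b * a := by
    intro a ha b hb
    have := hc.is_comm.comm ⟨a, ha⟩ ⟨b, hb⟩
    exact congrArg Subtype.val this
  refine ⟨hcomm', ?_⟩
  intro a ha
  induction ha using Subgroup.closure_induction with
  | mem x hx => exact hexp x hx
  | one => exact one_pow p
  | mul x y hx hy ihx ihy =>
    have : Commute x y := hcomm' x hx y hy
    rw [this.mul_pow, ihx, ihy, one_mul]
  | inv x hx ih => rw [inv_pow, ih, inv_one]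

/-- In a group of rank at most two, an element of order `p` centralizing an elementary abelian
subgroup `R` of order `p ^ 2` lies in `R`. -/
theorem r2I_rank_mem {p : ℕ} {G : Type*} [Group G] [Finite G] (R : Subgroup G)
    (hrank : ∀ H : Subgroup G, (∀ a ∈ H, ∀ b ∈ H, a * b = b * a) → (∀ a ∈ H, a ^ p = 1) →
      Nat.card H ≤ p ^ 2)
    (hRab : ∀ a ∈ R, ∀ b ∈ R, a * b = b * a) (hRexp : ∀ a ∈ R, a ^ p = 1)
    (hRcard : Nat.card R = p ^ 2)
    (x : G) (hx : ∀ r ∈ R, x * r = r * x) (hxp : x ^ p = 1) : x ∈ R := by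
  set S : Set G := insert x (R : Set G) with hS
  have hcomm : ∀ a ∈ S, ∀ b ∈ S, a * b = b * a := by
    intro a ha b hb
    rcases ha with rfl | ha <;> rcases hb with rfl | hb
    · rfl
    · exact hx b hb
    · exact (hx a ha).symm
    · exact hRab a ha b hb
  have hexp : ∀ a ∈ S, a ^ p = 1 := by
    intro a ha
    rcases ha with rfl | ha
    · exact hxp
    · exact hRexp a ha
  obtain ⟨h1, h2⟩ := r2I_elemab_closure p S hcomm hexp
  have h3 := hrank (Subgroup.closure S) h1 h2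
  have hle : R ≤ Subgroup.closure S :=
    fun r hr => Subgroup.subset_closure (Set.mem_insert_of_mem x hr)
  have heq : R = Subgroup.closure S := Subgroup.eq_of_le_of_card_ge hle (by rw [hRcard]; exact h3)
  rw [heq]
  exact Subgroup.subset_closure (Set.mem_insert x _)

/-- Step I1 (core): a `p'`-automorphism fixing `R` pointwise is trivial. -/
theorem r2I_fix_trivial {p : ℕ} [Fact p.Prime] {G : Type*} [Group G] {A : Subgroup (MulAut G)}
    {t : MulAut G} (h : R2Ctx p G A t) (hp : 5 ≤ p) (R : Subgroup G)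
    (hRA : ∀ α ∈ A, ∀ r ∈ R, α r ∈ R) (hRab : ∀ a ∈ R, ∀ b ∈ R, a * b = b * a)
    (hRexp : ∀ a ∈ R, a ^ p = 1) (hRcard : Nat.card R = p ^ 2)
    (α : MulAut G) (hα : ∀ r ∈ R, α r = r) (m : ℕ) (hm : m.Coprime p) (hαm : α ^ m = 1) :
    α = 1 := by
  have hpp : p.Prime := Fact.out
  have hfin := h.fin
  have hp2 : p ≠ 2 := by omega
  -- C = centralizer of R
  set C : Subgroup G := Subgroup.centralizer (R : Set G) with hC
  have hCmem : ∀ x : G, x ∈ C ↔ ∀ r ∈ R, r * x = x * r := fun x => Subgroup.mem_centralizer_iff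
  have hαC : ∀ x ∈ C, α x ∈ C := by
    intro x hx
    rw [hCmem] at hx ⊢
    intro r hr
    have := congrArg α (hx r hr)
    rw [map_mul, map_mul, hα r hr] at this
    exact this
  have hfixC : ∀ x ∈ C, α x = x := by
    intro x hx
    have key := hom_fix_of_fix_order_p p hp2 m hm (Nat.card C) C le_rfl (h.pG.to_subgroup C)
      ((α.toMonoidHom.comp C.subtype).codRestrict C (fun y => hαC y y.2))
      (fun y => Subtype.ext (by
        rw [restrict_iterate α.toMonoidHom C hαC, ← mulAut_pow_apply_eq_iterate, hαm]; rfl))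
      (fun y hy => Subtype.ext (by
        have hy' : (y : G) ^ p = 1 := by
          have := congrArg Subtype.val hy
          simpa using this
        have hyR : (y : G) ∈ R := r2I_rank_mem R h.rank hRab hRexp hRcard y
          (fun r hr => ((hCmem _).mp y.2 r hr).symm) hy'
        exact hα y hyR)) ⟨x, hx⟩
    exact congrArg Subtype.val key
  ext e
  show α e = e
  set c : G := e⁻¹ * α e with hc
  have hcC : c ∈ C := by
    rw [hCmem]
    intro r hr
    have h1 : (MulAut.conj e) r ∈ R := hRA _ (h.inn e) r hr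
    have h2 := hα _ h1
    rw [MulAut.conj_apply, map_mul, map_mul, hα r hr, map_inv] at h2
    rw [hc]
    have h3 : r * (e⁻¹ * α e) = e⁻¹ * (e * r * e⁻¹) * α e := by group
    rw [h3, ← h2]; group
  have hαc : α c = c := hfixC c hcC
  have hαe : α e = e * c := by rw [hc]; group
  have h4 := iterate_apply_of_fix α.toMonoidHom e c hαe hαc m
  rw [← mulAut_pow_apply_eq_iterate, hαm] at h4
  have h5 : c ^ m = 1 := by
    have : e * 1 = e * c ^ m := by rw [mul_one]; exact h4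
    exact (mul_left_cancel this).symm
  obtain ⟨j, hj⟩ := h.pG c
  have h6 : orderOf c = 1 := Nat.eq_one_of_dvd_coprimes (Nat.Coprime.pow_right j hm)
    (orderOf_dvd_of_pow_eq_one h5) (orderOf_dvd_of_pow_eq_one hj)
  rw [orderOf_eq_one_iff] at h6
  rw [hαe, h6, mul_one]

/-- `t` has `p`-power order. -/
theorem r2I_t_pow {p : ℕ} [Fact p.Prime] {G : Type*} [Group G] {A : Subgroup (MulAut G)}
    {t : MulAut G} (h : R2Ctx p G A t) : ∃ n : ℕ, t ^ (p ^ n) = 1 := by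
  obtain ⟨e0, he0⟩ := h.tpow
  obtain ⟨j, hj⟩ := h.pG e0
  refine ⟨j + 1, ?_⟩
  rw [pow_succ', pow_mul, he0, ← map_pow, hj, map_one]

theorem r2I_finite_mulAut (G : Type*) [Group G] [Finite G] : Finite (MulAut G) :=
  Finite.of_injective (fun e : MulAut G => (e : G → G)) DFunLike.coe_injective

/-- Step I1: `t` moves some element of `R`. -/
theorem r2I_t_moves {p : ℕ} [Fact p.Prime] {G : Type*} [Group G] {A : Subgroup (MulAut G)}
    {t : MulAut G} (h : R2Ctx p G A t) (hp : 5 ≤ p) (R : Subgroup G)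
    (hRA : ∀ α ∈ A, ∀ r ∈ R, α r ∈ R) (hRab : ∀ a ∈ R, ∀ b ∈ R, a * b = b * a)
    (hRexp : ∀ a ∈ R, a ^ p = 1) (hRcard : Nat.card R = p ^ 2) : ∃ r ∈ R, t r ≠ r := by
  by_contra hcon
  push Not at hcon
  have hfin := h.fin
  have hfinA : Finite (MulAut G) := r2I_finite_mulAut G
  let K : Subgroup (MulAut G) :=
    { carrier := {α | α ∈ A ∧ ∀ r ∈ R, α r = r}
      mul_mem' := by
        rintro a b ⟨ha, ha'⟩ ⟨hb, hb'⟩
        exact ⟨A.mul_mem ha hb, fun r hr => by rw [MulAut.mul_apply, hb' r hr, ha' r hr]⟩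
      one_mem' := ⟨A.one_mem, fun r _ => rfl⟩
      inv_mem' := by
        rintro a ⟨ha, ha'⟩
        refine ⟨A.inv_mem ha, fun r hr => ?_⟩
        conv_lhs => rw [← ha' r hr]
        exact MulAut.inv_apply_self _ _ _ }
  have hKmem : ∀ α, α ∈ K ↔ α ∈ A ∧ ∀ r ∈ R, α r = r := fun α => Iff.rfl
  have hKA : K ≤ A := fun α hα => ((hKmem α).mp hα).1
  have hKp : IsPGroup p K := r2I_isPGroup_of_p'_trivial p K (fun β hβ m hm hβm =>
    r2I_fix_trivial h hp R hRA hRab hRexp hRcard β ((hKmem β).mp hβ).2 m hm hβm)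
  have hKn : ∀ g ∈ A, ∀ k ∈ K, g * k * g⁻¹ ∈ K := by
    intro g hg k hk
    rw [hKmem] at hk ⊢
    refine ⟨A.mul_mem (A.mul_mem hg hk.1) (A.inv_mem hg), fun r hr => ?_⟩
    rw [MulAut.mul_apply, MulAut.mul_apply, hk.2 _ (hRA _ (A.inv_mem hg) r hr),
      MulAut.apply_inv_self]
  have := h.rad K hKA hKp hKn
  exact h.tInn (this ((hKmem t).mpr ⟨h.tA, hcon⟩))

/-- Step I2: the fixed points `L` of `t` on `R` form a subgroup of order `p`, and `t` acts trivially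
on `R / L`. -/
theorem r2I_exists_L {p : ℕ} [Fact p.Prime] {G : Type*} [Group G] {A : Subgroup (MulAut G)}
    {t : MulAut G} (h : R2Ctx p G A t) (hp : 5 ≤ p) (R : Subgroup G)
    (hRA : ∀ α ∈ A, ∀ r ∈ R, α r ∈ R) (hRab : ∀ a ∈ R, ∀ b ∈ R, a * b = b * a)
    (hRexp : ∀ a ∈ R, a ^ p = 1) (hRcard : Nat.card R = p ^ 2) :
    ∃ L : Subgroup G, (∀ x, x ∈ L ↔ x ∈ R ∧ t x = x) ∧ Nat.card L = p ∧
      ∀ r ∈ R, t r * r⁻¹ ∈ L := by
  have hpp : p.Prime := Fact.out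
  have hfin := h.fin
  let L : Subgroup G :=
    { carrier := {x | x ∈ R ∧ t x = x}
      mul_mem' := by
        rintro a b ⟨ha, ha'⟩ ⟨hb, hb'⟩
        exact ⟨R.mul_mem ha hb, by rw [map_mul, ha', hb']⟩
      one_mem' := ⟨R.one_mem, map_one t⟩
      inv_mem' := by
        rintro a ⟨ha, ha'⟩
        exact ⟨R.inv_mem ha, by rw [map_inv, ha']⟩ }
  have hLmem : ∀ x, x ∈ L ↔ x ∈ R ∧ t x = x := fun x => Iff.rfl
  have hLR : L ≤ R := fun x hx => ((hLmem x).mp hx).1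
  -- L ≠ R
  obtain ⟨r0, hr0, hr0t⟩ := r2I_t_moves h hp R hRA hRab hRexp hRcard
  -- L ≠ ⊥
  have hLne : ∃ w ∈ L, w ≠ 1 := by
    have hFR : ∀ n : ℕ, (fun u => t u * u⁻¹)^[n] r0 ∈ R := by
      intro n
      induction n with
      | zero => exact hr0
      | succ n ih =>
        rw [Function.iterate_succ_apply']
        exact R.mul_mem (hRA t h.tA _ ih) (R.inv_mem ih)
    classical
    have hex := h.tnil r0
    obtain ⟨n, hn, hmin⟩ : ∃ n, (fun u => t u * u⁻¹)^[n] r0 = 1 ∧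
        ∀ m < n, (fun u => t u * u⁻¹)^[m] r0 ≠ 1 :=
      ⟨Nat.find hex, Nat.find_spec hex, fun m hm => Nat.find_min hex hm⟩
    cases n with
    | zero =>
      have : r0 = 1 := hn
      exact absurd (by rw [this, map_one]) hr0t
    | succ k =>
      rw [Function.iterate_succ_apply'] at hn
      exact ⟨(fun u => t u * u⁻¹)^[k] r0, (hLmem _).mpr ⟨hFR k, mul_inv_eq_one.mp hn⟩,
        hmin k (Nat.lt_succ_self k)⟩
  have hcardL : Nat.card L = p := by
    have hdvd : Nat.card L ∣ p ^ 2 := hRcard ▸ Subgroup.card_dvd_of_le hLR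
    obtain ⟨i, hi, hci⟩ := (Nat.dvd_prime_pow hpp).mp hdvd
    interval_cases i
    · exfalso
      obtain ⟨w, hw, hw1⟩ := hLne
      rw [pow_zero, Subgroup.card_eq_one] at hci
      rw [hci, Subgroup.mem_bot] at hw
      exact hw1 hw
    · simpa using hci
    · exfalso
      have : L = R := Subgroup.eq_of_le_of_card_ge hLR (by rw [hci, hRcard])
      rw [← this] at hr0
      exact hr0t ((hLmem r0).mp hr0).2
  obtain ⟨n, hn⟩ := r2I_t_pow h
  refine ⟨L, hLmem, hcardL, ?_⟩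
  exact psec p R L hLR (fun x hx y hy => by
      have := hRab x hx y (hLR hy)
      rw [this, mul_inv_cancel_right]; exact hy)
    (by rw [hRcard, hcardL]; ring) t n hn (fun x hx => hRA t h.tA x hx)
    (fun y hy => by rw [((hLmem y).mp hy).2]; exact hy)

/-- Step I3: some element of `A` moves `L` off itself. -/
theorem r2I_exists_g {p : ℕ} [Fact p.Prime] {G : Type*} [Group G] {A : Subgroup (MulAut G)}
    {t : MulAut G} (h : R2Ctx p G A t) (hp : 5 ≤ p) (R : Subgroup G)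
    (hRA : ∀ α ∈ A, ∀ r ∈ R, α r ∈ R) (hRab : ∀ a ∈ R, ∀ b ∈ R, a * b = b * a)
    (hRexp : ∀ a ∈ R, a ^ p = 1) (hRcard : Nat.card R = p ^ 2)
    (L : Subgroup G) (hL : ∀ x, x ∈ L ↔ x ∈ R ∧ t x = x) (hLt : ∀ r ∈ R, t r * r⁻¹ ∈ L) :
    ∃ g ∈ A, ∃ r ∈ L, g r ∉ L := by
  by_contra hcon
  push Not at hcon
  have hfin := h.fin
  have hfinA : Finite (MulAut G) := r2I_finite_mulAut G
  have hLR : L ≤ R := fun x hx => ((hL x).mp hx).1
  let U : Subgroup (MulAut G) :=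
    { carrier := {α | α ∈ A ∧ (∀ r ∈ L, α r = r) ∧ ∀ r ∈ R, α r * r⁻¹ ∈ L}
      mul_mem' := by
        rintro a b ⟨ha, ha1, ha2⟩ ⟨hb, hb1, hb2⟩
        refine ⟨A.mul_mem ha hb, fun r hr => by rw [MulAut.mul_apply, hb1 r hr, ha1 r hr],
          fun r hr => ?_⟩
        have h1 : (a * b) r * r⁻¹ = a (b r * r⁻¹) * (a r * r⁻¹) := by
          rw [MulAut.mul_apply, map_mul, map_inv]; group
        rw [h1, ha1 _ (hb2 r hr)]
        exact L.mul_mem (hb2 r hr) (ha2 r hr)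
      one_mem' := ⟨A.one_mem, fun r _ => rfl, fun r _ => by
        show r * r⁻¹ ∈ L
        rw [mul_inv_cancel]; exact L.one_mem⟩
      inv_mem' := by
        rintro a ⟨ha, ha1, ha2⟩
        refine ⟨A.inv_mem ha, fun r hr => ?_, fun r hr => ?_⟩
        · conv_lhs => rw [← ha1 r hr]
          exact MulAut.inv_apply_self _ _ _
        · have hs : a⁻¹ r ∈ R := hRA _ (A.inv_mem ha) r hr
          have h1 := ha2 _ hs
          rw [MulAut.apply_inv_self] at h1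
          have h2 := L.inv_mem h1
          rw [mul_inv_rev, inv_inv] at h2
          exact h2 }
  have hUmem : ∀ α, α ∈ U ↔ α ∈ A ∧ (∀ r ∈ L, α r = r) ∧ ∀ r ∈ R, α r * r⁻¹ ∈ L :=
    fun α => Iff.rfl
  have hUA : U ≤ A := fun α hα => ((hUmem α).mp hα).1
  have hUp : IsPGroup p U := by
    apply r2I_isPGroup_of_p'_trivial p U
    intro β hβ m hm hβm
    obtain ⟨hβA, hβ1, hβ2⟩ := (hUmem β).mp hβ
    apply r2I_fix_trivial h hp R hRA hRab hRexp hRcard β _ m hm hβm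
    intro r hr
    set c : G := r⁻¹ * β r with hc
    have hcL : c ∈ L := by
      have := hβ2 r hr
      have h1 : β r * r⁻¹ = r⁻¹ * β r := hRab _ (hRA β hβA r hr) _ (R.inv_mem hr)
      rw [h1] at this; exact this
    have hβc : β c = c := hβ1 c hcL
    have hβr : β r = r * c := by rw [hc]; group
    have h4 := iterate_apply_of_fix β.toMonoidHom r c hβr hβc m
    rw [← mulAut_pow_apply_eq_iterate, hβm] at h4
    have h5 : c ^ m = 1 := by
      have : r * 1 = r * c ^ m := by rw [mul_one]; exact h4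
      exact (mul_left_cancel this).symm
    have h6 : orderOf c = 1 := Nat.eq_one_of_dvd_coprimes hm
      (orderOf_dvd_of_pow_eq_one h5) (orderOf_dvd_of_pow_eq_one (hRexp c (hLR hcL)))
    rw [orderOf_eq_one_iff] at h6
    rw [hβr, h6, mul_one]
  have hUn : ∀ g ∈ A, ∀ k ∈ U, g * k * g⁻¹ ∈ U := by
    intro g hg k hk
    obtain ⟨hkA, hk1, hk2⟩ := (hUmem k).mp hk
    rw [hUmem]
    refine ⟨A.mul_mem (A.mul_mem hg hkA) (A.inv_mem hg), fun r hr => ?_, fun r hr => ?_⟩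
    · rw [MulAut.mul_apply, MulAut.mul_apply, hk1 _ (hcon _ (A.inv_mem hg) r hr),
        MulAut.apply_inv_self]
    · have hs : g⁻¹ r ∈ R := hRA _ (A.inv_mem hg) r hr
      have h1 := hcon g hg _ (hk2 _ hs)
      rw [map_mul, map_inv, MulAut.apply_inv_self] at h1
      exact h1
  have := h.rad U hUA hUp hUn
  exact h.tInn (this ((hUmem t).mpr ⟨h.tA, fun r hr => ((hL r).mp hr).2, hLt⟩))

/-- A subgroup of prime order moved off itself by `g` meets its image trivially. -/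
theorem r2I_prime_disjoint {p : ℕ} [Fact p.Prime] {G : Type*} [Group G] (L : Subgroup G)
    (hLcard : Nat.card L = p) (g : MulAut G) (r : G) (hr : r ∈ L) (hgr : g r ∉ L)
    (v : G) (hv : v ∈ L) (hgv : g v ∈ L) : v = 1 := by
  by_contra hv1
  have hv1' : (⟨v, hv⟩ : L) ≠ 1 := fun hh => hv1 (congrArg Subtype.val hh)
  obtain ⟨k, hk⟩ := mem_powers_of_prime_card (g' := (⟨r, hr⟩ : L)) hLcard hv1'
  have hk' : v ^ k = r := congrArg Subtype.val hk
  apply hgr
  rw [← hk', map_pow]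
  exact L.pow_mem hgv k

/-- Step I3 (consequence): an `A`-invariant subgroup of `R` is trivial or `R`. -/
theorem r2I_invariant {p : ℕ} [Fact p.Prime] {G : Type*} [Group G] {A : Subgroup (MulAut G)}
    {t : MulAut G} (h : R2Ctx p G A t) (R : Subgroup G)
    (hRcard : Nat.card R = p ^ 2)
    (L : Subgroup G) (hL : ∀ x, x ∈ L ↔ x ∈ R ∧ t x = x) (hLcard : Nat.card L = p)
    (g : MulAut G) (hg : g ∈ A) (r : G) (hr : r ∈ L) (hgr : g r ∉ L)
    (D : Subgroup G) (hDR : D ≤ R) (hDA : ∀ α ∈ A, ∀ d ∈ D, α d ∈ D) : D = ⊥ ∨ D = R := by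
  have hpp : p.Prime := Fact.out
  have hfin := h.fin
  have hdvd : Nat.card D ∣ p ^ 2 := hRcard ▸ Subgroup.card_dvd_of_le hDR
  obtain ⟨i, hi, hci⟩ := (Nat.dvd_prime_pow hpp).mp hdvd
  interval_cases i
  · left
    rw [pow_zero] at hci
    exact Subgroup.card_eq_one.mp hci
  · exfalso
    rw [pow_one] at hci
    obtain ⟨n, hn⟩ := r2I_t_pow h
    have h1 := psec p D ⊥ bot_le (fun x _ y hy => by
        rw [Subgroup.mem_bot] at hy ⊢
        rw [hy, mul_one, mul_inv_cancel])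
      (by rw [hci, Subgroup.card_bot, mul_one]) t n hn (fun x hx => hDA t h.tA x hx)
      (fun y hy => by
        rw [Subgroup.mem_bot] at hy ⊢
        rw [hy, map_one])
    have hDL : D ≤ L := by
      intro d hd
      have := h1 d hd
      rw [Subgroup.mem_bot, mul_inv_eq_one] at this
      exact (hL d).mpr ⟨hDR hd, this⟩
    have : D = L := Subgroup.eq_of_le_of_card_ge hDL (by rw [hci, hLcard])
    rw [← this] at hr hgr
    exact hgr (hDA g hg r hr)
  · right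
    exact Subgroup.eq_of_le_of_card_ge hDR (by rw [hci, hRcard])

/-- Step I4: `R` is central. -/
theorem r2I_central {p : ℕ} [Fact p.Prime] {G : Type*} [Group G] {A : Subgroup (MulAut G)}
    {t : MulAut G} (h : R2Ctx p G A t) (R : Subgroup G)
    (hRA : ∀ α ∈ A, ∀ r ∈ R, α r ∈ R) (hRcard : Nat.card R = p ^ 2)
    (hinv : ∀ D : Subgroup G, D ≤ R → (∀ α ∈ A, ∀ d ∈ D, α d ∈ D) → D = ⊥ ∨ D = R) :
    ∀ r ∈ R, ∀ x : G, x * r = r * x := by
  have hpp : p.Prime := Fact.out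
  have hfin := h.fin
  have hRne : R ≠ ⊥ := by
    intro hR
    rw [hR, Subgroup.card_bot] at hRcard
    have := hpp.one_lt
    nlinarith
  have hnorm : (⊤ : Subgroup G) ≤ Subgroup.normalizer (R : Set G) := by
    intro x _
    rw [Subgroup.mem_normalizer_iff]
    intro r
    constructor
    · intro hr
      have := hRA _ (h.inn x) r hr
      rwa [MulAut.conj_apply] at this
    · intro hr
      have := hRA _ (h.inn x⁻¹) _ hr
      rw [MulAut.conj_apply] at this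
      simpa [mul_assoc] using this
  have hP : IsPGroup p (⊤ : Subgroup G) := h.pG.to_subgroup ⊤
  obtain ⟨z, hzR, hz1, hz⟩ := exists_central_of_normalized hP le_top hnorm hRne
  have hD : R ⊓ Subgroup.center G = ⊥ ∨ R ⊓ Subgroup.center G = R :=
    hinv (R ⊓ Subgroup.center G) inf_le_left (by
      intro α hα d hd
      rw [Subgroup.mem_inf] at hd ⊢
      refine ⟨hRA α hα d hd.1, ?_⟩
      have hd2 := hd.2
      rw [Subgroup.mem_center_iff] at hd2 ⊢
      intro x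
      have := congrArg α (hd2 (α⁻¹ x))
      rw [map_mul, map_mul, MulAut.apply_inv_self] at this
      exact this)
  rcases hD with hD | hD
  · exfalso
    have : z ∈ R ⊓ Subgroup.center G :=
      Subgroup.mem_inf.mpr ⟨hzR, Subgroup.mem_center_iff.mpr (fun x => hz x (Subgroup.mem_top x))⟩
    rw [hD, Subgroup.mem_bot] at this
    exact hz1 this
  · intro r hr x
    have : r ∈ R ⊓ Subgroup.center G := by rw [hD]; exact hr
    exact (Subgroup.mem_center_iff.mp (Subgroup.mem_inf.mp this).2 x)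

/-- `p`-th powers are multiplicative modulo central commutators of order `p`. -/
theorem r2I_mul_pow {p : ℕ} [Fact p.Prime] (hp : 5 ≤ p) {G : Type*} [Group G] (R : Subgroup G)
    (hRc : ∀ r ∈ R, ∀ x : G, x * r = r * x) (hRexp : ∀ a ∈ R, a ^ p = 1)
    (x y : G) (hy : ⁅y, x⁆ ∈ R) : (x * y) ^ p = x ^ p * y ^ p := by
  have hpp : p.Prime := Fact.out
  have h1 := mul_pow_class_two x y (hRc _ hy x).symm (hRc _ hy y).symm p
  obtain ⟨k, hk⟩ := hpp.dvd_choose_self (k := 2) (by norm_num) (by omega)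
  rw [hk, pow_mul, hRexp _ hy, one_pow, mul_one] at h1
  exact h1

/-- Step I6 (a): the subgroup `Y` of elements central of order `p` modulo `R`. -/
theorem r2I_exists_Y {p : ℕ} [Fact p.Prime] (hp : 5 ≤ p) {G : Type*} [Group G] (R : Subgroup G)
    (hRc : ∀ r ∈ R, ∀ x : G, x * r = r * x) (hRexp : ∀ a ∈ R, a ^ p = 1) :
    ∃ Y : Subgroup G, ∀ y, y ∈ Y ↔ (y ^ p ∈ R ∧ ∀ e : G, ⁅y, e⁆ ∈ R) := by
  refine ⟨{ carrier := {y | y ^ p ∈ R ∧ ∀ e : G, ⁅y, e⁆ ∈ R}
            mul_mem' := ?_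
            one_mem' := ?_
            inv_mem' := ?_ }, fun y => Iff.rfl⟩
  · rintro a b ⟨ha, ha'⟩ ⟨hb, hb'⟩
    refine ⟨?_, fun e => ?_⟩
    · rw [r2I_mul_pow hp R hRc hRexp a b (hb' a)]
      exact R.mul_mem ha hb
    · have h1 : ⁅a * b, e⁆ = a * ⁅b, e⁆ * a⁻¹ * ⁅a, e⁆ := by
        simp only [commutatorElement_def]; group
      rw [h1, hRc _ (hb' e) a, mul_inv_cancel_right]
      exact R.mul_mem (hb' e) (ha' e)
  · exact ⟨by rw [one_pow]; exact R.one_mem,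
      fun e => by rw [commutatorElement_one_left]; exact R.one_mem⟩
  · rintro a ⟨ha, ha'⟩
    refine ⟨by rw [inv_pow]; exact R.inv_mem ha, fun e => ?_⟩
    have h1 : ⁅a⁻¹, e⁆ = a⁻¹ * ⁅a, e⁆⁻¹ * a := by
      simp only [commutatorElement_def]; group
    rw [h1, hRc _ (R.inv_mem (ha' e)) a⁻¹, inv_mul_cancel_right]
    exact R.inv_mem (ha' e)

/-- `Y` is invariant under `A`. -/
theorem r2I_Y_invariant {p : ℕ} {G : Type*} [Group G] {A : Subgroup (MulAut G)}
    (R : Subgroup G) (hRA : ∀ α ∈ A, ∀ r ∈ R, α r ∈ R)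
    (Y : Subgroup G) (hY : ∀ y, y ∈ Y ↔ (y ^ p ∈ R ∧ ∀ e : G, ⁅y, e⁆ ∈ R)) :
    ∀ α ∈ A, ∀ y ∈ Y, α y ∈ Y := by
  intro α hα y hy
  obtain ⟨h1, h2⟩ := (hY y).mp hy
  rw [hY]
  refine ⟨by rw [← map_pow]; exact hRA α hα _ h1, fun e => ?_⟩
  have h3 := hRA α hα _ (h2 (α⁻¹ e))
  rw [map_commutatorElement, MulAut.apply_inv_self] at h3
  exact h3

/-- Step I6 (b): if `R ≠ ⊤`, some element outside `R` is central of order `p` modulo `R`. -/
theorem r2I_exists_Y_not_R {p : ℕ} [Fact p.Prime] {G : Type*} [Group G] [Finite G]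
    (hG : IsPGroup p G) (R : Subgroup G)
    (hRc : ∀ r ∈ R, ∀ x : G, x * r = r * x) (hRtop : R ≠ ⊤) :
    ∃ y : G, y ∉ R ∧ y ^ p ∈ R ∧ ∀ e : G, ⁅y, e⁆ ∈ R := by
  have hpp : p.Prime := Fact.out
  have hRn : R.Normal :=
    ⟨fun n hn g => by rw [hRc n hn g, mul_inv_cancel_right]; exact hn⟩
  have hnt : Nontrivial (G ⧸ R) := by
    obtain ⟨x, hx⟩ : ∃ x, x ∉ R := by
      by_contra hcon
      push Not at hcon
      exact hRtop ((Subgroup.eq_top_iff' R).mpr hcon)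
    exact ⟨⟨(x : G ⧸ R), 1, fun hh => hx ((QuotientGroup.eq_one_iff x).mp hh)⟩⟩
  have hQ : IsPGroup p (G ⧸ R) := hG.to_quotient R
  have hZnt : Nontrivial (Subgroup.center (G ⧸ R)) := hQ.center_nontrivial
  have hZp : IsPGroup p (Subgroup.center (G ⧸ R)) := hQ.to_subgroup _
  have hdvd : p ∣ Nat.card (Subgroup.center (G ⧸ R)) := by
    rcases hZp.card_eq_or_dvd with h1 | h1
    · exfalso
      have := Finite.one_lt_card_iff_nontrivial.mpr hZnt
      omega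
    · exact h1
  obtain ⟨z, hz⟩ := exists_prime_orderOf_dvd_card' p hdvd
  obtain ⟨y, hy⟩ := QuotientGroup.mk_surjective (z : G ⧸ R)
  have hz1 : (z : G ⧸ R) ≠ 1 := by
    intro hh
    have : z = 1 := Subtype.ext hh
    rw [this, orderOf_one] at hz
    exact hpp.one_lt.ne hz
  have hzp : (z : G ⧸ R) ^ p = 1 := by
    have := pow_orderOf_eq_one z
    rw [hz] at this
    exact congrArg Subtype.val this
  refine ⟨y, ?_, ?_, ?_⟩
  · intro hyR
    apply hz1
    rw [← hy]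
    exact (QuotientGroup.eq_one_iff y).mpr hyR
  · rw [← QuotientGroup.eq_one_iff, QuotientGroup.mk_pow, hy]
    exact hzp
  · intro e
    rw [← QuotientGroup.eq_one_iff]
    have h1 : ((⁅y, e⁆ : G) : G ⧸ R) = ⁅(y : G ⧸ R), (e : G ⧸ R)⁆ := by
      simp only [commutatorElement_def, QuotientGroup.mk_mul, QuotientGroup.mk_inv]
    rw [h1, hy, commutatorElement_eq_one_iff_commute]
    exact ((Subgroup.mem_center_iff.mp z.2) (e : G ⧸ R)).symm

/-- Step I6 (c): every element of `R` is a `p`-th power of an element of `Y`. -/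
theorem r2I_pow_surj {p : ℕ} [Fact p.Prime] (hp : 5 ≤ p) {G : Type*} [Group G]
    {A : Subgroup (MulAut G)} (R : Subgroup G)
    (hRc : ∀ r ∈ R, ∀ x : G, x * r = r * x) (hRexp : ∀ a ∈ R, a ^ p = 1)
    (hinv : ∀ D : Subgroup G, D ≤ R → (∀ α ∈ A, ∀ d ∈ D, α d ∈ D) → D = ⊥ ∨ D = R)
    (Y : Subgroup G) (hY : ∀ y, y ∈ Y ↔ (y ^ p ∈ R ∧ ∀ e : G, ⁅y, e⁆ ∈ R))
    (hYA : ∀ α ∈ A, ∀ y ∈ Y, α y ∈ Y)
    (y0 : G) (hy0 : y0 ∈ Y) (hy0p : y0 ^ p ≠ 1) :
    ∀ r ∈ R, ∃ y ∈ Y, y ^ p = r := by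
  let D : Subgroup G :=
    { carrier := {r | ∃ y ∈ Y, y ^ p = r}
      mul_mem' := by
        rintro _ _ ⟨a, ha, rfl⟩ ⟨b, hb, rfl⟩
        exact ⟨a * b, Y.mul_mem ha hb, r2I_mul_pow hp R hRc hRexp a b (((hY b).mp hb).2 a)⟩
      one_mem' := ⟨1, Y.one_mem, one_pow p⟩
      inv_mem' := by
        rintro _ ⟨a, ha, rfl⟩
        exact ⟨a⁻¹, Y.inv_mem ha, inv_pow a p⟩ }
  have hDmem : ∀ r, r ∈ D ↔ ∃ y ∈ Y, y ^ p = r := fun r => Iff.rfl
  have hDR : D ≤ R := by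
    rintro _ ⟨y, hy, rfl⟩
    exact ((hY y).mp hy).1
  have hDA : ∀ α ∈ A, ∀ d ∈ D, α d ∈ D := by
    rintro α hα _ ⟨y, hy, rfl⟩
    exact ⟨α y, hYA α hα y hy, (map_pow α y p).symm⟩
  rcases hinv D hDR hDA with hD | hD
  · exfalso
    have : y0 ^ p ∈ D := ⟨y0, hy0, rfl⟩
    rw [hD, Subgroup.mem_bot] at this
    exact hy0p this
  · intro r hr
    rw [← hD] at hr
    exact hr

/-- Iterating an automorphism along a chain `y ↦ y a`, `a ↦ a b`, `b ↦ b c`, `c ↦ c`. -/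
theorem r2I_iter3 {G : Type*} [Group G] (f : MulAut G) (y a b c : G) (hy : f y = y * a)
    (ha : f a = a * b) (hb : f b = b * c) (hc : f c = c) (hab : Commute a b) (hbc : Commute b c)
    (k : ℕ) : (f ^ k) y = y * a ^ k * b ^ (k.choose 2) * c ^ (k.choose 3) := by
  induction k with
  | zero => simp
  | succ k ih =>
    rw [pow_succ', MulAut.mul_apply, ih, map_mul, map_mul, map_mul, map_pow, map_pow, map_pow,
      hy, ha, hb, hc, hab.mul_pow, hbc.mul_pow]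
    have h2 : (k + 1).choose 2 = k + k.choose 2 := by
      rw [Nat.choose_succ_succ', Nat.choose_one_right]
    have h3 : (k + 1).choose 3 = k.choose 2 + k.choose 3 := Nat.choose_succ_succ' k 2
    rw [h2, h3, pow_succ', pow_add, pow_add]
    simp only [mul_assoc]

/-- Step I8: the action of `t ^ p` on `Y`. -/
theorem r2I_tp_on_Y {p : ℕ} [Fact p.Prime] (hp : 5 ≤ p) {G : Type*} [Group G] (t : MulAut G)
    (R : Subgroup G)
    (hRc : ∀ r ∈ R, ∀ x : G, x * r = r * x) (hRexp : ∀ a ∈ R, a ^ p = 1)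
    (hR5 : ∀ x : G, x ^ p = 1 → x ∈ R)
    (L : Subgroup G) (hL : ∀ x, x ∈ L ↔ x ∈ R ∧ t x = x) (hLt : ∀ r ∈ R, t r * r⁻¹ ∈ L)
    (Y : Subgroup G) (hY : ∀ y, y ∈ Y ↔ (y ^ p ∈ R ∧ ∀ e : G, ⁅y, e⁆ ∈ R))
    (htY : ∀ y ∈ Y, t y ∈ Y) (y : G) (hy : y ∈ Y) :
    (t ^ p) y = y * ((y ^ p)⁻¹ * t (y ^ p)) := by
  have hpp : p.Prime := Fact.out
  have hpow : ∀ x : G, ∀ z ∈ Y, (x * z) ^ p = x ^ p * z ^ p := fun x z hz =>
    r2I_mul_pow hp R hRc hRexp x z (((hY z).mp hz).2 x)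
  have hν : ∀ r ∈ R, r⁻¹ * t r ∈ L := by
    intro r hr
    have := hLt r hr
    rw [hRc _ (R.inv_mem hr) (t r)] at this
    exact this
  obtain ⟨a, ha⟩ : ∃ a : G, a = y⁻¹ * t y := ⟨_, rfl⟩
  have haY : a ∈ Y := ha ▸ Y.mul_mem (Y.inv_mem hy) (htY y hy)
  have hap : a ^ p = (y ^ p)⁻¹ * t (y ^ p) := by
    rw [ha, hpow _ _ (htY y hy), inv_pow, map_pow]
  have hypR : y ^ p ∈ R := ((hY y).mp hy).1
  have hapL : a ^ p ∈ L := by rw [hap]; exact hν _ hypR
  obtain ⟨b, hb⟩ : ∃ b : G, b = a⁻¹ * t a := ⟨_, rfl⟩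
  have hbp : b ^ p = 1 := by
    rw [hb, hpow _ _ (htY a haY), inv_pow, ← map_pow, ((hL _).mp hapL).2, inv_mul_cancel]
  have hbR : b ∈ R := hR5 b hbp
  obtain ⟨c, hc⟩ : ∃ c : G, c = b⁻¹ * t b := ⟨_, rfl⟩
  have hcL : c ∈ L := hc ▸ hν b hbR
  have hcR : c ∈ R := ((hL c).mp hcL).1
  have h1 := r2I_iter3 t y a b c (by rw [ha]; group) (by rw [hb]; group) (by rw [hc]; group)
    ((hL c).mp hcL).2 (hRc b hbR a) (hRc c hcR b) p
  obtain ⟨k2, hk2⟩ := hpp.dvd_choose_self (k := 2) (by norm_num) (by omega)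
  obtain ⟨k3, hk3⟩ := hpp.dvd_choose_self (k := 3) (by norm_num) (by omega)
  rw [hk2, hk3, pow_mul, pow_mul, hbp, hRexp c hcR, one_pow, one_pow, mul_one, mul_one, hap] at h1
  exact h1

/-- Step I9: elements of `Y` commuting with `e = e₀ * g e₀` lie in `R`. -/
theorem r2I_centralizer {p : ℕ} [Fact p.Prime] {G : Type*} [Group G] (t g : MulAut G)
    (R : Subgroup G) (hgR : ∀ r ∈ R, g⁻¹ r ∈ R) (hgR' : ∀ r ∈ R, g r ∈ R)
    (hRc : ∀ r ∈ R, ∀ x : G, x * r = r * x)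
    (hR5 : ∀ x : G, x ^ p = 1 → x ∈ R)
    (L : Subgroup G) (hL : ∀ x, x ∈ L ↔ x ∈ R ∧ t x = x) (hLcard : Nat.card L = p)
    (hLt : ∀ r ∈ R, t r * r⁻¹ ∈ L)
    (r0 : G) (hr0 : r0 ∈ L) (hgr0 : g r0 ∉ L)
    (Y : Subgroup G) (hYR : ∀ y ∈ Y, y ^ p ∈ R) (hgY : ∀ y ∈ Y, g⁻¹ y ∈ Y)
    (e0 : G) (he0 : ∀ y ∈ Y, e0 * y * e0⁻¹ = y * ((y ^ p)⁻¹ * t (y ^ p)))
    (y : G) (hy : y ∈ Y) (hcomm : (e0 * g e0) * y = y * (e0 * g e0)) : y ∈ R := by
  have hν : ∀ r ∈ R, r⁻¹ * t r ∈ L := by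
    intro r hr
    have := hLt r hr
    rw [hRc _ (R.inv_mem hr) (t r)] at this
    exact this
  have hypR : y ^ p ∈ R := hYR y hy
  obtain ⟨u, hu⟩ : ∃ u : G, u = (y ^ p)⁻¹ * t (y ^ p) := ⟨_, rfl⟩
  obtain ⟨s, hs⟩ : ∃ s : G, s = g⁻¹ (y ^ p) := ⟨_, rfl⟩
  obtain ⟨v, hv⟩ : ∃ v : G, v = s⁻¹ * t s := ⟨_, rfl⟩
  have huL : u ∈ L := hu ▸ hν _ hypR
  have hsR : s ∈ R := hs ▸ hgR _ hypR
  have hvL : v ∈ L := hv ▸ hν _ hsR
  have hgs : g s = y ^ p := by rw [hs, MulAut.apply_inv_self]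
  have h1 : g e0 * y * (g e0)⁻¹ = y * g v := by
    have h2 := he0 (g⁻¹ y) (hgY y hy)
    rw [← map_pow g⁻¹ y p, ← hs, ← hv] at h2
    have h3 := congrArg g h2
    simp only [map_mul, map_inv, MulAut.apply_inv_self] at h3
    exact h3
  have hvR : v ∈ R := ((hL v).mp hvL).1
  have hgvR : g v ∈ R := hgR' _ hvR
  have h5 : (e0 * g e0) * y * (e0 * g e0)⁻¹ = y := by rw [hcomm, mul_inv_cancel_right]
  have h6 : (e0 * g e0) * y * (e0 * g e0)⁻¹ = e0 * (g e0 * y * (g e0)⁻¹) * e0⁻¹ := by group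
  have h7 : e0 * (y * g v) * e0⁻¹ = e0 * y * e0⁻¹ * g v := by
    have := hRc _ hgvR e0⁻¹
    calc e0 * (y * g v) * e0⁻¹ = e0 * y * (g v * e0⁻¹) := by group
      _ = e0 * y * (e0⁻¹ * g v) := by rw [this]
      _ = e0 * y * e0⁻¹ * g v := by group
  rw [h6, h1, h7, he0 y hy, ← hu] at h5
  have h8 : u * g v = 1 := by
    have : y * (u * g v) = y * 1 := by rw [← mul_assoc, h5, mul_one]
    exact mul_left_cancel this
  have hgvL : g v ∈ L := by
    have : g v = u⁻¹ := eq_inv_of_mul_eq_one_right h8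
    rw [this]; exact L.inv_mem huL
  have hv1 : v = 1 := r2I_prime_disjoint L hLcard g r0 hr0 hgr0 v hvL hgvL
  have hu1 : u = 1 := by
    rw [hv1, map_one, mul_one] at h8; exact h8
  have hypL : y ^ p ∈ L := by
    rw [hL]
    refine ⟨hypR, ?_⟩
    rw [hu] at hu1
    exact (inv_mul_eq_one.mp hu1).symm
  have hsL : s ∈ L := by
    rw [hL]
    refine ⟨hsR, ?_⟩
    rw [hv] at hv1
    exact (inv_mul_eq_one.mp hv1).symm
  have hs1 : s = 1 :=
    r2I_prime_disjoint L hLcard g r0 hr0 hgr0 s hsL (by rw [hgs]; exact hypL)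
  have : y ^ p = 1 := by rw [← hgs, hs1, map_one]
  exact hR5 y this

/-- **Case I** (PIECE I of CALL S5289): an `A`-invariant elementary abelian subgroup `R` of order
`p ^ 2` of `G` is all of `G`, and some element of `A` moves a fixed point of `t` on `R` to a non-fixed
point. -/
theorem r2ctx_caseI {p : ℕ} [Fact p.Prime] {G : Type*} [Group G] {A : Subgroup (MulAut G)}
    {t : MulAut G}
    (h : R2Ctx p G A t) (hp : 5 ≤ p) (R : Subgroup G)
    (hRA : ∀ α ∈ A, ∀ r ∈ R, α r ∈ R) (hRab : ∀ a ∈ R, ∀ b ∈ R, a * b = b * a)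
    (hRexp : ∀ a ∈ R, a ^ p = 1) (hRcard : Nat.card R = p ^ 2) :
    R = ⊤ ∧ ∃ g ∈ A, ∃ r ∈ R, t r = r ∧ t (g r) ≠ g r := by
  have hpp : p.Prime := Fact.out
  have hfin := h.fin
  obtain ⟨L, hL, hLcard, hLt⟩ := r2I_exists_L h hp R hRA hRab hRexp hRcard
  obtain ⟨g, hg, r0, hr0, hgr0⟩ := r2I_exists_g h hp R hRA hRab hRexp hRcard L hL hLt
  have hr0R : r0 ∈ R := ((hL r0).mp hr0).1
  refine ⟨?_, g, hg, r0, hr0R, ((hL r0).mp hr0).2,
    fun hh => hgr0 ((hL _).mpr ⟨hRA g hg r0 hr0R, hh⟩)⟩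
  by_contra hRtop
  have hinv := r2I_invariant h R hRcard L hL hLcard g hg r0 hr0 hgr0
  have hRc := r2I_central h R hRA hRcard hinv
  have hR5 : ∀ x : G, x ^ p = 1 → x ∈ R := fun x hx =>
    r2I_rank_mem R h.rank hRab hRexp hRcard x (fun r hr => hRc r hr x) hx
  obtain ⟨Y, hY⟩ := r2I_exists_Y hp R hRc hRexp
  have hYA := r2I_Y_invariant R hRA Y hY
  obtain ⟨y0, hy0R, hy0p, hy0c⟩ := r2I_exists_Y_not_R h.pG R hRc hRtop
  have hy0Y : y0 ∈ Y := (hY y0).mpr ⟨hy0p, hy0c⟩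
  have hsurj := r2I_pow_surj hp R hRc hRexp hinv Y hY hYA y0 hy0Y
    (fun hh => hy0R (hR5 y0 hh))
  obtain ⟨e0, he0⟩ := h.tpow
  have htp : ∀ y ∈ Y, e0 * y * e0⁻¹ = y * ((y ^ p)⁻¹ * t (y ^ p)) := by
    intro y hy
    have := r2I_tp_on_Y hp t R hRc hRexp hR5 L hL hLt Y hY (hYA t h.tA) y hy
    rw [he0, MulAut.conj_apply] at this
    exact this
  have hcent : ∀ y ∈ Y, (e0 * g e0) * y = y * (e0 * g e0) → y ∈ R := fun y hy hc =>
    r2I_centralizer t g R (hRA _ (A.inv_mem hg)) (hRA g hg) hRc hR5 L hL hLcard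
      hLt r0 hr0 hgr0 Y (fun y hy => ((hY y).mp hy).1) (hYA _ (A.inv_mem hg)) e0 htp y hy hc
  have hRY : R ≤ Y := by
    intro r hr
    rw [hY]
    refine ⟨by rw [hRexp r hr]; exact R.one_mem, fun e => ?_⟩
    have : ⁅r, e⁆ = 1 := by
      rw [commutatorElement_eq_one_iff_commute]
      exact (hRc r hr e).symm
    rw [this]; exact R.one_mem
  obtain ⟨e, he⟩ : ∃ e : G, e = e0 * g e0 := ⟨_, rfl⟩
  rw [← he] at hcent
  have heR : e ∉ R := by
    intro heR
    exact hy0R (hcent y0 hy0Y (hRc e heR y0).symm)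
  classical
  have hex : ∃ K : ℕ, e ^ (p ^ K) = 1 := h.pG e
  obtain ⟨K, hK, hKmin⟩ : ∃ K, e ^ (p ^ K) = 1 ∧ ∀ m < K, e ^ (p ^ m) ≠ 1 :=
    ⟨Nat.find hex, Nat.find_spec hex, fun m hm => Nat.find_min hex hm⟩
  have hK2 : 2 ≤ K := by
    by_contra hlt
    have hK01 : K = 0 ∨ K = 1 := by omega
    rcases hK01 with rfl | rfl
    · rw [pow_zero, pow_one] at hK
      exact heR (by rw [hK]; exact R.one_mem)
    · rw [pow_one] at hK
      exact heR (hR5 e hK)
  obtain ⟨k, rfl⟩ : ∃ k, K = k + 2 := ⟨K - 2, by omega⟩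
  obtain ⟨e', he'⟩ : ∃ e' : G, e' = e ^ (p ^ k) := ⟨_, rfl⟩
  have he'p2 : (e' ^ p) ^ p = 1 := by
    have : (e' ^ p) ^ p = e ^ (p ^ (k + 2)) := by
      rw [he', ← pow_mul, ← pow_mul]; congr 1; ring
    rw [this]; exact hK
  have he'p : e' ^ p ≠ 1 := by
    have : e' ^ p = e ^ (p ^ (k + 1)) := by
      rw [he', ← pow_mul]; congr 1
    rw [this]; exact hKmin (k + 1) (by omega)
  have hsR : e' ^ p ∈ R := hR5 _ he'p2
  obtain ⟨y, hyY, hyp⟩ := hsurj _ (R.inv_mem hsR)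
  have h1 : (e' * y) ^ p = 1 := by
    rw [r2I_mul_pow hp R hRc hRexp e' y (((hY y).mp hyY).2 e'), hyp, mul_inv_cancel]
  have h2 : e' * y ∈ R := hR5 _ h1
  have he'Y : e' ∈ Y := by
    have := Y.mul_mem (hRY h2) (Y.inv_mem hyY)
    rwa [mul_inv_cancel_right] at this
  have he'comm : e * e' = e' * e := by
    rw [he']
    exact ((Commute.refl e).pow_right _).eq
  have he'R : e' ∈ R := hcent e' he'Y he'comm
  exact he'p (hRexp e' he'R)

end Cfsg.Agent.Helper53
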