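import Mathlib
import Cfsg.Agent.Helper20.Ree2358AR

/-!
# CALL S1159, PIECE ORDS (helper53): element orders in a group of Ree order.
-/

set_option autoImplicit false

namespace Cfsg.Agent.Helper53

/-- PIECE ORDS -/
theorem orderOf_dvd_cases {G : Type*} [Group G] [Finite G] {m : ℕ}
    (hG : Nat.card G =
      (3 ^ (2 * m + 1)) ^ 3 * (3 ^ (2 * m + 1) - 1) * ((3 ^ (2 * m + 1)) ^ 3 + 1))
    (h2 : ∀ (g : G) (k : ℕ), g ^ 2 ^ k = 1 → g * g = 1)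
    (h3 : ∀ g : G, 3 ∣ orderOf g → orderOf g ∣ 6 ∨ orderOf g ∣ 9)
    (hm1 : ∀ (g : G) (s : ℕ), s.Prime → s ≠ 2 → s ∣ 3 ^ (2 * m + 1) - 1 → s ∣ orderOf g →
      orderOf g ∣ 3 ^ (2 * m + 1) - 1)
    (hp1 : ∀ (g : G) (s : ℕ), s.Prime → s ≠ 2 → s ∣ 3 ^ (2 * m + 1) + 1 → s ∣ orderOf g →
      orderOf g ∣ (3 ^ (2 * m + 1) + 1) / 2)
    (hex : ∀ (g : G) (p : ℕ), p.Prime → p ∣ (3 ^ (2 * m + 1)) ^ 2 - 3 ^ (2 * m + 1) + 1 →
      p ∣ orderOf g →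
      orderOf g ∣ 3 ^ (2 * m + 1) - 3 ^ (m + 1) + 1 ∨
        orderOf g ∣ 3 ^ (2 * m + 1) + 3 ^ (m + 1) + 1) :
    ∀ g : G, orderOf g ∣ 6 ∨ orderOf g ∣ 9 ∨ orderOf g ∣ 3 ^ (2 * m + 1) - 1 ∨
      orderOf g ∣ (3 ^ (2 * m + 1) + 1) / 2 ∨
      orderOf g ∣ 3 ^ (2 * m + 1) - 3 ^ (m + 1) + 1 ∨
      orderOf g ∣ 3 ^ (2 * m + 1) + 3 ^ (m + 1) + 1 := by
  intro g
  have hQ1 : 1 < 3 ^ (2 * m + 1) := Nat.one_lt_pow (by omega) (by norm_num)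
  by_cases h3d : 3 ∣ orderOf g
  · rcases h3 g h3d with h | h
    · exact Or.inl h
    · exact Or.inr (Or.inl h)
  rcases Nat.eq_two_pow_or_exists_odd_prime_and_dvd (orderOf g) with ⟨k, hk⟩ | ⟨s, hs, hsd, hodd⟩
  · have h1 : g ^ 2 ^ k = 1 := by rw [← hk]; exact pow_orderOf_eq_one g
    have h2' := h2 g k h1
    have h4 : orderOf g ∣ 2 := orderOf_dvd_of_pow_eq_one (by rw [pow_two]; exact h2')
    exact Or.inl (h4.trans (by norm_num))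
  · have hs2 : s ≠ 2 := by
      rintro rfl
      exact absurd hodd (by decide)
    have hs3 : s ≠ 3 := by
      rintro rfl
      exact h3d hsd
    have hsQ : ¬ s ∣ 3 ^ (2 * m + 1) := by
      intro h
      exact hs3 ((Nat.prime_dvd_prime_iff_eq hs Nat.prime_three).mp (hs.dvd_of_dvd_pow h))
    have hsG : s ∣ (3 ^ (2 * m + 1)) ^ 3 * (3 ^ (2 * m + 1) - 1) *
        ((3 ^ (2 * m + 1)) ^ 3 + 1) := by
      rw [← hG]
      exact hsd.trans (orderOf_dvd_natCard g)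
    rcases Cfsg.Agent.Helper20.ree_prime_cases hQ1 hs hsQ hsG with h | h | h
    · exact Or.inr (Or.inr (Or.inl (hm1 g s hs hs2 h hsd)))
    · exact Or.inr (Or.inr (Or.inr (Or.inl (hp1 g s hs hs2 h hsd))))
    · rcases hex g s hs h hsd with h' | h'
      · exact Or.inr (Or.inr (Or.inr (Or.inr (Or.inl h'))))
      · exact Or.inr (Or.inr (Or.inr (Or.inr (Or.inr h'))))

end Cfsg.Agent.Helper53
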