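import Cfsg.Agent.Helper42.SL2Odd

/-!
# Centralizers of elements of odd prime order dividing `q + 1` in `PSL₂(q)` (PIECE P of CALL S2359)
-/

set_option autoImplicit false

namespace Cfsg.Agent.Helper53

open Matrix Cfsg.Agent.Helper42.SL2

/-- the centre of `SL₂(F)` has order 2 in odd characteristic -/
theorem ree_card_center_SL2 {F : Type*} [Field F] (h2 : (2 : F) ≠ 0) :
    Nat.card (Subgroup.center (Matrix.SpecialLinearGroup (Fin 2) F)) = 2 := by
  have hneg : mkSL (-1 : F) 0 0 (-1) (by ring) ∈
      Subgroup.center (Matrix.SpecialLinearGroup (Fin 2) F) := by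
    rw [Matrix.SpecialLinearGroup.mem_center_iff]
    refine ⟨-1, by simp, ?_⟩
    ext i j
    fin_cases i <;> fin_cases j <;> simp [mkSL]
  rw [Nat.card_eq_two_iff]
  refine ⟨⟨1, Subgroup.one_mem _⟩, ⟨_, hneg⟩, ?_, ?_⟩
  · intro h
    have h' := congrArg
      (fun A : Subgroup.center (Matrix.SpecialLinearGroup (Fin 2) F) => A.1.1 0 0) h
    simp [mkSL] at h'
    apply h2
    linear_combination h'
  · ext A
    simp only [Set.mem_insert_iff, Set.mem_singleton_iff, Set.mem_univ, iff_true]
    obtain ⟨r, hr, hrA⟩ := Matrix.SpecialLinearGroup.mem_center_iff.mp A.2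
    simp only [Fintype.card_fin] at hr
    rcases sq_eq_one_iff.1 hr with rfl | rfl
    · left
      apply Subtype.ext; apply Subtype.ext
      rw [← hrA]; simp
    · right
      apply Subtype.ext; apply Subtype.ext
      rw [← hrA]
      ext i j
      fin_cases i <;> fin_cases j <;> simp [mkSL]

theorem psl2_centralizer_of_prime {F : Type*} [Field F] [Fintype F] (h2 : (2 : F) ≠ 0)
    {s : ℕ} (hs : s.Prime) (hs2 : s ≠ 2) (hsq : s ∣ Fintype.card F + 1)
    (y : Matrix.ProjectiveSpecialLinearGroup (Fin 2) F) (hy1 : y ≠ 1) (hys : y ^ s = 1) :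
    2 * Nat.card (Subgroup.centralizer
        ({y} : Set (Matrix.ProjectiveSpecialLinearGroup (Fin 2) F))) = Fintype.card F + 1 ∧
      ∀ x z : Matrix.ProjectiveSpecialLinearGroup (Fin 2) F,
        x * y = y * x → z * y = y * z → x * z = z * x := by
  obtain ⟨g, rfl⟩ := QuotientGroup.mk_surjective y
  -- g is non-scalar
  have hg : NonScalar g.1 := by
    rintro ⟨h01, h10, h00⟩
    apply hy1
    have hdet := det_eq g
    rw [h01, zero_mul, sub_zero, h00] at hdet
    have hsq1 : g.1 1 1 = 1 ∨ g.1 1 1 = -1 := by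
      have : g.1 1 1 ^ 2 = 1 := by rw [sq]; exact hdet
      exact sq_eq_one_iff.1 this
    show (QuotientGroup.mk g : Matrix.ProjectiveSpecialLinearGroup (Fin 2) F) = QuotientGroup.mk 1
    rw [psl_mk_eq_iff]
    rcases hsq1 with h | h
    · left
      apply mat_ext <;> simp [h01, h10, h00, h]
    · right
      apply mat_ext <;> simp [h01, h10, h00, h]
  -- the trace of g is not zero
  have ht : g.1 0 0 + g.1 1 1 ≠ 0 := by
    intro ht
    apply hy1
    have hsqm : (QuotientGroup.mk g : Matrix.ProjectiveSpecialLinearGroup (Fin 2) F) ^ 2 = 1 := by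
      rw [← QuotientGroup.mk_pow]
      show (QuotientGroup.mk (g ^ 2) : Matrix.ProjectiveSpecialLinearGroup (Fin 2) F) =
        QuotientGroup.mk 1
      rw [psl_mk_eq_iff]
      right
      have hdet := det_eq g
      rw [pow_two, Matrix.SpecialLinearGroup.coe_mul]
      apply mat_ext
      · simp only [Matrix.mul_apply, Fin.sum_univ_two, Matrix.SpecialLinearGroup.coe_one,
          Matrix.neg_apply, Matrix.one_apply_eq]
        linear_combination (g.1 0 0) * ht - hdet
      · simp only [Matrix.mul_apply, Fin.sum_univ_two, Matrix.SpecialLinearGroup.coe_one,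
          Matrix.neg_apply]
        simp
        linear_combination (g.1 0 1) * ht
      · simp only [Matrix.mul_apply, Fin.sum_univ_two, Matrix.SpecialLinearGroup.coe_one,
          Matrix.neg_apply]
        simp
        linear_combination (g.1 1 0) * ht
      · simp only [Matrix.mul_apply, Fin.sum_univ_two, Matrix.SpecialLinearGroup.coe_one,
          Matrix.neg_apply, Matrix.one_apply_eq]
        linear_combination (g.1 1 1) * ht - hdet
    have h1 := orderOf_dvd_of_pow_eq_one hsqm
    have h3 := orderOf_dvd_of_pow_eq_one hys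
    have hcop : Nat.Coprime 2 s := (Nat.coprime_primes Nat.prime_two hs).mpr (Ne.symm hs2)
    exact orderOf_eq_one_iff.mp (Nat.eq_one_of_dvd_coprimes hcop h1 h3)
  -- the preimage of the centralizer is the centralizer of g
  have hCt : ∀ h : Matrix.SpecialLinearGroup (Fin 2) F, h ∈ Ctilde g ↔ h.1 * g.1 = g.1 * h.1 := by
    intro h
    rw [mem_ctilde]
    constructor
    · rintro (h1 | h1)
      · exact h1
      · exact absurd (anticomm_trace h2 g h h1) ht
    · exact fun h1 => Or.inl h1
  have hidx := index_psl g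
  have hcardCt := ctilde_card_of_trace_ne h2 g ht
  have hZ := ree_card_center_SL2 (F := F) h2
  have hSL := Subgroup.card_eq_card_quotient_mul_card_subgroup
    (Subgroup.center (Matrix.SpecialLinearGroup (Fin 2) F))
  have hSLcard := card_SL2 (F := F)
  have hkey : Nat.card (Ctilde g) = 2 * Nat.card (Subgroup.centralizer
      ({(QuotientGroup.mk g : Matrix.ProjectiveSpecialLinearGroup (Fin 2) F)} :
        Set (Matrix.ProjectiveSpecialLinearGroup (Fin 2) F))) := by
    have hCidx := Subgroup.index_mul_card (Subgroup.centralizer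
      ({(QuotientGroup.mk g : Matrix.ProjectiveSpecialLinearGroup (Fin 2) F)} :
        Set (Matrix.ProjectiveSpecialLinearGroup (Fin 2) F)))
    have hpos : 0 < (Subgroup.centralizer
      ({(QuotientGroup.mk g : Matrix.ProjectiveSpecialLinearGroup (Fin 2) F)} :
        Set (Matrix.ProjectiveSpecialLinearGroup (Fin 2) F))).index :=
      Nat.pos_of_ne_zero Subgroup.index_ne_zero_of_finite
    apply Nat.eq_of_mul_eq_mul_left hpos
    have e : Nat.card (Matrix.SpecialLinearGroup (Fin 2) F ⧸
        Subgroup.center (Matrix.SpecialLinearGroup (Fin 2) F)) = _ := hCidx.symm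
    rw [hidx, ← hSLcard, hSL, hZ, e]
    ring
  obtain ⟨s', hs'⟩ : ∃ s' : F, g.1 0 0 + g.1 1 1 = 2 * s' :=
    ⟨(g.1 0 0 + g.1 1 1) / 2, by field_simp⟩
  obtain ⟨c1, c2, c3⟩ := card_centralizer_odd h2 g hg s' hs'
  have hq : 1 < Fintype.card F := Fintype.one_lt_card
  have hsC : s ∣ Nat.card (Subgroup.centralizer
      ({(QuotientGroup.mk g : Matrix.ProjectiveSpecialLinearGroup (Fin 2) F)} :
        Set (Matrix.ProjectiveSpecialLinearGroup (Fin 2) F))) := by
    have hyC : (QuotientGroup.mk g : Matrix.ProjectiveSpecialLinearGroup (Fin 2) F) ∈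
        Subgroup.centralizer
          ({(QuotientGroup.mk g : Matrix.ProjectiveSpecialLinearGroup (Fin 2) F)} :
            Set (Matrix.ProjectiveSpecialLinearGroup (Fin 2) F)) := by
      rw [Subgroup.mem_centralizer_iff]
      intro h hh
      rw [Set.mem_singleton_iff] at hh
      rw [hh]
    have hord : orderOf (QuotientGroup.mk g : Matrix.ProjectiveSpecialLinearGroup (Fin 2) F) =
        s := by
      rcases (Nat.dvd_prime hs).mp (orderOf_dvd_of_pow_eq_one hys) with h | h
      · exact absurd (orderOf_eq_one_iff.mp h) hy1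
      · exact h
    have := orderOf_dvd_natCard (⟨_, hyC⟩ : Subgroup.centralizer
      ({(QuotientGroup.mk g : Matrix.ProjectiveSpecialLinearGroup (Fin 2) F)} :
        Set (Matrix.ProjectiveSpecialLinearGroup (Fin 2) F)))
    rw [Subgroup.orderOf_mk, hord] at this
    exact this
  have hsq' : ¬ s ∣ Fintype.card F := by
    intro h
    have : s ∣ 1 := (Nat.dvd_add_right h).mp hsq
    exact hs.one_lt.ne' (Nat.dvd_one.mp this)
  have hsq1 : ¬ s ∣ Fintype.card F - 1 := by
    intro h
    have h3 : s ∣ 2 := by
      have : Fintype.card F + 1 = (Fintype.card F - 1) + 2 := by omega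
      rw [this] at hsq
      exact (Nat.dvd_add_right h).mp hsq
    exact hs2 ((Nat.prime_dvd_prime_iff_eq hs Nat.prime_two).mp h3)
  have hcard : Nat.card (Subgroup.centralizer
      ({g} : Set (Matrix.SpecialLinearGroup (Fin 2) F))) = Fintype.card F + 1 := by
    by_cases hsq2 : s' ^ 2 = 1
    · exfalso
      have h5 := c1 hsq2
      rw [← hcardCt, hkey] at h5
      have h6 := Nat.eq_of_mul_eq_mul_left (by norm_num : 0 < 2) h5
      rw [h6] at hsC
      exact hsq' hsC
    · by_cases hsquare : IsSquare (s' ^ 2 - 1)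
      · exfalso
        obtain ⟨d, hd⟩ := hsquare
        have hd0 : d ≠ 0 := by
          rintro rfl
          apply hsq2
          linear_combination hd
        have h5 := c2 d hd0 (by rw [hd]; ring)
        rw [← hcardCt, hkey] at h5
        exact hsq1 (h5 ▸ (hsC.mul_left 2))
      · exact c3 hsquare
  refine ⟨by rw [← hcard, ← hcardCt, hkey], ?_⟩
  intro x z hx hz
  obtain ⟨a, rfl⟩ := QuotientGroup.mk_surjective x
  obtain ⟨b, rfl⟩ := QuotientGroup.mk_surjective z
  have ha : a ∈ Ctilde g := by
    unfold Ctilde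
    rw [Subgroup.mem_comap, Subgroup.mem_centralizer_iff]
    intro h hh
    rw [Set.mem_singleton_iff] at hh
    rw [hh]
    exact hx.symm
  have hb : b ∈ Ctilde g := by
    unfold Ctilde
    rw [Subgroup.mem_comap, Subgroup.mem_centralizer_iff]
    intro h hh
    rw [Set.mem_singleton_iff] at hh
    rw [hh]
    exact hz.symm
  obtain ⟨α, β, hαβ⟩ := (commute_iff g.1 a.1 hg).mp ((hCt a).mp ha)
  obtain ⟨γ, δ, hγδ⟩ := (commute_iff g.1 b.1 hg).mp ((hCt b).mp hb)
  have hcomm : Commute (α • (1 : Matrix (Fin 2) (Fin 2) F) + β • g.1)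
      (γ • (1 : Matrix (Fin 2) (Fin 2) F) + δ • g.1) := by
    apply Commute.add_left <;> apply Commute.add_right
    · exact ((Commute.one_left _).smul_left α).smul_right γ
    · exact ((Commute.one_left _).smul_left α).smul_right δ
    · exact ((Commute.one_right _).smul_left β).smul_right γ
    · exact ((Commute.refl _).smul_left β).smul_right δ
  rw [← QuotientGroup.mk_mul, ← QuotientGroup.mk_mul]
  congr 1
  apply Subtype.ext
  rw [Matrix.SpecialLinearGroup.coe_mul, Matrix.SpecialLinearGroup.coe_mul, hαβ, hγδ]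
  exact hcomm.eq

end Cfsg.Agent.Helper53
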