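import Cfsg.Agent.Helper42.SL2Odd
import Cfsg.Agent.Helper53.Ree2359P

/-!
# Centralizers of elements of odd prime order dividing `q + 1` in `PSL₂(q)` are cyclic
(PIECE PC of CALL S2358, helper6)
-/

set_option autoImplicit false

namespace Cfsg.Agent.Helper53

open Matrix Cfsg.Agent.Helper42.SL2

/-- determinant of `α + β g` for `g ∈ SL₂(F)` of trace `2 s'` -/
theorem pc_det_combo {F : Type*} [Field F] (g : Matrix.SpecialLinearGroup (Fin 2) F)
    (α β s' : F) (hs' : g.1 0 0 + g.1 1 1 = 2 * s') :
    (α • (1 : Matrix (Fin 2) (Fin 2) F) + β • g.1).det =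
      (α + β * s') ^ 2 - β ^ 2 * (s' ^ 2 - 1) := by
  have hdet := det_eq g
  rw [Matrix.det_fin_two]
  simp only [Matrix.add_apply, Matrix.smul_apply, Matrix.one_apply_eq, smul_eq_mul, mul_one,
    ne_eq, zero_ne_one, one_ne_zero, not_false_eq_true, Matrix.one_apply_ne, mul_zero, zero_add]
  linear_combination (α * β) * hs' + β ^ 2 * hdet

theorem psl2_centralizer_cyclic_of_prime {F : Type*} [Field F] [Fintype F] (h2 : (2 : F) ≠ 0)
    {s : ℕ} (hs : s.Prime) (hs2 : s ≠ 2) (hsq : s ∣ Fintype.card F + 1)
    (y : Matrix.ProjectiveSpecialLinearGroup (Fin 2) F) (hy1 : y ≠ 1) (hys : y ^ s = 1) :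
    IsCyclic (Subgroup.centralizer
      ({y} : Set (Matrix.ProjectiveSpecialLinearGroup (Fin 2) F))) := by
  classical
  obtain ⟨hcardC, -⟩ := psl2_centralizer_of_prime h2 hs hs2 hsq y hy1 hys
  obtain ⟨g, rfl⟩ := QuotientGroup.mk_surjective y
  -- g is non-scalar
  have hg : NonScalar g.1 := by
    rintro ⟨h01, h10, h00⟩
    apply hy1
    have hdet := det_eq g
    rw [h01, zero_mul, sub_zero, h00] at hdet
    have hsq1 : g.1 1 1 = 1 ∨ g.1 1 1 = -1 := by
      have : g.1 1 1 ^ 2 = 1 := by rw [sq]; exact hdet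
      exact sq_eq_one_iff.1 this
    show (QuotientGroup.mk g : Matrix.ProjectiveSpecialLinearGroup (Fin 2) F) = QuotientGroup.mk 1
    rw [psl_mk_eq_iff]
    rcases hsq1 with h | h
    · left
      apply mat_ext <;> simp [h01, h10, h00, h]
    · right
      apply mat_ext <;> simp [h01, h10, h00, h]
  -- the trace of g is not zero
  have ht : g.1 0 0 + g.1 1 1 ≠ 0 := by
    intro ht
    apply hy1
    have hsqm : (QuotientGroup.mk g : Matrix.ProjectiveSpecialLinearGroup (Fin 2) F) ^ 2 = 1 := by
      rw [← QuotientGroup.mk_pow]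
      show (QuotientGroup.mk (g ^ 2) : Matrix.ProjectiveSpecialLinearGroup (Fin 2) F) =
        QuotientGroup.mk 1
      rw [psl_mk_eq_iff]
      right
      have hdet := det_eq g
      rw [pow_two, Matrix.SpecialLinearGroup.coe_mul]
      apply mat_ext
      · simp only [Matrix.mul_apply, Fin.sum_univ_two, Matrix.SpecialLinearGroup.coe_one,
          Matrix.neg_apply, Matrix.one_apply_eq]
        linear_combination (g.1 0 0) * ht - hdet
      · simp only [Matrix.mul_apply, Fin.sum_univ_two, Matrix.SpecialLinearGroup.coe_one,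
          Matrix.neg_apply]
        simp
        linear_combination (g.1 0 1) * ht
      · simp only [Matrix.mul_apply, Fin.sum_univ_two, Matrix.SpecialLinearGroup.coe_one,
          Matrix.neg_apply]
        simp
        linear_combination (g.1 1 0) * ht
      · simp only [Matrix.mul_apply, Fin.sum_univ_two, Matrix.SpecialLinearGroup.coe_one,
          Matrix.neg_apply, Matrix.one_apply_eq]
        linear_combination (g.1 1 1) * ht - hdet
    have h1 := orderOf_dvd_of_pow_eq_one hsqm
    have h3 := orderOf_dvd_of_pow_eq_one hys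
    have hcop : Nat.Coprime 2 s := (Nat.coprime_primes Nat.prime_two hs).mpr (Ne.symm hs2)
    exact orderOf_eq_one_iff.mp (Nat.eq_one_of_dvd_coprimes hcop h1 h3)
  have hCt : ∀ h : Matrix.SpecialLinearGroup (Fin 2) F, h ∈ Ctilde g ↔ h.1 * g.1 = g.1 * h.1 := by
    intro h
    rw [mem_ctilde]
    constructor
    · rintro (h1 | h1)
      · exact h1
      · exact absurd (anticomm_trace h2 g h h1) ht
    · exact fun h1 => Or.inl h1
  have hidx := index_psl g
  have hcardCt := ctilde_card_of_trace_ne h2 g ht
  have hZ := ree_card_center_SL2 (F := F) h2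
  have hSL := Subgroup.card_eq_card_quotient_mul_card_subgroup
    (Subgroup.center (Matrix.SpecialLinearGroup (Fin 2) F))
  have hSLcard := card_SL2 (F := F)
  have hkey : Nat.card (Ctilde g) = 2 * Nat.card (Subgroup.centralizer
      ({(QuotientGroup.mk g : Matrix.ProjectiveSpecialLinearGroup (Fin 2) F)} :
        Set (Matrix.ProjectiveSpecialLinearGroup (Fin 2) F))) := by
    have hCidx := Subgroup.index_mul_card (Subgroup.centralizer
      ({(QuotientGroup.mk g : Matrix.ProjectiveSpecialLinearGroup (Fin 2) F)} :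
        Set (Matrix.ProjectiveSpecialLinearGroup (Fin 2) F)))
    have hpos : 0 < (Subgroup.centralizer
      ({(QuotientGroup.mk g : Matrix.ProjectiveSpecialLinearGroup (Fin 2) F)} :
        Set (Matrix.ProjectiveSpecialLinearGroup (Fin 2) F))).index :=
      Nat.pos_of_ne_zero Subgroup.index_ne_zero_of_finite
    apply Nat.eq_of_mul_eq_mul_left hpos
    have e : Nat.card (Matrix.SpecialLinearGroup (Fin 2) F ⧸
        Subgroup.center (Matrix.SpecialLinearGroup (Fin 2) F)) = _ := hCidx.symm
    rw [hidx, ← hSLcard, hSL, hZ, e]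
    ring
  obtain ⟨s', hs'⟩ : ∃ s' : F, g.1 0 0 + g.1 1 1 = 2 * s' :=
    ⟨(g.1 0 0 + g.1 1 1) / 2, by field_simp⟩
  obtain ⟨c1, c2, -⟩ := card_centralizer_odd h2 g hg s' hs'
  have hq : 1 < Fintype.card F := Fintype.one_lt_card
  have hcardSL : Nat.card (Subgroup.centralizer
      ({g} : Set (Matrix.SpecialLinearGroup (Fin 2) F))) = Fintype.card F + 1 := by
    rw [← hcardCt, hkey, hcardC]
  -- the discriminant is a non-square
  have hnsq : ¬ IsSquare (s' ^ 2 - 1) := by
    rintro ⟨d, hd⟩
    by_cases hd0 : d = 0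
    · have h1 : s' ^ 2 = 1 := by rw [hd0] at hd; linear_combination hd
      have h3 := c1 h1
      omega
    · have h3 := c2 d hd0 (by rw [hd]; ring)
      omega
  -- nonzero elements commuting with `g` are invertible
  have hdetne : ∀ A : Matrix (Fin 2) (Fin 2) F, A * g.1 = g.1 * A → A ≠ 0 → A.det ≠ 0 := by
    intro A hA hA0 hdet0
    obtain ⟨α, β, rfl⟩ := (commute_iff g.1 A hg).mp hA
    rw [pc_det_combo g α β s' hs'] at hdet0
    by_cases hβ : β = 0
    · rw [hβ] at hdet0
      have hα : α = 0 := by
        have : α ^ 2 = 0 := by linear_combination hdet0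
        exact pow_eq_zero_iff (by norm_num) |>.mp this
      apply hA0
      rw [hα, hβ]; simp
    · apply hnsq
      refine ⟨(α + β * s') / β, ?_⟩
      field_simp
      linear_combination -hdet0
  -- the commutative domain of matrices commuting with `g`
  have hmemZ : ∀ A : Matrix (Fin 2) (Fin 2) F,
      A ∈ Subring.centralizer ({g.1} : Set (Matrix (Fin 2) (Fin 2) F)) ↔ A * g.1 = g.1 * A := by
    intro A
    rw [Subring.mem_centralizer_iff]
    constructor
    · intro h; exact (h g.1 rfl).symm
    · intro h b hb; rw [Set.mem_singleton_iff.mp hb]; exact h.symm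
  let instCR : CommRing ↥(Subring.centralizer ({g.1} : Set (Matrix (Fin 2) (Fin 2) F))) :=
    { (inferInstance : Ring ↥(Subring.centralizer ({g.1} : Set (Matrix (Fin 2) (Fin 2) F)))) with
      mul_comm := by
        intro a b
        obtain ⟨α, β, hαβ⟩ := (commute_iff g.1 a.1 hg).mp ((hmemZ a.1).mp a.2)
        obtain ⟨γ, δ, hγδ⟩ := (commute_iff g.1 b.1 hg).mp ((hmemZ b.1).mp b.2)
        have hcomm : Commute (α • (1 : Matrix (Fin 2) (Fin 2) F) + β • g.1)
            (γ • (1 : Matrix (Fin 2) (Fin 2) F) + δ • g.1) := by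
          apply Commute.add_left <;> apply Commute.add_right
          · exact ((Commute.one_left _).smul_left α).smul_right γ
          · exact ((Commute.one_left _).smul_left α).smul_right δ
          · exact ((Commute.one_right _).smul_left β).smul_right γ
          · exact ((Commute.refl _).smul_left β).smul_right δ
        apply Subtype.ext
        show a.1 * b.1 = b.1 * a.1
        rw [hαβ, hγδ]
        exact hcomm.eq }
  have hnzd : NoZeroDivisors ↥(Subring.centralizer ({g.1} : Set (Matrix (Fin 2) (Fin 2) F))) := by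
    refine ⟨?_⟩
    intro a b hab
    by_cases ha : a = 0
    · left; exact ha
    right
    have ha' : a.1 ≠ 0 := fun h => ha (Subtype.ext h)
    have hdet := hdetne a.1 ((hmemZ a.1).mp a.2) ha'
    have hab' : a.1 * b.1 = 0 := congrArg Subtype.val hab
    have hb : b.1 = 0 := by
      have h1 := Matrix.nonsing_inv_mul_cancel_left a.1 b.1 (isUnit_iff_ne_zero.mpr hdet)
      rw [hab', mul_zero] at h1
      exact h1.symm
    exact Subtype.ext hb
  have hdom : IsDomain ↥(Subring.centralizer ({g.1} : Set (Matrix (Fin 2) (Fin 2) F))) :=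
    NoZeroDivisors.to_isDomain _
  -- the embedding of `Ctilde g`
  let f : ↥(Ctilde g) →* ↥(Subring.centralizer ({g.1} : Set (Matrix (Fin 2) (Fin 2) F))) :=
    { toFun := fun h => ⟨h.1.1, (hmemZ _).mpr ((hCt h.1).mp h.2)⟩
      map_one' := rfl
      map_mul' := fun a b => rfl }
  have hf : Function.Injective f := by
    intro a b hab
    have h1 : a.1.1 = b.1.1 := congrArg
      (fun z : ↥(Subring.centralizer ({g.1} : Set (Matrix (Fin 2) (Fin 2) F))) => z.1) hab
    exact Subtype.ext (Subtype.ext h1)
  have hcyc : IsCyclic ↥(Ctilde g) := isCyclic_of_subgroup_isDomain f hf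
  -- the surjection onto the centralizer in `PSL₂`
  let π : ↥(Ctilde g) →* ↥(Subgroup.centralizer
      ({(QuotientGroup.mk g : Matrix.ProjectiveSpecialLinearGroup (Fin 2) F)} :
        Set (Matrix.ProjectiveSpecialLinearGroup (Fin 2) F))) :=
    ((QuotientGroup.mk' (Subgroup.center (Matrix.SpecialLinearGroup (Fin 2) F))).comp
      (Ctilde g).subtype).codRestrict _ (fun h => Subgroup.mem_comap.mp h.2)
  have hπ : Function.Surjective π := by
    rintro ⟨x, hx⟩
    obtain ⟨a, rfl⟩ := QuotientGroup.mk_surjective x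
    exact ⟨⟨a, Subgroup.mem_comap.mpr hx⟩, rfl⟩
  exact isCyclic_of_surjective π hπ

end Cfsg.Agent.Helper53
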