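import Mathlib

/-!
# CALL SL2L (helper2), piece G2: an element of prime order `t ∤ p (p - 1)` acting without fixed
points on `L ∖ Z` cannot normalize the line `L`.
-/

set_option autoImplicit false

namespace Cfsg.Agent.Helper53

open Subgroup

universe u

variable {Γ : Type u} [Group Γ] [Finite Γ]

/-- PIECE G2. -/
theorem sl2l_moves {p t : ℕ} (hp : p.Prime) (ht : t.Prime) (htp : ¬ t ∣ p - 1) (htp' : t ≠ p)
    {Z L : Subgroup Γ} (hZL : Z ≤ L) (hZc : Nat.card Z = p) (hLc : Nat.card L = p ^ 2)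
    {k₂ : Γ} (hk₂ : orderOf k₂ = t) (hk₂Z : ∀ z ∈ Z, k₂ * z = z * k₂)
    (hfix : ∀ a ∈ L, k₂ * a = a * k₂ → a ∈ Z) : ¬ ∀ a ∈ L, k₂ * a * k₂⁻¹ ∈ L := by
  intro hnorm
  have : Fact t.Prime := ⟨ht⟩
  classical
  let _ : Fintype L := Fintype.ofFinite L
  let f : Function.End L := fun a => ⟨k₂ * a.1 * k₂⁻¹, hnorm a.1 a.2⟩
  have hfpow : ∀ n : ℕ, ∀ a : L, ((f ^ n) a : Γ) = k₂ ^ n * a.1 * (k₂ ^ n)⁻¹ := by
    intro n
    induction n with
    | zero =>
      intro a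
      rw [pow_zero, pow_zero, one_mul, inv_one, mul_one]
      rfl
    | succ n ih =>
      intro a
      rw [pow_succ]
      show ((f ^ n) (f a) : Γ) = _
      rw [ih]
      show k₂ ^ n * (k₂ * a.1 * k₂⁻¹) * (k₂ ^ n)⁻¹ = _
      rw [pow_succ]; group
  have hft : f ^ t ^ 1 = 1 := by
    funext a
    apply Subtype.ext
    rw [pow_one, hfpow, ← hk₂, pow_orderOf_eq_one, one_mul, inv_one, mul_one]
    rfl
  have hmod := Equiv.Perm.card_fixedPoints_modEq (f := f) (p := t) (n := 1) hft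
  rw [← Nat.card_eq_fintype_card, ← Nat.card_eq_fintype_card] at hmod
  let e : Function.fixedPoints f ≃ Z :=
    { toFun := fun a => ⟨a.1.1, hfix a.1.1 a.1.2 (by
        have h1 : f a.1 = a.1 := a.2
        have h2 : k₂ * a.1.1 * k₂⁻¹ = a.1.1 := congrArg Subtype.val h1
        calc k₂ * a.1.1 = (k₂ * a.1.1 * k₂⁻¹) * k₂ := by group
          _ = a.1.1 * k₂ := by rw [h2])⟩
      invFun := fun z => ⟨⟨z.1, hZL z.2⟩, by
        show f ⟨z.1, hZL z.2⟩ = ⟨z.1, hZL z.2⟩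
        apply Subtype.ext
        show k₂ * z.1 * k₂⁻¹ = z.1
        rw [hk₂Z z.1 z.2]; group⟩
      left_inv := fun a => rfl
      right_inv := fun z => rfl }
  rw [Nat.card_congr e, hZc, hLc] at hmod
  have hle : p ≤ p ^ 2 := by nlinarith [hp.one_lt]
  have hdvd : t ∣ p ^ 2 - p := (Nat.modEq_iff_dvd' hle).mp hmod.symm
  have hfac : p ^ 2 - p = p * (p - 1) := by
    rw [Nat.mul_sub, mul_one, pow_two]
  rw [hfac] at hdvd
  rcases (Nat.Prime.dvd_mul ht).mp hdvd with h | h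
  · exact htp' ((Nat.prime_dvd_prime_iff_eq ht hp).mp h)
  · exact htp h

end Cfsg.Agent.Helper53
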