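import Mathlib
import Cfsg.Agent.Helper44.SPCDefs

/-!
# CALL S2676 (helper44), PIECE FIBRE (helper53, doubling).
-/

set_option autoImplicit false

namespace Cfsg.Agent.Helper53.SPCFIBRE

open Matrix Cfsg.Agent.Helper21.JCent Cfsg.Agent.Helper44.UC Cfsg.Agent.Helper44.SPC

/-- FIBRE: counting by fibres of a functional relation. -/
theorem spc_fibre {X : Type*} [Finite X] {I : Type*} [DecidableEq I] (S : Finset I)
    (T : X → I → Prop) (hex : ∀ x, ∃ i ∈ S, T x i) (huniq : ∀ x i j, T x i → T x j → i = j) :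
    Nat.card X = ∑ i ∈ S, Nat.card {x // T x i} := by
  classical
  have := Fintype.ofFinite X
  choose f hfS hfT using hex
  have hiff : ∀ x i, T x i ↔ f x = i :=
    fun x i => ⟨fun h => huniq x _ _ (hfT x) h, fun h => h ▸ hfT x⟩
  rw [Nat.card_eq_fintype_card, ← Finset.card_univ,
    Finset.card_eq_sum_card_fiberwise (f := f) (t := S) (fun x _ => hfS x)]
  apply Finset.sum_congr rfl
  intro i _
  rw [Nat.card_eq_fintype_card, Fintype.card_subtype]
  congr 1
  ext x
  simp [hiff]

end Cfsg.Agent.Helper53.SPCFIBRE
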