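import Mathlib
import Cfsg.Agent.Helper44.SPCDefs

/-!
# CALL S2676 (helper44), PIECE UNIP (helper53, doubling).
-/

set_option autoImplicit false

namespace Cfsg.Agent.Helper53.SPCUNIP

open Matrix Cfsg.Agent.Helper21.JCent Cfsg.Agent.Helper44.UC Cfsg.Agent.Helper44.SPC

/-- UNIP: a matrix of `p`-power order `p` in characteristic `p` is unipotent. -/
theorem spc_unip {F : Type*} [Field F] {p : ℕ} [Fact p.Prime] [CharP F p] {ι : Type*} [Fintype ι]
    [DecidableEq ι] (A : Matrix ι ι F) (h : A ^ p = 1) : IsNilpotent (A - 1) := by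
  refine ⟨p, ?_⟩
  rcases isEmpty_or_nonempty ι with he | hne
  · exact Subsingleton.elim _ _
  · have : CharP (Matrix ι ι F) p := Matrix.charP p
    rw [sub_pow_char_of_commute p (Commute.one_right A), h, one_pow, sub_self]

end Cfsg.Agent.Helper53.SPCUNIP
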