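import Mathlib
import Cfsg.Agent.Helper5.UnitCard

/-!
# CALL S2282 part 2, PIECE QF (helper53): in `F₁₆` a non-zero additive subgroup closed under
multiplication by an element outside `F₄` is everything.
-/

set_option autoImplicit false

namespace Cfsg.Agent.Helper53

open Matrix
open Cfsg.Agent.Helper5 (frobQ frobQ_apply frobQ_frobQ)

variable {K : Type*} [Field K] [Fintype K] {q : ℕ}

/-- PIECE QF -/
theorem su5_q4_field (hK : Fintype.card K = 4 ^ 2) (ζ : K) (hζ : frobQ hK ζ ≠ ζ) :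
    ∀ S : AddSubgroup K, (∀ x ∈ S, ζ * x ∈ S) → (∃ x ∈ S, x ≠ 0) → S = ⊤ := by
  intro S hS hex
  obtain ⟨x₀, hx₀S, hx₀⟩ := hex
  classical
  rw [frobQ_apply] at hζ
  have hζ0 : ζ ≠ 0 := by
    rintro rfl
    exact hζ (by simp)
  have h15 : ζ ^ 15 = 1 := by
    have h := FiniteField.pow_card_sub_one_eq_one ζ hζ0
    rw [hK] at h
    norm_num at h
    exact h
  have hg5 : (ζ ^ 3) ^ 5 = 1 := by rw [← pow_mul]; exact h15
  have hg1 : ζ ^ 3 ≠ 1 := by
    intro h
    apply hζ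
    calc ζ ^ 4 = ζ ^ 3 * ζ := pow_succ ζ 3
      _ = ζ := by rw [h, one_mul]
  have hg0 : ζ ^ 3 ≠ 0 := pow_ne_zero 3 hζ0
  have hSg : ∀ x ∈ S, ζ ^ 3 * x ∈ S := by
    intro x hx
    have h1 := hS _ (hS _ (hS x hx))
    have e : ζ ^ 3 * x = ζ * (ζ * (ζ * x)) := by ring
    rw [e]; exact h1
  -- the map `x ↦ ζ³ x` on the non-zero elements of `S`
  let f : Function.End {x : K // x ∈ S ∧ x ≠ 0} :=
    fun x => ⟨ζ ^ 3 * x.1, hSg x.1 x.2.1, mul_ne_zero hg0 x.2.2⟩
  have hpow : ∀ k : ℕ, ∀ x : {x : K // x ∈ S ∧ x ≠ 0}, ((f ^ k) x).1 = (ζ ^ 3) ^ k * x.1 := by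
    intro k
    induction k with
    | zero =>
      intro x
      show x.1 = (ζ ^ 3) ^ 0 * x.1
      rw [pow_zero, one_mul]
    | succ k ih =>
      intro x
      rw [pow_succ]
      show ((f ^ k) (f x)).1 = (ζ ^ 3) ^ (k + 1) * x.1
      rw [ih]
      show (ζ ^ 3) ^ k * (ζ ^ 3 * x.1) = (ζ ^ 3) ^ (k + 1) * x.1
      ring
  have hf5 : f ^ 5 ^ 1 = 1 := by
    funext x
    apply Subtype.ext
    rw [pow_one, hpow 5 x, hg5, one_mul]
    rfl
  have hfix : ∀ x : {x : K // x ∈ S ∧ x ≠ 0}, f x ≠ x := by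
    intro x h
    have h1 : ζ ^ 3 * x.1 = x.1 := congrArg Subtype.val h
    have h2 : (ζ ^ 3 - 1) * x.1 = 0 := by rw [sub_mul, h1, one_mul, sub_self]
    rcases mul_eq_zero.mp h2 with h3 | h3
    · exact hg1 (sub_eq_zero.mp h3)
    · exact x.2.2 h3
  have h5 : 5 ∣ Fintype.card {x : K // x ∈ S ∧ x ≠ 0} := by
    have hp5 : Fact (Nat.Prime 5) := ⟨by norm_num⟩
    have hmod := Equiv.Perm.card_fixedPoints_modEq (p := 5) (n := 1) hf5
    have hempty : IsEmpty ↥(Function.fixedPoints f) := ⟨fun x => hfix x.1 x.2⟩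
    have h0 : Fintype.card ↥(Function.fixedPoints f) = 0 := Fintype.card_eq_zero
    rw [h0] at hmod
    exact (Nat.modEq_zero_iff_dvd).mp hmod
  -- cardinalities
  have hset : (S : Set K) = insert 0 {x : K | x ∈ S ∧ x ≠ 0} := by
    ext x
    constructor
    · intro hx
      by_cases h0 : x = 0
      · exact Or.inl h0
      · exact Or.inr ⟨hx, h0⟩
    · rintro (h | h)
      · rw [h]; exact S.zero_mem
      · exact h.1
  have hcardS : Nat.card S = Fintype.card {x : K // x ∈ S ∧ x ≠ 0} + 1 := by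
    have h1 : Nat.card S = (S : Set K).ncard := Nat.card_coe_set_eq (S : Set K)
    rw [h1, hset, Set.ncard_insert_of_notMem (by simp), ← Nat.card_coe_set_eq]
    have h2 : Nat.card ↥{x : K | x ∈ S ∧ x ≠ 0} = Nat.card {x : K // x ∈ S ∧ x ≠ 0} := rfl
    rw [h2, Nat.card_eq_fintype_card]
  have hdvd : Nat.card S ∣ 16 := by
    have h := AddSubgroup.card_addSubgroup_dvd_card S
    have hK' : Nat.card K = 16 := by rw [Nat.card_eq_fintype_card, hK]; norm_num
    rw [hK'] at h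
    exact h
  have hpos : 1 ≤ Fintype.card {x : K // x ∈ S ∧ x ≠ 0} :=
    Fintype.card_pos_iff.mpr ⟨⟨x₀, hx₀S, hx₀⟩⟩
  have h16 : Nat.card S = 16 := by
    rw [hcardS] at hdvd ⊢
    obtain ⟨k, hk⟩ := h5
    rw [hk] at hdvd hpos ⊢
    have hle : 5 * k + 1 ≤ 16 := Nat.le_of_dvd (by norm_num) hdvd
    have hk3 : k ≤ 3 := by omega
    have hk1 : 1 ≤ k := by omega
    interval_cases k
    · exact absurd hdvd (by decide)
    · exact absurd hdvd (by decide)
    · rfl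
  apply AddSubgroup.eq_top_of_card_eq
  rw [h16, Nat.card_eq_fintype_card, hK]
  norm_num

end Cfsg.Agent.Helper53
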