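import Mathlib

/-!
# CALL S2282 part 2, PIECE QW (helper53): words in `SL₂(F₄)` (pure `2 × 2` matrices, char 2).
-/

set_option autoImplicit false

namespace Cfsg.Agent.Helper53

open Matrix

variable {K : Type*} [Field K] [Fintype K] {q : ℕ}

omit [Fintype K] in
theorem su5_mat2_ext {a b c d a' b' c' d' : K} (h1 : a = a') (h2 : b = b') (h3 : c = c')
    (h4 : d = d') : !![a, b; c, d] = !![a', b'; c', d'] := by
  subst h1 h2 h3 h4; rfl

/-- PIECE QW -/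
theorem su5_q4_words [CharP K 2] (ω : K) (hω : ω ^ 2 + ω + 1 = 0)
    (A Y C T d : Matrix.SpecialLinearGroup (Fin 2) K)
    (hA : A.1 = !![1, ω ^ 2; 0, 1]) (hY : Y.1 = !![1, 0; -ω, 1])
    (hC : C.1 = !![1 - ω, ω; -ω, 1 + ω]) (hT : T.1 = !![1, 1; 0, 1])
    (hd : d.1 = !![ω, 0; 0, ω ^ 2])
    (Γ : Subgroup (Matrix.SpecialLinearGroup (Fin 2) K)) (hAΓ : A ∈ Γ) (hYΓ : Y ∈ Γ) (hCΓ : C ∈ Γ) :
    T ∈ Γ ∧ d ∈ Γ := by
  have h2 : (2 : K) = 0 := by exact_mod_cast CharP.cast_eq_zero K 2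
  have e1 : d * (A * C) * Y = (A * C) * (A * C) := by
    apply Subtype.ext
    show d.1 * (A.1 * C.1) * Y.1 = (A.1 * C.1) * (A.1 * C.1)
    rw [hA, hY, hC, hd]
    simp only [Matrix.mul_fin_two]
    apply su5_mat2_ext
    · linear_combination (-3 + 4 * ω - 2 * ω ^ 2 - ω ^ 4) * hω + (1 + ω) * h2
    · linear_combination (-2 * ω + ω ^ 2 + ω ^ 4) * hω
    · linear_combination (2 - 2 * ω ^ 2) * hω + (-1) * h2
    · linear_combination (-1 + ω + ω ^ 2) * hω + (-ω) * h2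
  have e2 : T * d = A * d * A := by
    apply Subtype.ext
    show T.1 * d.1 = A.1 * d.1 * A.1
    rw [hA, hT, hd]
    simp only [Matrix.mul_fin_two]
    apply su5_mat2_ext
    · ring
    · linear_combination (2 - ω ^ 2) * hω + (-1 - ω) * h2
    · ring
    · ring
  have hAC : A * C ∈ Γ := Γ.mul_mem hAΓ hCΓ
  have hd' : d = (A * C) * (A * C) * Y⁻¹ * (A * C)⁻¹ := by
    rw [← e1]; group
  have hdΓ : d ∈ Γ := by
    rw [hd']
    exact Γ.mul_mem (Γ.mul_mem (Γ.mul_mem hAC hAC) (Γ.inv_mem hYΓ)) (Γ.inv_mem hAC)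
  have hT' : T = A * d * A * d⁻¹ := by
    rw [← e2]; group
  refine ⟨?_, hdΓ⟩
  rw [hT']
  exact Γ.mul_mem (Γ.mul_mem (Γ.mul_mem hAΓ hdΓ) hAΓ) (Γ.inv_mem hdΓ)

end Cfsg.Agent.Helper53
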