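import Mathlib
import Cfsg.Agent.Helper13.TLDefs

/-!
# CALL S5954 (helper13), PIECE UROOT (helper53, doubling).
-/

set_option autoImplicit false

namespace Cfsg.Agent.Helper53.TI5954

open Module Polynomial
open Cfsg.Agent.Helper13.TIu Cfsg.Agent.Helper13.TIsp

section field

variable {F : Type*} [Field F] [Fintype F]

/-- UROOT: a primitive `r`-th root of unity when `r ∣ q + 1` (`r ∣ |Fˣ| = q ^ 2 - 1`, Cauchy). -/
theorem u_root_exists (q : ℕ) (hq : Fintype.card F = q ^ 2) (r : ℕ) [Fact r.Prime]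
    (hr : r ∣ q + 1) : ∃ ω : F, ω ^ r = 1 ∧ ω ≠ 1 := by
  have hcard : Nat.card Fˣ = (q - 1) * (q + 1) := by
    rw [Nat.card_units, Nat.card_eq_fintype_card, hq]
    have h1 := Nat.sq_sub_sq q 1
    rw [one_pow] at h1
    rw [h1, mul_comm]
  have hdvd : r ∣ Nat.card Fˣ := by
    rw [hcard]
    exact Dvd.dvd.mul_left hr _
  obtain ⟨u, hu⟩ := exists_prime_orderOf_dvd_card' r hdvd
  refine ⟨(u : F), ?_, ?_⟩
  · rw [← Units.val_pow_eq_pow_val, ← hu, pow_orderOf_eq_one, Units.val_one]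
  · intro h
    have h1 : u = 1 := Units.ext (by rw [h, Units.val_one])
    rw [h1, orderOf_one] at hu
    exact (Fact.out : r.Prime).one_lt.ne' hu.symm

end field

end Cfsg.Agent.Helper53.TI5954
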