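-- helper53 library: weights of a normal abelian subgroup, twists, pointwise fixers and rank-two
-- facts used in the configuration lemma for Ward's theorem (S3796); add-only once landed.
import Mathlib
import Cfsg.Agent.Helper31.CoprimeGen
import Cfsg.Agent.Helper63.GrossClifford

set_option autoImplicit false

namespace Cfsg.Agent.Helper53.Ward

open Module

universe u v w

section GroupLemmas

variable {Γ : Type w} [Group Γ]

theorem mem_inf_cent {T : Subgroup Γ} {e x : Γ} :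
    x ∈ T ⊓ Subgroup.centralizer {e} ↔ x ∈ T ∧ e * x = x * e := by
  rw [Subgroup.mem_inf, Subgroup.mem_centralizer_iff]
  constructor
  · rintro ⟨h1, h2⟩
    exact ⟨h1, h2 e rfl⟩
  · rintro ⟨h1, h2⟩
    refine ⟨h1, ?_⟩
    intro h hh
    rw [Set.mem_singleton_iff] at hh
    rw [hh]
    exact h2

theorem mem_normalizer_inf {H L : Subgroup Γ} {g : Γ}
    (hH : g ∈ Subgroup.normalizer (H : Set Γ)) (hL : g ∈ Subgroup.normalizer (L : Set Γ)) :
    g ∈ Subgroup.normalizer ((H ⊓ L : Subgroup Γ) : Set Γ) := by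
  rw [Subgroup.mem_normalizer_iff] at hH hL ⊢
  intro h
  rw [Subgroup.mem_inf, Subgroup.mem_inf, hH h, hL h]

theorem mem_normalizer_cent {e g : Γ} (h : g * e = e * g) :
    g ∈ Subgroup.normalizer ((Subgroup.centralizer {e} : Subgroup Γ) : Set Γ) := by
  apply Subgroup.le_normalizer
  rw [Subgroup.mem_centralizer_iff]
  intro k hk
  rw [Set.mem_singleton_iff] at hk
  rw [hk]
  exact h.symm

theorem mem_normalizer_of_normal (R : Subgroup Γ) [hR : R.Normal] (g : Γ) :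
    g ∈ Subgroup.normalizer (R : Set Γ) := by
  rw [Subgroup.mem_normalizer_iff]
  intro h
  constructor
  · intro hh
    exact hR.conj_mem h hh g
  · intro hh
    have h1 := hR.conj_mem _ hh g⁻¹
    have e : g⁻¹ * (g * h * g⁻¹) * g⁻¹⁻¹ = h := by group
    rwa [e] at h1

end GroupLemmas

section Rank2

variable {Γ : Type w} [Group Γ] [Finite Γ] {p : ℕ}

theorem card_zpowers_of_ne_one (hp : p.Prime) {c : Γ} (hcp : c ^ p = 1) (hc1 : c ≠ 1) :
    Nat.card (Subgroup.zpowers c) = p := by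
  haveI : Fact p.Prime := ⟨hp⟩
  rw [Nat.card_zpowers]
  exact orderOf_eq_prime hcp hc1

theorem exists_not_mem_zpowers (hp : p.Prime) (A : Subgroup Γ) (hAp : ∀ a ∈ A, a ^ p = 1)
    (hAcard : Nat.card A = p ^ 2) (c : Γ) (hc : c ∈ A) : ∃ c' ∈ A, c' ∉ Subgroup.zpowers c := by
  by_contra hcon
  push Not at hcon
  have hle : A ≤ Subgroup.zpowers c := hcon
  have h1 : Nat.card A ≤ Nat.card (Subgroup.zpowers c) := Subgroup.card_le_of_le hle
  have h2 : Nat.card (Subgroup.zpowers c) ≤ p := by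
    rw [Nat.card_zpowers]
    exact Nat.le_of_dvd hp.pos (orderOf_dvd_of_pow_eq_one (hAp c hc))
  rw [hAcard] at h1
  have h3 := hp.two_le
  nlinarith

theorem mem_zpowers_symm (hp : p.Prime) {e e' : Γ} (hep : e ^ p = 1) (he'p : e' ^ p = 1)
    (he'1 : e' ≠ 1) (h : e' ∈ Subgroup.zpowers e) : e ∈ Subgroup.zpowers e' := by
  have he1 : e ≠ 1 := by
    rintro rfl
    rw [Subgroup.zpowers_one_eq_bot, Subgroup.mem_bot] at h
    exact he'1 h
  have hle : Subgroup.zpowers e' ≤ Subgroup.zpowers e := Subgroup.zpowers_le.2 h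
  have hcard : Nat.card (Subgroup.zpowers e) ≤ Nat.card (Subgroup.zpowers e') := by
    rw [card_zpowers_of_ne_one hp hep he1, card_zpowers_of_ne_one hp he'p he'1]
  have heq := Subgroup.eq_of_le_of_card_ge hle hcard
  rw [heq]
  exact Subgroup.mem_zpowers e

theorem zpowers_sup_eq (hp : p.Prime) (A : Subgroup Γ) (hAp : ∀ a ∈ A, a ^ p = 1)
    (hAcard : Nat.card A = p ^ 2) {c c' : Γ} (hc : c ∈ A) (hc1 : c ≠ 1) (hc' : c' ∈ A)
    (hc'n : c' ∉ Subgroup.zpowers c) : Subgroup.zpowers c ⊔ Subgroup.zpowers c' = A := by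
  obtain ⟨B, hB⟩ : ∃ B : Subgroup Γ, B = Subgroup.zpowers c ⊔ Subgroup.zpowers c' := ⟨_, rfl⟩
  rw [← hB]
  have hBA : B ≤ A := by
    rw [hB]
    exact sup_le (Subgroup.zpowers_le.2 hc) (Subgroup.zpowers_le.2 hc')
  have hcB : Subgroup.zpowers c ≤ B := by
    rw [hB]
    exact le_sup_left
  have hc'B : c' ∈ B := by
    rw [hB]
    exact (le_sup_right : Subgroup.zpowers c' ≤ _) (Subgroup.mem_zpowers c')
  have hdvd : Nat.card B ∣ p ^ 2 := hAcard ▸ Subgroup.card_dvd_of_le hBA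
  obtain ⟨k, hk, hkB⟩ := (Nat.dvd_prime_pow hp).1 hdvd
  have hpc : Nat.card (Subgroup.zpowers c) = p := card_zpowers_of_ne_one hp (hAp c hc) hc1
  have hlt : p < Nat.card B := by
    by_contra hcon
    push Not at hcon
    have heq := Subgroup.eq_of_le_of_card_ge hcB (by rw [hpc]; exact hcon)
    apply hc'n
    rw [heq]
    exact hc'B
  have hk2 : k = 2 := by
    rw [hkB] at hlt
    have h1 : 1 < k := by
      by_contra h
      push Not at h
      have h2 : p ^ k ≤ p ^ 1 := Nat.pow_le_pow_right hp.pos h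
      rw [pow_one] at h2
      omega
    omega
  apply Subgroup.eq_of_le_of_card_ge hBA
  rw [hAcard, hkB, hk2]

theorem le_of_mem_two (hp : p.Prime) (A : Subgroup Γ) (hAp : ∀ a ∈ A, a ^ p = 1)
    (hAcard : Nat.card A = p ^ 2) {c c' : Γ} (hc : c ∈ A) (hc1 : c ≠ 1) (hc' : c' ∈ A)
    (hc'n : c' ∉ Subgroup.zpowers c) (B : Subgroup Γ) (h1 : c ∈ B) (h2 : c' ∈ B) : A ≤ B := by
  rw [← zpowers_sup_eq hp A hAp hAcard hc hc1 hc' hc'n]
  exact sup_le (Subgroup.zpowers_le.2 h1) (Subgroup.zpowers_le.2 h2)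

/-- Coprime generation for a group `A` of order `p ^ 2` and exponent `p`, relative to `a ∈ A`. -/
theorem gen (hp : p.Prime) (A : Subgroup Γ) (hAc : ∀ a ∈ A, ∀ b ∈ A, a * b = b * a)
    (hAp : ∀ a ∈ A, a ^ p = 1) (hAcard : Nat.card A = p ^ 2) (T : Subgroup Γ)
    (hAT : A ≤ Subgroup.normalizer (T : Set Γ)) (hT : ¬ p ∣ Nat.card T) (a : Γ) (ha : a ∈ A)
    (D : Subgroup Γ) (h1 : T ⊓ Subgroup.centralizer {a} ≤ D)
    (h2 : ∀ e ∈ A, e ∉ Subgroup.zpowers a → T ⊓ Subgroup.centralizer {e} ≤ D) : T ≤ D := by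
  haveI : Fact p.Prime := ⟨hp⟩
  have hA : IsPGroup p A := fun g => ⟨1, Subtype.ext (by
    rw [pow_one, Subgroup.coe_pow]; exact hAp g g.2)⟩
  obtain ⟨c, hc, hcn⟩ := exists_not_mem_zpowers hp A hAp hAcard a ha
  have h := Cfsg.Agent.Helper31.le_iSup_centralizer_of_rank_two A T hA hAT hT c a hc ha
    (hAc c hc a ha) (hAp c hc) (hAp a ha)
  refine h.trans (sup_le (iSup_le fun i => h2 _ (mul_mem hc (pow_mem ha i)) ?_) h1)
  intro hmem
  apply hcn
  have e : c = c * a ^ i * (a ^ i)⁻¹ := by group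
  rw [e]
  exact mul_mem hmem (inv_mem (pow_mem (Subgroup.mem_zpowers a) i))

theorem gen' (hp : p.Prime) (A : Subgroup Γ) (hAc : ∀ a ∈ A, ∀ b ∈ A, a * b = b * a)
    (hAp : ∀ a ∈ A, a ^ p = 1) (hAcard : Nat.card A = p ^ 2) (T : Subgroup Γ)
    (hAT : A ≤ Subgroup.normalizer (T : Set Γ)) (hT : ¬ p ∣ Nat.card T) (D : Subgroup Γ)
    (h : ∀ e ∈ A, e ≠ 1 → T ⊓ Subgroup.centralizer {e} ≤ D) : T ≤ D := by
  obtain ⟨a, ha, han⟩ := exists_not_mem_zpowers hp A hAp hAcard 1 A.one_mem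
  have ha1 : a ≠ 1 := by
    rintro rfl
    exact han (Subgroup.one_mem _)
  refine gen hp A hAc hAp hAcard T hAT hT a ha D (h a ha ha1) ?_
  intro e he hen
  apply h e he
  rintro rfl
  exact hen (Subgroup.one_mem _)

end Rank2

section Weights

variable {K : Type u} [Field K] {W : Type v} [AddCommGroup W] [Module K W]
  {Γ : Type w} [Group Γ] (ρ : Γ →* Module.End K W) (Z : Subgroup Γ) [Z.Normal]

theorem rho_mul_apply (g h : Γ) (w : W) : ρ (g * h) w = ρ g (ρ h w) := by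
  rw [map_mul, Module.End.mul_apply]

theorem rho_inv_apply (g : Γ) (w : W) : ρ g⁻¹ (ρ g w) = w := by
  rw [← rho_mul_apply, inv_mul_cancel, map_one, Module.End.one_apply]

theorem rho_apply_inv (g : Γ) (w : W) : ρ g (ρ g⁻¹ w) = w := by
  rw [← rho_mul_apply, mul_inv_cancel, map_one, Module.End.one_apply]

theorem rho_congr {g g' : Γ} (h : g = g') (w : W) : ρ g w = ρ g' w := by rw [h]

theorem rho_eq_self {g : Γ} (h : g = 1) (w : W) : ρ g w = w := by
  rw [h, map_one, Module.End.one_apply]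

/-- The weight space of `χ`. -/
def U (χ : ↥Z → K) : Submodule K W :=
  Cfsg.Agent.Helper63.Gross.simEig (fun z : ↥Z => ρ (z : Γ)) χ

theorem mem_U (χ : ↥Z → K) (w : W) : w ∈ U ρ Z χ ↔ ∀ z : ↥Z, ρ (z : Γ) w = χ z • w := Iff.rfl

/-- The twist of a weight by a group element. -/
def tw (g : Γ) (χ : ↥Z → K) : ↥Z → K := fun z => χ (MulAut.conjNormal g⁻¹ z)

theorem tw_apply (g : Γ) (χ : ↥Z → K) (z : ↥Z) :
    tw Z g χ z = χ (MulAut.conjNormal g⁻¹ z) := rfl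

theorem tw_one (χ : ↥Z → K) : tw Z (1 : Γ) χ = χ := by
  funext z
  rw [tw_apply, inv_one, map_one, MulAut.one_apply]

theorem tw_mul (g h : Γ) (χ : ↥Z → K) : tw Z (g * h) χ = tw Z g (tw Z h χ) := by
  funext z
  rw [tw_apply, tw_apply, tw_apply, mul_inv_rev, map_mul, MulAut.mul_apply]

theorem tw_inv_tw (g : Γ) (χ : ↥Z → K) : tw Z g⁻¹ (tw Z g χ) = χ := by
  rw [← tw_mul, inv_mul_cancel, tw_one]

theorem tw_tw_inv (g : Γ) (χ : ↥Z → K) : tw Z g (tw Z g⁻¹ χ) = χ := by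
  rw [← tw_mul, mul_inv_cancel, tw_one]

theorem tw_injective (g : Γ) : Function.Injective (tw (K := K) Z g) := by
  intro χ χ' h
  have h1 := congrArg (tw Z g⁻¹) h
  rwa [tw_inv_tw, tw_inv_tw] at h1

theorem tw_pow_of_fix (g : Γ) (χ : ↥Z → K) (h : tw Z g χ = χ) (m : ℕ) :
    tw Z (g ^ m) χ = χ := by
  induction m with
  | zero => rw [pow_zero, tw_one]
  | succ m ih => rw [pow_succ, tw_mul, h, ih]

theorem tw_eq_self_of_commute (g : Γ) (hg : ∀ z : ↥Z, g * (z : Γ) = z * g) (χ : ↥Z → K) :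
    tw Z g χ = χ := by
  funext z
  rw [tw_apply]
  congr 1
  apply Subtype.ext
  rw [MulAut.conjNormal_apply, inv_inv, mul_assoc, ← hg z, inv_mul_cancel_left]

/-- The stabiliser of a weight. -/
def stab (χ : ↥Z → K) : Subgroup Γ where
  carrier := {g | tw Z g χ = χ}
  one_mem' := tw_one Z χ
  mul_mem' := by
    intro a b ha hb
    show tw Z (a * b) χ = χ
    rw [tw_mul, show tw Z b χ = χ from hb]
    exact ha
  inv_mem' := by
    intro a ha
    show tw Z a⁻¹ χ = χ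
    have h : tw Z a χ = χ := ha
    calc tw Z a⁻¹ χ = tw Z a⁻¹ (tw Z a χ) := by rw [h]
      _ = χ := tw_inv_tw Z a χ

theorem mem_stab (χ : ↥Z → K) (g : Γ) : g ∈ stab Z χ ↔ tw Z g χ = χ := Iff.rfl

theorem map_mem_U (g : Γ) (χ : ↥Z → K) (w : W) (hw : w ∈ U ρ Z χ) :
    ρ g w ∈ U ρ Z (tw Z g χ) := by
  rw [mem_U] at hw ⊢
  intro z
  have h1 := hw (MulAut.conjNormal g⁻¹ z)
  rw [MulAut.conjNormal_apply, inv_inv] at h1
  rw [tw_apply, ← LinearMap.map_smul, ← h1, ← rho_mul_apply, ← rho_mul_apply]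
  exact rho_congr ρ (by group) w

theorem chi_mul (χ : ↥Z → K) (w : W) (hw : w ∈ U ρ Z χ) (hw0 : w ≠ 0) (z z' : ↥Z) :
    χ (z * z') = χ z * χ z' := by
  rw [mem_U] at hw
  have h1 := hw (z * z')
  rw [Subgroup.coe_mul, rho_mul_apply, hw z', LinearMap.map_smul, hw z, smul_smul] at h1
  have h2 := smul_left_injective K hw0 h1
  rw [← h2, mul_comm]

theorem chi_one (χ : ↥Z → K) (w : W) (hw : w ∈ U ρ Z χ) (hw0 : w ≠ 0) : χ 1 = 1 := by
  rw [mem_U] at hw
  have h1 := hw 1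
  rw [Subgroup.coe_one, map_one, Module.End.one_apply] at h1
  have h2 : (1 : K) • w = χ 1 • w := by rw [one_smul]; exact h1
  exact (smul_left_injective K hw0 h2).symm

theorem chi_inv (χ : ↥Z → K) (w : W) (hw : w ∈ U ρ Z χ) (hw0 : w ≠ 0) (z : ↥Z) :
    χ z⁻¹ = (χ z)⁻¹ := by
  have h := chi_mul ρ Z χ w hw hw0 z⁻¹ z
  rw [inv_mul_cancel, chi_one ρ Z χ w hw hw0] at h
  exact eq_inv_of_mul_eq_one_left h.symm

/-- The nontrivial weights. -/
def Mset : Set (↥Z → K) := {χ | U ρ Z χ ≠ ⊥ ∧ ∃ z : ↥Z, χ z ≠ 1}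

theorem tw_mem_Mset (g : Γ) (χ : ↥Z → K) (hχ : χ ∈ Mset ρ Z) : tw Z g χ ∈ Mset ρ Z := by
  obtain ⟨hU, z, hz⟩ := hχ
  obtain ⟨w, hw, hw0⟩ := (Submodule.ne_bot_iff _).1 hU
  refine ⟨?_, MulAut.conjNormal g z, ?_⟩
  · rw [Submodule.ne_bot_iff]
    refine ⟨ρ g w, map_mem_U ρ Z g χ w hw, ?_⟩
    intro h0
    apply hw0
    have h1 := rho_inv_apply ρ g w
    rw [h0, map_zero] at h1
    exact h1.symm
  · rw [tw_apply, map_inv, MulAut.inv_apply_self]
    exact hz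

theorem exists_moved (χ : ↥Z → K) (hχ : χ ∈ Mset ρ Z) :
    ∃ z : ↥Z, ∃ w ∈ U ρ Z χ, ρ (z : Γ) w ≠ w := by
  obtain ⟨hU, z, hz⟩ := hχ
  obtain ⟨w, hw, hw0⟩ := (Submodule.ne_bot_iff _).1 hU
  refine ⟨z, w, hw, ?_⟩
  intro h
  apply hz
  rw [(mem_U ρ Z χ w).1 hw z] at h
  have h2 : χ z • w = (1 : K) • w := by rw [one_smul]; exact h
  exact smul_left_injective K hw0 h2

/-- The sum of the weight spaces of a set of weights. -/
def WS (N : Set (↥Z → K)) : Submodule K W := ⨆ χ ∈ N, U ρ Z χ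

theorem U_le_WS (N : Set (↥Z → K)) {χ : ↥Z → K} (hχ : χ ∈ N) : U ρ Z χ ≤ WS ρ Z N :=
  le_biSup (fun χ => U ρ Z χ) hχ

theorem map_mem_WS (N : Set (↥Z → K)) (g : Γ) (hN : ∀ χ ∈ N, tw Z g χ ∈ N) (w : W)
    (hw : w ∈ WS ρ Z N) : ρ g w ∈ WS ρ Z N := by
  have h : WS ρ Z N ≤ (WS ρ Z N).comap (ρ g) := by
    apply iSup₂_le
    intro χ hχ v hv
    rw [Submodule.mem_comap]
    exact U_le_WS ρ Z N (hN χ hχ) (map_mem_U ρ Z g χ v hv)
  exact h hw

/-- The pointwise fixer of a submodule. -/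
def fixer (W' : Submodule K W) : Subgroup Γ where
  carrier := {g | ∀ w ∈ W', ρ g w = w}
  one_mem' := by
    intro w _
    rw [map_one, Module.End.one_apply]
  mul_mem' := by
    intro a b ha hb w hw
    rw [rho_mul_apply, hb w hw, ha w hw]
  inv_mem' := by
    intro a ha w hw
    have h := rho_inv_apply ρ a w
    rw [ha w hw] at h
    exact h

theorem mem_fixer (W' : Submodule K W) (g : Γ) : g ∈ fixer ρ W' ↔ ∀ w ∈ W', ρ g w = w :=
  Iff.rfl

theorem mem_fixer_WS (N : Set (↥Z → K)) (x : Γ) (hx : ∀ χ ∈ N, ∀ w ∈ U ρ Z χ, ρ x w = w) :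
    x ∈ fixer ρ (WS ρ Z N) := by
  have h : WS ρ Z N ≤ LinearMap.eqLocus (ρ x) LinearMap.id := by
    apply iSup₂_le
    intro χ hχ v hv
    rw [LinearMap.mem_eqLocus]
    exact hx χ hχ v hv
  intro w hw
  exact h hw

theorem mem_normalizer_fixer (W' : Submodule K W) (g : Γ) (hg : ∀ w ∈ W', ρ g w ∈ W')
    (hg' : ∀ w ∈ W', ρ g⁻¹ w ∈ W') : g ∈ Subgroup.normalizer (fixer ρ W' : Set Γ) := by
  rw [Subgroup.mem_normalizer_iff]
  intro h
  constructor
  · intro hh w hw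
    rw [rho_mul_apply, rho_mul_apply, hh _ (hg' w hw), rho_apply_inv]
  · intro hh w hw
    have h1 := hh (ρ g w) (hg w hw)
    rw [rho_mul_apply, rho_mul_apply, rho_inv_apply] at h1
    have h2 := congrArg (ρ g⁻¹) h1
    rwa [rho_inv_apply, rho_inv_apply] at h2

section Decomp

variable [IsAlgClosed K] [FiniteDimensional K W]

theorem U_eq_iInf (hss : ∀ z : ↥Z, (ρ (z : Γ)).IsSemisimple) (χ : ↥Z → K) :
    U ρ Z χ = ⨅ z : ↥Z, (ρ (z : Γ)).maxGenEigenspace (χ z) := by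
  ext v
  simp only [Submodule.mem_iInf, mem_U]
  constructor
  · intro h z
    rw [(hss z).isFinitelySemisimple.maxGenEigenspace_eq_eigenspace]
    exact Module.End.mem_eigenspace_iff.mpr (h z)
  · intro h z
    have h1 := h z
    rw [(hss z).isFinitelySemisimple.maxGenEigenspace_eq_eigenspace] at h1
    exact Module.End.mem_eigenspace_iff.mp h1

theorem iSup_U_eq_top (hcomm : ∀ z z' : ↥Z, (z : Γ) * z' = z' * z)
    (hss : ∀ z : ↥Z, (ρ (z : Γ)).IsSemisimple) : ⨆ χ : ↥Z → K, U ρ Z χ = ⊤ := by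
  simp_rw [U_eq_iInf ρ Z hss]
  apply Module.End.iSup_iInf_maxGenEigenspace_eq_top_of_iSup_maxGenEigenspace_eq_top_of_commute
  · intro i j _
    show ρ (i : Γ) * ρ (j : Γ) = ρ (j : Γ) * ρ (i : Γ)
    rw [← map_mul, ← map_mul, hcomm i j]
  · intro i
    exact Module.End.iSup_maxGenEigenspace_eq_top (ρ (i : Γ))

theorem indep_U (hcomm : ∀ z z' : ↥Z, (z : Γ) * z' = z' * z)
    (hss : ∀ z : ↥Z, (ρ (z : Γ)).IsSemisimple) : iSupIndep (fun χ : ↥Z → K => U ρ Z χ) := by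
  have h : (fun χ : ↥Z → K => U ρ Z χ) =
      fun χ => ⨅ z : ↥Z, (ρ (z : Γ)).maxGenEigenspace (χ z) := funext (U_eq_iInf ρ Z hss)
  rw [h]
  apply Module.End.independent_iInf_maxGenEigenspace_of_forall_mapsTo
  intro i j μ
  have hc : ρ (j : Γ) * ρ (i : Γ) = ρ (i : Γ) * ρ (j : Γ) := by
    rw [← map_mul, ← map_mul, hcomm j i]
  exact Module.End.mapsTo_maxGenEigenspace_of_comm hc μ

end Decomp

end Weights

end Cfsg.Agent.Helper53.Ward
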