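-- helper53 library: the configuration lemma for Ward's theorem (S3796): an `r`-group `R`
-- and a `p'`-, `r'`-group `S`, both normalised by an elementary abelian group `A` of order
-- `p ^ 2`, acting faithfully on a module in coprime characteristic; add-only once landed.
import Cfsg.Agent.Helper53.WardWeights

set_option autoImplicit false

namespace Cfsg.Agent.Helper53.Ward

open Module

universe u v w

/-- The centre of `R` as a subgroup of the ambient group. -/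
def Zc {Γ : Type w} [Group Γ] (R : Subgroup Γ) : Subgroup Γ :=
  R ⊓ Subgroup.centralizer (R : Set Γ)

instance Zc_normal {Γ : Type w} [Group Γ] (R : Subgroup Γ) [R.Normal] : (Zc R).Normal := by
  unfold Zc
  infer_instance

theorem Zc_le {Γ : Type w} [Group Γ] (R : Subgroup Γ) : Zc R ≤ R := inf_le_left

theorem Zc_comm {Γ : Type w} [Group Γ] (R : Subgroup Γ) {z x : Γ} (hz : z ∈ Zc R)
    (hx : x ∈ R) : z * x = x * z := by
  have h := (Subgroup.mem_centralizer_iff.1 (Subgroup.mem_inf.1 hz).2) x hx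
  exact h.symm

section Config

variable {K : Type u} [Field K] [IsAlgClosed K] {W : Type v} [AddCommGroup W] [Module K W]
  [FiniteDimensional K W] {Γ : Type w} [Group Γ] [Finite Γ]

/-- The hypotheses of the configuration lemma, together with the negation of its conclusion. -/
structure Hyp (ρ : Γ →* Module.End K W) (R S A : Subgroup Γ) (p r : ℕ) : Prop where
  inj : Function.Injective ρ
  hp : p.Prime
  hr : r.Prime
  hpr : p ≠ r
  hR : IsPGroup r R
  hSr : (Nat.card S).Coprime r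
  hSp : ¬ p ∣ Nat.card S
  hAS : A ≤ Subgroup.normalizer (S : Set Γ)
  hAc : ∀ a ∈ A, ∀ b ∈ A, a * b = b * a
  hAp : ∀ a ∈ A, a ^ p = 1
  hAcard : Nat.card A = p ^ 2
  hpK : (p : K) ≠ 0
  hrK : (r : K) ≠ 0
  h1 : ∀ t ∈ S, (∀ c ∈ A, c * t = t * c) → t = 1
  h2 : ∀ c ∈ A, c ≠ 1 → ∀ x ∈ R, c * x = x * c → ∀ w : W, ρ c w = w → ρ x w = w
  h4 : ∀ D : Subgroup Γ, D ≤ R → D ≠ R → S ≤ Subgroup.normalizer (D : Set Γ) →
    A ≤ Subgroup.normalizer (D : Set Γ) → ∀ d ∈ D, ∀ t ∈ S, d * t = t * d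
  h5 : ∀ T : Subgroup Γ, T ≤ S → T ≠ S → A ≤ Subgroup.normalizer (T : Set Γ) →
    ∀ t ∈ T, ∀ x ∈ R, t * x = x * t
  h6 : ∀ c ∈ A, c ≠ 1 → ∀ x ∈ R, ∀ t ∈ S, c * x = x * c → c * t = t * c → x * t = t * x
  hne : ¬ ∀ x ∈ R, ∀ t ∈ S, x * t = t * x

namespace Hyp

variable {ρ : Γ →* Module.End K W} {R S A : Subgroup Γ} {p r : ℕ} [R.Normal]

theorem not_dvd_card_R (H : Hyp ρ R S A p r) : ¬ p ∣ Nat.card R := by
  haveI : Fact r.Prime := ⟨H.hr⟩
  obtain ⟨k, hk⟩ := (IsPGroup.iff_card (p := r)).1 H.hR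
  rw [hk]
  intro h
  exact H.hpr ((Nat.prime_dvd_prime_iff_eq H.hp H.hr).1 (H.hp.dvd_of_dvd_pow h))

theorem genR (H : Hyp ρ R S A p r) (a : Γ) (ha : a ∈ A) (D : Subgroup Γ)
    (h1 : R ⊓ Subgroup.centralizer {a} ≤ D)
    (h2 : ∀ e ∈ A, e ∉ Subgroup.zpowers a → R ⊓ Subgroup.centralizer {e} ≤ D) : R ≤ D :=
  gen H.hp A H.hAc H.hAp H.hAcard R (fun g _ => mem_normalizer_of_normal R g)
    H.not_dvd_card_R a ha D h1 h2

theorem genR' (H : Hyp ρ R S A p r) (D : Subgroup Γ)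
    (h : ∀ e ∈ A, e ≠ 1 → R ⊓ Subgroup.centralizer {e} ≤ D) : R ≤ D :=
  gen' H.hp A H.hAc H.hAp H.hAcard R (fun g _ => mem_normalizer_of_normal R g)
    H.not_dvd_card_R D h

theorem genS' (H : Hyp ρ R S A p r) (D : Subgroup Γ)
    (h : ∀ e ∈ A, e ≠ 1 → S ⊓ Subgroup.centralizer {e} ≤ D) : S ≤ D :=
  gen' H.hp A H.hAc H.hAp H.hAcard S H.hAS H.hSp D h

/-- (A) some nonidentity element of `A` centralises `S`. -/
theorem exists_a (H : Hyp ρ R S A p r) : ∃ a ∈ A, a ≠ 1 ∧ ∀ t ∈ S, a * t = t * a := by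
  by_contra hcon
  push Not at hcon
  apply H.hne
  have hS : S ≤ Subgroup.centralizer (R : Set Γ) := by
    apply H.genS'
    intro e he he1 t ht
    have hTS : S ⊓ Subgroup.centralizer {e} ≤ S := inf_le_left
    have hTne : S ⊓ Subgroup.centralizer {e} ≠ S := by
      intro heq
      obtain ⟨t', ht', hne'⟩ := hcon e he he1
      apply hne'
      have h3 : t' ∈ S ⊓ Subgroup.centralizer {e} := by rw [heq]; exact ht'
      exact (mem_inf_cent.1 h3).2
    have hAT : A ≤ Subgroup.normalizer ((S ⊓ Subgroup.centralizer {e} : Subgroup Γ) : Set Γ) := by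
      intro g hg
      exact mem_normalizer_inf (H.hAS hg) (mem_normalizer_cent (H.hAc g hg e he))
    have h5 := H.h5 _ hTS hTne hAT t ht
    rw [Subgroup.mem_centralizer_iff]
    intro x hx
    exact (h5 x hx).symm
  intro x hx t ht
  exact (Subgroup.mem_centralizer_iff.1 (hS ht)) x hx

/-- elements of `A` outside `⟨a⟩` have no fixed points on `S`. -/
theorem fpf (H : Hyp ρ R S A p r) {a : Γ} (ha : a ∈ A) (ha1 : a ≠ 1)
    (haS : ∀ t ∈ S, a * t = t * a) {c : Γ} (hc : c ∈ A) (hcn : c ∉ Subgroup.zpowers a) :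
    ∀ t ∈ S, c * t = t * c → t = 1 := by
  intro t ht hct
  apply H.h1 t ht
  have hle : A ≤ Subgroup.centralizer {t} := by
    apply le_of_mem_two H.hp A H.hAp H.hAcard ha ha1 hc hcn
    · rw [Subgroup.mem_centralizer_iff]
      intro h hh
      rw [Set.mem_singleton_iff] at hh
      rw [hh]
      exact (haS t ht).symm
    · rw [Subgroup.mem_centralizer_iff]
      intro h hh
      rw [Set.mem_singleton_iff] at hh
      rw [hh]
      exact hct.symm
  intro e he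
  exact ((Subgroup.mem_centralizer_iff.1 (hle he)) t rfl).symm

/-- (B) `C_R(a)` is centralised by `S`. -/
theorem CRa (H : Hyp ρ R S A p r) {a : Γ} (ha : a ∈ A) (ha1 : a ≠ 1)
    (haS : ∀ t ∈ S, a * t = t * a) : ∀ x ∈ R, a * x = x * a → ∀ t ∈ S, x * t = t * x := by
  intro x hx hax
  have hne : R ⊓ Subgroup.centralizer {a} ≠ R := by
    intro heq
    apply H.hne
    intro x' hx' t ht
    have h3 : x' ∈ R ⊓ Subgroup.centralizer {a} := by rw [heq]; exact hx'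
    exact H.h6 a ha ha1 x' hx' t ht (mem_inf_cent.1 h3).2 (haS t ht)
  have hSD : S ≤ Subgroup.normalizer ((R ⊓ Subgroup.centralizer {a} : Subgroup Γ) : Set Γ) := by
    intro g hg
    exact mem_normalizer_inf (mem_normalizer_of_normal R g) (mem_normalizer_cent (haS g hg).symm)
  have hAD : A ≤ Subgroup.normalizer ((R ⊓ Subgroup.centralizer {a} : Subgroup Γ) : Set Γ) := by
    intro g hg
    exact mem_normalizer_inf (mem_normalizer_of_normal R g) (mem_normalizer_cent (H.hAc g hg a ha))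
  exact H.h4 _ inf_le_left hne hSD hAD x (mem_inf_cent.2 ⟨hx, hax⟩)

theorem Zcomm (_H : Hyp ρ R S A p r) : ∀ z z' : ↥(Zc R), (z : Γ) * z' = z' * z :=
  fun z z' => Zc_comm R z.2 (Zc_le R z'.2)

theorem Zss (H : Hyp ρ R S A p r) : ∀ z : ↥(Zc R), (ρ (z : Γ)).IsSemisimple := by
  intro z
  obtain ⟨k, hk⟩ := H.hR ⟨z, Zc_le R z.2⟩
  have hk' : (z : Γ) ^ r ^ k = 1 := by
    have h3 := congrArg Subtype.val hk
    simpa using h3
  apply Cfsg.Agent.Helper63.Shult.isSemisimple_of_pow_eq_one (ρ (z : Γ)) (r ^ k)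
  · rw [← map_pow, hk', map_one]
  · rw [Nat.cast_pow]
    exact pow_ne_zero k H.hrK

theorem R_mem_U (_H : Hyp ρ R S A p r) {x : Γ} (hx : x ∈ R) (χ : ↥(Zc R) → K) {w : W}
    (hw : w ∈ U ρ (Zc R) χ) : ρ x w ∈ U ρ (Zc R) χ := by
  have h := map_mem_U ρ (Zc R) x χ w hw
  rwa [tw_eq_self_of_commute (Zc R) x (fun z => (Zc_comm R z.2 hx).symm) χ] at h

/-- (orbit sum) if `c ∈ A` moves the weight `χ`, then `C_R(c)` acts trivially on its weight
space. -/
theorem orbit_sum (H : Hyp ρ R S A p r) {c : Γ} (hc : c ∈ A) (χ : ↥(Zc R) → K)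
    (hmove : tw (Zc R) c χ ≠ χ) {x : Γ} (hx : x ∈ R) (hcx : c * x = x * c) {w : W}
    (hw : w ∈ U ρ (Zc R) χ) : ρ x w = w := by
  classical
  have hp := H.hp
  have hc1 : c ≠ 1 := by
    rintro rfl
    exact hmove (tw_one _ _)
  have hcp : c ^ p = 1 := H.hAp c hc
  have key : ∀ i j : ℕ, i < j → j < p → tw (Zc R) (c ^ i) χ ≠ tw (Zc R) (c ^ j) χ := by
    intro i j hij hjp heq
    have h0 : c ^ j = c ^ i * c ^ (j - i) := by
      rw [← pow_add]
      congr 1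
      omega
    rw [h0, tw_mul] at heq
    have h1 : tw (Zc R) (c ^ (j - i)) χ = χ := (tw_injective (Zc R) (c ^ i) heq).symm
    obtain ⟨m, hm⟩ := Cfsg.Agent.Helper63.Shult.exists_pow_pow_eq_self c hp hcp
      (k := j - i) (by omega) (by omega)
    apply hmove
    have h2 := tw_pow_of_fix (Zc R) (c ^ (j - i)) χ h1 m
    rwa [hm] at h2
  let cf : Fin p → (↥(Zc R) → K) := fun k => tw (Zc R) (c ^ (k : ℕ)) χ
  have hcinj : Function.Injective cf := by
    intro i j hij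
    rcases lt_trichotomy (i : ℕ) (j : ℕ) with h | h | h
    · exact (key i j h j.2 hij).elim
    · exact Fin.ext h
    · exact (key j i h i.2 hij.symm).elim
  have hind := (indep_U ρ (Zc R) H.Zcomm H.Zss).comp hcinj
  have hfix : ρ c (∑ i ∈ Finset.range p, (ρ c ^ i) w) = ∑ i ∈ Finset.range p, (ρ c ^ i) w := by
    apply Cfsg.Agent.Helper63.Gross.sum_pow_fixed'
    rw [← map_pow, hcp, map_one, Module.End.one_apply]
  have hxv := H.h2 c hc hc1 x hx hcx _ hfix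
  rw [map_sum] at hxv
  have hsum : ∑ k : Fin p, ρ x ((ρ c ^ (k : ℕ)) w) = ∑ k : Fin p, (ρ c ^ (k : ℕ)) w := by
    rw [Fin.sum_univ_eq_sum_range (fun i => ρ x ((ρ c ^ i) w)) p,
      Fin.sum_univ_eq_sum_range (fun i => (ρ c ^ i) w) p]
    exact hxv
  have hmem : ∀ k ∈ (Finset.univ : Finset (Fin p)),
      ρ x ((ρ c ^ (k : ℕ)) w) ∈ U ρ (Zc R) (cf k) ∧ (ρ c ^ (k : ℕ)) w ∈ U ρ (Zc R) (cf k) := by
    intro k _
    have h1 : (ρ c ^ (k : ℕ)) w ∈ U ρ (Zc R) (cf k) := by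
      rw [← map_pow]
      exact map_mem_U ρ (Zc R) (c ^ (k : ℕ)) χ w hw
    exact ⟨H.R_mem_U hx _ h1, h1⟩
  have h := (iSupIndep_iff_finsetSum_eq_imp_eq _).1 hind Finset.univ
    (fun k => ρ x ((ρ c ^ (k : ℕ)) w)) (fun k => (ρ c ^ (k : ℕ)) w) hmem hsum ⟨0, hp.pos⟩
    (Finset.mem_univ _)
  simpa using h

/-- (β) a weight fixed by all of `A` is trivial. -/
theorem beta (H : Hyp ρ R S A p r) (χ : ↥(Zc R) → K) (hU : U ρ (Zc R) χ ≠ ⊥)
    (hfix : ∀ e ∈ A, tw (Zc R) e χ = χ) : ∀ z : ↥(Zc R), χ z = 1 := by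
  classical
  have hp := H.hp
  haveI : Fact p.Prime := ⟨hp⟩
  obtain ⟨w₀, hw₀, hw₀0⟩ := (Submodule.ne_bot_iff _).1 hU
  have hAU : ∀ e ∈ A, ∀ w ∈ U ρ (Zc R) χ, ρ e w ∈ U ρ (Zc R) χ := by
    intro e he w hw
    have h := map_mem_U ρ (Zc R) e χ w hw
    rwa [hfix e he] at h
  have step1 : ∃ e ∈ A, e ≠ 1 ∧ ∃ w ∈ U ρ (Zc R) χ, w ≠ 0 ∧ ρ e w = w := by
    by_contra hcon
    push Not at hcon
    have hN : ∀ e ∈ A, e ≠ 1 → ∑ j ∈ Finset.range p, ρ (e ^ j) w₀ = 0 := by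
      intro e he he1
      by_contra hne0
      refine hcon e he he1 _ ?_ hne0 ?_
      · exact Submodule.sum_mem _ (fun j _ => hAU _ (pow_mem he j) w₀ hw₀)
      · have h1 : ∀ j, ρ (e ^ j) w₀ = (ρ e ^ j) w₀ := fun j => by rw [map_pow]
        simp_rw [h1]
        apply Cfsg.Agent.Helper63.Gross.sum_pow_fixed'
        rw [← map_pow, H.hAp e he, map_one, Module.End.one_apply]
    obtain ⟨y, hy, hyn⟩ := exists_not_mem_zpowers hp A H.hAp H.hAcard 1 A.one_mem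
    have hy1 : y ≠ 1 := by
      rintro rfl
      exact hyn (Subgroup.one_mem _)
    obtain ⟨x, hx, hxn⟩ := exists_not_mem_zpowers hp A H.hAp H.hAcard y hy
    have hid := Cfsg.Agent.Helper31.prod_rank_two hp x y (H.hAc x hx y hy) (H.hAp y hy)
      (fun g => Multiplicative.ofAdd (ρ g w₀))
    have hid' := congrArg Multiplicative.toAdd hid
    simp only [toAdd_mul, toAdd_prod, toAdd_pow, toAdd_ofAdd] at hid'
    have hL1 : ∀ i ∈ Finset.range p, ∑ j ∈ Finset.range p, ρ ((x * y ^ i) ^ j) w₀ = 0 := by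
      intro i _
      apply hN _ (mul_mem hx (pow_mem hy i))
      intro h1
      apply hxn
      have h2 : x = (y ^ i)⁻¹ := eq_inv_of_mul_eq_one_left h1
      rw [h2]
      exact inv_mem (pow_mem (Subgroup.mem_zpowers y) i)
    have hR1 : ∀ j ∈ Finset.range p, ∑ l ∈ Finset.range p, ρ (x ^ j * y ^ l) w₀ = 0 := by
      intro j _
      have h1 : ∀ l, ρ (x ^ j * y ^ l) w₀ = ρ (x ^ j) (ρ (y ^ l) w₀) :=
        fun l => rho_mul_apply ρ _ _ _
      simp_rw [h1]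
      rw [← map_sum, hN y hy hy1, map_zero]
    rw [Finset.sum_eq_zero hL1, hN y hy hy1, Finset.sum_eq_zero hR1, map_one,
      Module.End.one_apply, add_zero, add_zero] at hid'
    have h3 : (p : K) • w₀ = 0 := by
      rw [Nat.cast_smul_eq_nsmul]
      exact hid'.symm
    rcases smul_eq_zero.1 h3 with h | h
    · exact H.hpK h
    · exact hw₀0 h
  obtain ⟨e, he, he1, w, hw, hw0, hew⟩ := step1
  have hcent : ∀ z : ↥(Zc R), e * (z : Γ) = z * e → χ z = 1 := by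
    intro z hz
    have h1 := H.h2 e he he1 z (Zc_le R z.2) hz w hew
    rw [(mem_U ρ (Zc R) χ w).1 hw z] at h1
    have h2 : χ z • w = (1 : K) • w := by rw [one_smul]; exact h1
    exact smul_left_injective K hw0 h2
  let N : Subgroup ↥(Zc R) :=
    { carrier := {z | χ z = 1}
      one_mem' := chi_one ρ (Zc R) χ w hw hw0
      mul_mem' := by
        intro a b ha hb
        show χ (a * b) = 1
        rw [chi_mul ρ (Zc R) χ w hw hw0, show χ a = 1 from ha, show χ b = 1 from hb, one_mul]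
      inv_mem' := by
        intro a ha
        show χ a⁻¹ = 1
        rw [chi_inv ρ (Zc R) χ w hw hw0, show χ a = 1 from ha, inv_one] }
  have hNcard : ¬ p ∣ Nat.card N := by
    haveI : Fact r.Prime := ⟨H.hr⟩
    have hZ : IsPGroup r ↥(Zc R) := H.hR.to_le (Zc_le R)
    obtain ⟨k, hk⟩ := (IsPGroup.iff_card (p := r)).1 (hZ.to_subgroup N)
    rw [hk]
    intro h
    exact H.hpr ((Nat.prime_dvd_prime_iff_eq hp H.hr).1 (hp.dvd_of_dvd_pow h))
  intro z
  have hzE : (MulAut.conjNormal e : MulAut ↥(Zc R)) ^ p ^ 1 = 1 := by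
    rw [pow_one, ← map_pow, H.hAp e he, map_one]
  have hNinv : ∀ t ∈ N, (MulAut.conjNormal e : MulAut ↥(Zc R)) • t ∈ N := by
    intro t ht
    show χ (MulAut.conjNormal e t) = 1
    have h1 := congrFun (hfix e⁻¹ (inv_mem he)) t
    rw [tw_apply, inv_inv] at h1
    rw [h1]
    exact ht
  have hzt : z⁻¹ * (MulAut.conjNormal e : MulAut ↥(Zc R)) • z ∈ N := by
    show χ (z⁻¹ * MulAut.conjNormal e z) = 1
    have h1 := congrFun (hfix e⁻¹ (inv_mem he)) z
    rw [tw_apply, inv_inv] at h1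
    rw [chi_mul ρ (Zc R) χ w hw hw0, h1, ← chi_mul ρ (Zc R) χ w hw hw0, inv_mul_cancel,
      chi_one ρ (Zc R) χ w hw hw0]
  obtain ⟨c, hcN, hcfix⟩ := Cfsg.Agent.Helper31.exists_fixed_in_coset_act (p := p)
    (MulAut.conjNormal e : MulAut ↥(Zc R)) 1 hzE N hNcard hNinv z hzt
  have hc1 : χ c = 1 := by
    apply hcent
    have h1 : ((MulAut.conjNormal e c : ↥(Zc R)) : Γ) = c := congrArg Subtype.val hcfix
    rw [MulAut.conjNormal_apply] at h1
    calc e * (c : Γ) = e * c * e⁻¹ * e := by group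
      _ = c * e := by rw [h1]
  have h2 : χ (z⁻¹ * c) = 1 := hcN
  rw [chi_mul ρ (Zc R) χ w hw hw0, hc1, mul_one, chi_inv ρ (Zc R) χ w hw hw0] at h2
  exact inv_eq_one.1 h2

theorem not_fix_all (H : Hyp ρ R S A p r) {χ : ↥(Zc R) → K} (hχ : χ ∈ Mset ρ (Zc R)) :
    ¬ ∀ e ∈ A, tw (Zc R) e χ = χ := by
  intro hfix
  obtain ⟨hU, z, hz⟩ := hχ
  exact hz (H.beta χ hU hfix z)

theorem move_of_not_mem (H : Hyp ρ R S A p r) {χ : ↥(Zc R) → K} (hχ : χ ∈ Mset ρ (Zc R))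
    {c : Γ} (hc : c ∈ A) (hc1 : c ≠ 1) (hcfix : tw (Zc R) c χ = χ) {e : Γ} (he : e ∈ A)
    (hen : e ∉ Subgroup.zpowers c) : tw (Zc R) e χ ≠ χ := by
  intro hefix
  apply H.not_fix_all hχ
  have hle : A ≤ stab (Zc R) χ :=
    le_of_mem_two H.hp A H.hAp H.hAcard hc hc1 he hen _ hcfix hefix
  intro g hg
  exact hle hg

theorem exists_moved_R (_H : Hyp ρ R S A p r) {χ : ↥(Zc R) → K} (hχ : χ ∈ Mset ρ (Zc R)) :
    ∃ x ∈ R, ∃ w ∈ U ρ (Zc R) χ, ρ x w ≠ w := by
  obtain ⟨z, w, hw, h⟩ := exists_moved ρ (Zc R) χ hχ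
  exact ⟨z, Zc_le R z.2, w, hw, h⟩

/-- (C) no nontrivial weight is fixed by `a`. -/
theorem no_a_fix (H : Hyp ρ R S A p r) {a : Γ} (ha : a ∈ A) (ha1 : a ≠ 1)
    (haS : ∀ t ∈ S, a * t = t * a) {χ : ↥(Zc R) → K} (hχ : χ ∈ Mset ρ (Zc R)) :
    tw (Zc R) a χ ≠ χ := by
  intro hfix
  obtain ⟨N, hN⟩ : ∃ N : Set (↥(Zc R) → K),
      N = {χ' | χ' ∈ Mset ρ (Zc R) ∧ tw (Zc R) a χ' = χ'} := ⟨_, rfl⟩
  have hinv : ∀ g : Γ, g * a = a * g → ∀ χ' ∈ N, tw (Zc R) g χ' ∈ N := by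
    intro g hga χ' hχ'
    rw [hN] at hχ' ⊢
    refine ⟨tw_mem_Mset ρ (Zc R) g χ' hχ'.1, ?_⟩
    rw [← tw_mul, ← hga, tw_mul, hχ'.2]
  have hnorm : ∀ g : Γ, g * a = a * g →
      g ∈ Subgroup.normalizer ((R ⊓ fixer ρ (WS ρ (Zc R) N) : Subgroup Γ) : Set Γ) := by
    intro g hga
    apply mem_normalizer_inf (mem_normalizer_of_normal R g)
    apply mem_normalizer_fixer
    · exact fun w hw => map_mem_WS ρ (Zc R) N g (hinv g hga) w hw
    · exact fun w hw => map_mem_WS ρ (Zc R) N g⁻¹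
        (hinv g⁻¹ (Commute.inv_left (show Commute g a from hga)).eq) w hw
  have hχN : χ ∈ N := by
    rw [hN]
    exact ⟨hχ, hfix⟩
  have hEne : R ⊓ fixer ρ (WS ρ (Zc R) N) ≠ R := by
    intro heq
    obtain ⟨x, hx, w, hw, hxw⟩ := H.exists_moved_R hχ
    have hxE : x ∈ R ⊓ fixer ρ (WS ρ (Zc R) N) := by rw [heq]; exact hx
    exact hxw ((Subgroup.mem_inf.1 hxE).2 w (U_le_WS ρ (Zc R) N hχN hw))
  have hE := H.h4 _ inf_le_left hEne (fun g hg => hnorm g (haS g hg).symm)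
    (fun g hg => hnorm g (H.hAc g hg a ha))
  apply H.hne
  have hRS : R ≤ Subgroup.centralizer (S : Set Γ) := by
    apply H.genR a ha
    · intro x hx
      rw [mem_inf_cent] at hx
      rw [Subgroup.mem_centralizer_iff]
      intro t ht
      exact (H.CRa ha ha1 haS x hx.1 hx.2 t ht).symm
    · intro e he hen x hx
      rw [mem_inf_cent] at hx
      rw [Subgroup.mem_centralizer_iff]
      intro t ht
      refine (hE x ⟨hx.1, ?_⟩ t ht).symm
      apply mem_fixer_WS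
      intro χ' hχ' w hw
      rw [hN] at hχ'
      exact H.orbit_sum he χ' (H.move_of_not_mem hχ'.1 ha ha1 hχ'.2 he hen) hx.1 hx.2 hw
  intro x hx t ht
  exact ((Subgroup.mem_centralizer_iff.1 (hRS hx)) t ht).symm

/-- (D) every nontrivial weight is fixed by a nonidentity element of `A`. -/
theorem exists_fix (H : Hyp ρ R S A p r) {χ : ↥(Zc R) → K} (hχ : χ ∈ Mset ρ (Zc R)) :
    ∃ c ∈ A, c ≠ 1 ∧ tw (Zc R) c χ = χ := by
  by_contra hcon
  push Not at hcon
  obtain ⟨x, hx, w, hw, hxw⟩ := H.exists_moved_R hχ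
  have hle : R ≤ fixer ρ (U ρ (Zc R) χ) := by
    apply H.genR'
    intro e he he1 y hy
    rw [mem_inf_cent] at hy
    intro w' hw'
    exact H.orbit_sum he χ (hcon e he he1) hy.1 hy.2 hw'
  exact hxw (hle hx w hw)

end Hyp

end Config

end Cfsg.Agent.Helper53.Ward
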