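-- helper53 library: end of the configuration lemma for Ward's theorem (S3796); add-only once
-- landed.
import Cfsg.Agent.Helper53.WardConfig

set_option autoImplicit false

namespace Cfsg.Agent.Helper53.Ward

open Module

universe u v w

section Config

variable {K : Type u} [Field K] [IsAlgClosed K] {W : Type v} [AddCommGroup W] [Module K W]
  [FiniteDimensional K W] {Γ : Type w} [Group Γ] [Finite Γ]

namespace Hyp

variable {ρ : Γ →* Module.End K W} {R S A : Subgroup Γ} {p r : ℕ} [R.Normal]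

/-- (E) the stabiliser in `A` of a nontrivial weight is not changed by twisting with `S`. -/
theorem stab_S (H : Hyp ρ R S A p r) {χ : ↥(Zc R) → K} (hχ : χ ∈ Mset ρ (Zc R)) {t : Γ}
    (ht : t ∈ S) {c : Γ} (hc : c ∈ A) (hcfix : tw (Zc R) c χ = χ) :
    tw (Zc R) c (tw (Zc R) t χ) = tw (Zc R) t χ := by
  classical
  by_cases hc1 : c = 1
  · rw [hc1, tw_one]
  have hp := H.hp
  haveI : Fact p.Prime := ⟨hp⟩
  obtain ⟨c', hc', hc'1, hc'fix⟩ := H.exists_fix (tw_mem_Mset ρ (Zc R) t χ hχ)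
  by_cases hmem : c' ∈ Subgroup.zpowers c
  · have h1 : c ∈ Subgroup.zpowers c' :=
      mem_zpowers_symm hp (H.hAp c hc) (H.hAp c' hc') hc'1 hmem
    have h2 : Subgroup.zpowers c' ≤ stab (Zc R) (tw (Zc R) t χ) := Subgroup.zpowers_le.2 hc'fix
    exact h2 h1
  exfalso
  obtain ⟨Ω, hΩ⟩ : ∃ Ω : Set (↥(Zc R) → K),
      Ω = Set.range (fun s : ↥S => tw (Zc R) (s : Γ) χ) := ⟨_, rfl⟩
  have good : ∀ e ∈ Subgroup.normalizer (S : Set Γ), ∀ u ∈ S,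
      tw (Zc R) e (tw (Zc R) u χ) = tw (Zc R) u χ → ∀ ω ∈ Ω, tw (Zc R) e ω ∈ Ω := by
    intro e he u hu hfix ω hω
    rw [hΩ] at hω ⊢
    obtain ⟨s, rfl⟩ := hω
    have hmemS : e * ((s : Γ) * u⁻¹) * e⁻¹ * u ∈ S :=
      mul_mem ((Subgroup.mem_normalizer_iff.1 he _).1 (mul_mem s.2 (inv_mem hu))) hu
    refine ⟨⟨_, hmemS⟩, ?_⟩
    show tw (Zc R) (e * ((s : Γ) * u⁻¹) * e⁻¹ * u) χ = tw (Zc R) e (tw (Zc R) (s : Γ) χ)
    have e1 : tw (Zc R) (e * ((s : Γ) * u⁻¹) * e⁻¹ * u) χ =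
        tw (Zc R) (e * ((s : Γ) * u⁻¹) * e⁻¹) (tw (Zc R) e (tw (Zc R) u χ)) := by
      rw [hfix, ← tw_mul]
    have e2 : tw (Zc R) (e * ((s : Γ) * u⁻¹) * e⁻¹) (tw (Zc R) e (tw (Zc R) u χ)) =
        tw (Zc R) e (tw (Zc R) (s : Γ) χ) := by
      simp only [← tw_mul]
      congr 1
      group
    exact e1.trans e2
  have memB : ∀ e ∈ Subgroup.normalizer (S : Set Γ), ∀ u ∈ S,
      tw (Zc R) e (tw (Zc R) u χ) = tw (Zc R) u χ → ∀ ω, ω ∈ Ω ↔ tw (Zc R) e ω ∈ Ω := by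
    intro e he u hu hfix ω
    constructor
    · exact good e he u hu hfix ω
    · intro h
      have hfix' : tw (Zc R) e⁻¹ (tw (Zc R) u χ) = tw (Zc R) u χ := by
        conv_lhs => rw [← hfix]
        exact tw_inv_tw _ _ _
      have h3 := good e⁻¹ (inv_mem he) u hu hfix' _ h
      rwa [tw_inv_tw] at h3
  let B : Subgroup Γ :=
    { carrier := {e | ∀ ω, ω ∈ Ω ↔ tw (Zc R) e ω ∈ Ω}
      one_mem' := by
        intro ω
        rw [tw_one]
      mul_mem' := by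
        intro e e' he he' ω
        have he2 : ∀ ω, ω ∈ Ω ↔ tw (Zc R) e ω ∈ Ω := he
        have he'2 : ∀ ω, ω ∈ Ω ↔ tw (Zc R) e' ω ∈ Ω := he'
        exact (he'2 ω).trans ((he2 _).trans (by rw [tw_mul]))
      inv_mem' := by
        intro e he ω
        have he2 : ∀ ω, ω ∈ Ω ↔ tw (Zc R) e ω ∈ Ω := he
        have h3 := he2 (tw (Zc R) e⁻¹ ω)
        rw [tw_tw_inv] at h3
        exact h3.symm }
  have hcB : c ∈ B := memB c (H.hAS hc) 1 S.one_mem (by rw [tw_one]; exact hcfix)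
  have hc'B : c' ∈ B := memB c' (H.hAS hc') t ht hc'fix
  have hAB : A ≤ B := le_of_mem_two hp A H.hAp H.hAcard hc hc1 hc' hmem B hcB hc'B
  letI actA : MulAction ↥A ↥Ω :=
    { smul := fun e ω => ⟨tw (Zc R) (e : Γ) ω.1, ((hAB e.2) ω.1).1 ω.2⟩
      one_smul := fun ω => Subtype.ext (tw_one (Zc R) ω.1)
      mul_smul := fun e e' ω => Subtype.ext (tw_mul (Zc R) (e : Γ) (e' : Γ) ω.1) }
  letI actS : MulAction ↥S (↥(Zc R) → K) :=
    { smul := fun s χ' => tw (Zc R) (s : Γ) χ'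
      one_smul := fun χ' => tw_one (Zc R) χ'
      mul_smul := fun s s' χ' => tw_mul (Zc R) (s : Γ) (s' : Γ) χ' }
  have hcard : ¬ p ∣ Nat.card ↥Ω := by
    have h0 : Nat.card ↥Ω = Nat.card ↥(MulAction.orbit ↥S χ) := by
      rw [hΩ]
      rfl
    have h1 : Nat.card ↥(MulAction.orbit ↥S χ) = Nat.card (↥S ⧸ MulAction.stabilizer ↥S χ) :=
      Nat.card_congr (MulAction.orbitEquivQuotientStabilizer ↥S χ)
    rw [h0, h1]
    intro h
    exact H.hSp (h.trans (Subgroup.card_quotient_dvd_card _))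
  have hA : IsPGroup p A := fun g => ⟨1, Subtype.ext (by
    rw [pow_one, Subgroup.coe_pow]; exact H.hAp g g.2)⟩
  obtain ⟨ω, hω⟩ := hA.nonempty_fixed_point_of_prime_not_dvd_card ↥Ω hcard
  rw [MulAction.mem_fixedPoints] at hω
  have hrange : ∀ y : ↥(Zc R) → K, y ∈ Ω → ∃ s : ↥S, tw (Zc R) (s : Γ) χ = y := by
    intro y hy
    rw [hΩ] at hy
    exact hy
  obtain ⟨s, hs⟩ := hrange ω.1 ω.2
  have hωM : (ω : ↥(Zc R) → K) ∈ Mset ρ (Zc R) := by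
    rw [← hs]
    exact tw_mem_Mset ρ (Zc R) (s : Γ) χ hχ
  apply H.not_fix_all hωM
  intro e he
  exact congrArg Subtype.val (hω ⟨e, he⟩)

/-- The hypotheses are contradictory. -/
theorem false (H : Hyp ρ R S A p r) : False := by
  classical
  have hp := H.hp
  have hRn : R.Normal := inferInstance
  obtain ⟨a, ha, ha1, haS⟩ := H.exists_a
  have hR1 : ∃ x ∈ R, x ≠ 1 := by
    by_contra h
    push Not at h
    apply H.hne
    intro x hx t ht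
    rw [h x hx, one_mul, mul_one]
  obtain ⟨x₁, hx₁, hx₁1⟩ := hR1
  haveI : Nontrivial ↥R := ⟨⟨⟨x₁, hx₁⟩, 1, fun h => hx₁1 (congrArg Subtype.val h)⟩⟩
  haveI : Fact r.Prime := ⟨H.hr⟩
  haveI := H.hR.center_nontrivial
  obtain ⟨z, hz⟩ := exists_ne (1 : Subgroup.center ↥R)
  have hz₀ : ((z : ↥R) : Γ) ∈ Zc R := by
    refine ⟨(z : ↥R).2, ?_⟩
    show ((z : ↥R) : Γ) ∈ Subgroup.centralizer (R : Set Γ)
    rw [Subgroup.mem_centralizer_iff]
    intro h hh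
    have h3 := (Subgroup.mem_center_iff.1 z.2) ⟨h, hh⟩
    exact congrArg Subtype.val h3
  have hz₀1 : ((z : ↥R) : Γ) ≠ 1 := by
    intro h
    apply hz
    apply Subtype.ext
    apply Subtype.ext
    exact h
  obtain ⟨χ₀, hχ₀, -⟩ : ∃ χ₀ ∈ Mset ρ (Zc R), χ₀ ⟨_, hz₀⟩ ≠ 1 := by
    by_contra hcon
    push Not at hcon
    apply hz₀1
    apply H.inj
    rw [map_one]
    have h1 : LinearMap.eqLocus (ρ ((z : ↥R) : Γ)) LinearMap.id = ⊤ := by
      rw [eq_top_iff, ← iSup_U_eq_top ρ (Zc R) H.Zcomm H.Zss]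
      apply iSup_le
      intro χ w hw
      rw [LinearMap.mem_eqLocus]
      by_cases hU : U ρ (Zc R) χ = ⊥
      · rw [hU, Submodule.mem_bot] at hw
        rw [hw, map_zero, map_zero]
      · by_cases hχz : χ ⟨_, hz₀⟩ = 1
        · have h3 := (mem_U ρ (Zc R) χ w).1 hw ⟨_, hz₀⟩
          rw [hχz, one_smul] at h3
          exact h3
        · exact absurd (hcon χ ⟨hU, ⟨_, hz₀⟩, hχz⟩) hχz
    exact LinearMap.eqLocus_eq_top.mp h1
  obtain ⟨c₀, hc₀, hc₀1, hc₀fix⟩ := H.exists_fix hχ₀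
  have hac₀ : a ∉ Subgroup.zpowers c₀ := by
    intro h
    have h2 : Subgroup.zpowers c₀ ≤ stab (Zc R) χ₀ := Subgroup.zpowers_le.2 hc₀fix
    exact H.no_a_fix ha ha1 haS hχ₀ (h2 h)
  have hc₀a : c₀ ∉ Subgroup.zpowers a := fun h =>
    hac₀ (mem_zpowers_symm hp (H.hAp a ha) (H.hAp c₀ hc₀) hc₀1 h)
  have hfpf := H.fpf ha ha1 haS hc₀ hc₀a
  obtain ⟨N, hN⟩ : ∃ N : Set (↥(Zc R) → K),
      N = {χ | χ ∈ Mset ρ (Zc R) ∧ tw (Zc R) c₀ χ = χ} := ⟨_, rfl⟩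
  have hχ₀N : χ₀ ∈ N := by
    rw [hN]
    exact ⟨hχ₀, hc₀fix⟩
  have hinvA : ∀ g ∈ A, ∀ χ ∈ N, tw (Zc R) g χ ∈ N := by
    intro g hg χ hχ
    rw [hN] at hχ ⊢
    refine ⟨tw_mem_Mset ρ (Zc R) g χ hχ.1, ?_⟩
    rw [← tw_mul, ← H.hAc g hg c₀ hc₀, tw_mul, hχ.2]
  have hinvS : ∀ g ∈ S, ∀ χ ∈ N, tw (Zc R) g χ ∈ N := by
    intro g hg χ hχ
    rw [hN] at hχ ⊢
    exact ⟨tw_mem_Mset ρ (Zc R) g χ hχ.1, H.stab_S hχ.1 hg hc₀ hχ.2⟩
  have hinvR : ∀ g ∈ R, ∀ χ ∈ N, tw (Zc R) g χ ∈ N := by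
    intro g hg χ hχ
    rw [tw_eq_self_of_commute (Zc R) g (fun z => (Zc_comm R z.2 hg).symm) χ]
    exact hχ
  obtain ⟨W₀, hW₀⟩ : ∃ W₀ : Submodule K W, W₀ = WS ρ (Zc R) N := ⟨_, rfl⟩
  have hWA : ∀ g ∈ A, ∀ w ∈ W₀, ρ g w ∈ W₀ := by
    intro g hg w hw
    rw [hW₀] at hw ⊢
    exact map_mem_WS ρ (Zc R) N g (hinvA g hg) w hw
  have hWS : ∀ g ∈ S, ∀ w ∈ W₀, ρ g w ∈ W₀ := by
    intro g hg w hw
    rw [hW₀] at hw ⊢
    exact map_mem_WS ρ (Zc R) N g (hinvS g hg) w hw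
  have hWR : ∀ g ∈ R, ∀ w ∈ W₀, ρ g w ∈ W₀ := by
    intro g hg w hw
    rw [hW₀] at hw ⊢
    exact map_mem_WS ρ (Zc R) N g (hinvR g hg) w hw
  have hD₀ne : R ⊓ fixer ρ W₀ ≠ R := by
    intro heq
    obtain ⟨x, hx, w, hw, hxw⟩ := H.exists_moved_R hχ₀
    have hxE : x ∈ R ⊓ fixer ρ W₀ := by rw [heq]; exact hx
    apply hxw
    apply (Subgroup.mem_inf.1 hxE).2 w
    rw [hW₀]
    exact U_le_WS ρ (Zc R) N hχ₀N hw
  have hD₀S : S ≤ Subgroup.normalizer ((R ⊓ fixer ρ W₀ : Subgroup Γ) : Set Γ) := fun g hg =>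
    mem_normalizer_inf (mem_normalizer_of_normal R g)
      (mem_normalizer_fixer ρ W₀ g (hWS g hg) (hWS g⁻¹ (inv_mem hg)))
  have hD₀A : A ≤ Subgroup.normalizer ((R ⊓ fixer ρ W₀ : Subgroup Γ) : Set Γ) := fun g hg =>
    mem_normalizer_inf (mem_normalizer_of_normal R g)
      (mem_normalizer_fixer ρ W₀ g (hWA g hg) (hWA g⁻¹ (inv_mem hg)))
  have hD₀ := H.h4 _ inf_le_left hD₀ne hD₀S hD₀A
  have hfixW : ∀ e ∈ A, e ∉ Subgroup.zpowers c₀ → ∀ x ∈ R, e * x = x * e →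
      x ∈ fixer ρ W₀ := by
    intro e he hen x hx hex
    rw [hW₀]
    apply mem_fixer_WS
    intro χ hχ w hw
    rw [hN] at hχ
    exact H.orbit_sum he χ (H.move_of_not_mem hχ.1 hc₀ hc₀1 hχ.2 he hen) hx hex hw
  let Q₀ : Subgroup Γ :=
    { carrier := {x | x ∈ R ∧ ∀ w ∈ W₀, ρ (c₀ * x) w = ρ (x * c₀) w}
      one_mem' := ⟨R.one_mem, fun w _ => by rw [mul_one, one_mul]⟩
      mul_mem' := by
        rintro x y ⟨hx, hx'⟩ ⟨hy, hy'⟩
        refine ⟨mul_mem hx hy, fun w hw => ?_⟩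
        calc ρ (c₀ * (x * y)) w = ρ (c₀ * x) (ρ y w) := by
              rw [← rho_mul_apply]
              exact rho_congr ρ (by group) w
          _ = ρ (x * c₀) (ρ y w) := hx' _ (hWR y hy w hw)
          _ = ρ x (ρ (c₀ * y) w) := by
              simp only [← rho_mul_apply]
              try exact rho_congr ρ (by group) w
          _ = ρ x (ρ (y * c₀) w) := by rw [hy' w hw]
          _ = ρ (x * y * c₀) w := by
              rw [← rho_mul_apply]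
              exact rho_congr ρ (by group) w
      inv_mem' := by
        rintro x ⟨hx, hx'⟩
        refine ⟨inv_mem hx, fun w hw => ?_⟩
        have h1 := hx' (ρ x⁻¹ w) (hWR x⁻¹ (inv_mem hx) w hw)
        have h2 := congrArg (ρ x⁻¹) h1
        simp only [← rho_mul_apply] at h2
        have e1 : ρ (x⁻¹ * (c₀ * x * x⁻¹)) w = ρ (x⁻¹ * c₀) w := rho_congr ρ (by group) w
        have e2 : ρ (x⁻¹ * (x * c₀ * x⁻¹)) w = ρ (c₀ * x⁻¹) w := rho_congr ρ (by group) w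
        have e3 : ρ (x⁻¹ * (c₀ * x * x⁻¹)) w = ρ (x⁻¹ * (x * c₀ * x⁻¹)) w := by
          refine Eq.trans (rho_congr ρ (by group) w) (h2.trans (rho_congr ρ (by group) w))
        exact (e2.symm.trans (e3.symm.trans e1)) }
  have hRQ : R ≤ Q₀ := by
    apply H.genR c₀ hc₀
    · intro x hx
      rw [mem_inf_cent] at hx
      exact ⟨hx.1, fun w _ => by rw [hx.2]⟩
    · intro e he hen x hx
      rw [mem_inf_cent] at hx
      have hxf := hfixW e he hen x hx.1 hx.2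
      refine ⟨hx.1, fun w hw => ?_⟩
      rw [rho_mul_apply, rho_mul_apply, hxf w hw, hxf _ (hWA c₀ hc₀ w hw)]
  have hQ : ∀ x ∈ R, ∀ w ∈ W₀, ρ (c₀ * x) w = ρ (x * c₀) w := fun x hx => (hRQ hx).2
  have hQ' : ∀ x ∈ R, ∀ w ∈ W₀, ρ (c₀⁻¹ * x) w = ρ (x * c₀⁻¹) w := by
    intro x hx w hw
    have h1 := hQ x hx (ρ c₀⁻¹ w) (hWA c₀⁻¹ (inv_mem hc₀) w hw)
    have h2 := congrArg (ρ c₀⁻¹) h1
    simp only [← rho_mul_apply] at h2
    refine Eq.trans (rho_congr ρ (by group) w) (h2.symm.trans (rho_congr ρ (by group) w))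
  have hsurj : ∀ t ∈ S, ∃ s ∈ S, t = s⁻¹ * c₀ * s * c₀⁻¹ := by
    have hcS : ∀ s ∈ S, c₀ * s * c₀⁻¹ ∈ S := fun s hs =>
      (Subgroup.mem_normalizer_iff.1 (H.hAS hc₀) s).1 hs
    let φ : ↥S → ↥S := fun s =>
      ⟨(s : Γ)⁻¹ * (c₀ * s * c₀⁻¹), mul_mem (inv_mem s.2) (hcS s s.2)⟩
    have hφ : Function.Injective φ := by
      intro s s' h
      have h1 : (s : Γ)⁻¹ * (c₀ * s * c₀⁻¹) = (s' : Γ)⁻¹ * (c₀ * s' * c₀⁻¹) :=
        congrArg Subtype.val h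
      have h3 : c₀ * (s : Γ) = (s : Γ) * ((s : Γ)⁻¹ * (c₀ * s * c₀⁻¹)) * c₀ := by group
      rw [h1] at h3
      have h2 : c₀ * ((s : Γ) * (s' : Γ)⁻¹) = ((s : Γ) * (s' : Γ)⁻¹) * c₀ := by
        calc c₀ * ((s : Γ) * (s' : Γ)⁻¹) = (c₀ * s) * (s' : Γ)⁻¹ := by group
          _ = ((s : Γ) * ((s' : Γ)⁻¹ * (c₀ * s' * c₀⁻¹)) * c₀) * (s' : Γ)⁻¹ := by rw [h3]
          _ = ((s : Γ) * (s' : Γ)⁻¹) * c₀ := by group
      have h4 := hfpf _ (mul_mem s.2 (inv_mem s'.2)) h2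
      apply Subtype.ext
      exact mul_inv_eq_one.1 h4
    have hφs := Finite.surjective_of_injective hφ
    intro t ht
    obtain ⟨s, hs⟩ := hφs ⟨t, ht⟩
    refine ⟨s, s.2, ?_⟩
    have h5 : (s : Γ)⁻¹ * (c₀ * s * c₀⁻¹) = t := congrArg Subtype.val hs
    rw [← h5]
    group
  have hcomm : ∀ t ∈ S, ∀ x ∈ R, ∀ w ∈ W₀, ρ (t * x) w = ρ (x * t) w := by
    intro t ht x hx w hw
    obtain ⟨s, hs, rfl⟩ := hsurj t ht
    have hy : s * x * s⁻¹ ∈ R := hRn.conj_mem x hx s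
    have hw1 : ρ (s * c₀⁻¹) w ∈ W₀ := by
      rw [rho_mul_apply]
      exact hWS s hs _ (hWA c₀⁻¹ (inv_mem hc₀) w hw)
    calc ρ (s⁻¹ * c₀ * s * c₀⁻¹ * x) w = ρ (s⁻¹ * c₀ * s) (ρ (c₀⁻¹ * x) w) := by
          rw [← rho_mul_apply]
          exact rho_congr ρ (by group) w
      _ = ρ (s⁻¹ * c₀ * s) (ρ (x * c₀⁻¹) w) := by rw [hQ' x hx w hw]
      _ = ρ s⁻¹ (ρ (c₀ * (s * x * s⁻¹)) (ρ (s * c₀⁻¹) w)) := by
          simp only [← rho_mul_apply]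
          try exact rho_congr ρ (by group) w
      _ = ρ s⁻¹ (ρ ((s * x * s⁻¹) * c₀) (ρ (s * c₀⁻¹) w)) := by rw [hQ _ hy _ hw1]
      _ = ρ (x * (s⁻¹ * c₀ * s * c₀⁻¹)) w := by
          simp only [← rho_mul_apply]
          try exact rho_congr ρ (by group) w
  apply H.hne
  intro x hx t ht
  have hdR : x⁻¹ * (t * x * t⁻¹) ∈ R := mul_mem (inv_mem hx) (hRn.conj_mem x hx t)
  have hdF : x⁻¹ * (t * x * t⁻¹) ∈ fixer ρ W₀ := by
    intro w hw
    have hw1 : ρ t⁻¹ w ∈ W₀ := hWS t⁻¹ (inv_mem ht) w hw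
    have h1 := hcomm t ht x hx _ hw1
    calc ρ (x⁻¹ * (t * x * t⁻¹)) w = ρ x⁻¹ (ρ (t * x) (ρ t⁻¹ w)) := by
          simp only [← rho_mul_apply]
          try exact rho_congr ρ (by group) w
      _ = ρ x⁻¹ (ρ (x * t) (ρ t⁻¹ w)) := by rw [h1]
      _ = w := by
          simp only [← rho_mul_apply]
          exact rho_eq_self ρ (by group) w
  obtain ⟨d, hd⟩ : ∃ d : Γ, d = x⁻¹ * (t * x * t⁻¹) := ⟨_, rfl⟩
  rw [← hd] at hdR hdF
  have hdt : d * t = t * d := hD₀ d ⟨hdR, hdF⟩ t ht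
  have htx : t * x = x * d * t := by
    rw [hd]
    group
  have hpow : ∀ n : ℕ, t ^ n * x = x * d ^ n * t ^ n := by
    intro n
    induction n with
    | zero => simp
    | succ n ih =>
      have hdn : d ^ n * t = t * d ^ n := ((show Commute d t from hdt).pow_left n).eq
      calc t ^ (n + 1) * x = t * (t ^ n * x) := by rw [pow_succ', mul_assoc]
        _ = t * (x * d ^ n * t ^ n) := by rw [ih]
        _ = (t * x) * d ^ n * t ^ n := by simp only [mul_assoc]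
        _ = (x * d * t) * d ^ n * t ^ n := by rw [htx]
        _ = x * d * (t * d ^ n) * t ^ n := by simp only [mul_assoc]
        _ = x * d * (d ^ n * t) * t ^ n := by rw [hdn]
        _ = x * d ^ (n + 1) * t ^ (n + 1) := by
            rw [pow_succ', pow_succ']
            simp only [mul_assoc]
  have hcardS : t ^ Nat.card S = 1 := by
    have h3 := pow_card_eq_one' (G := ↥S) (x := ⟨t, ht⟩)
    have h4 := congrArg Subtype.val h3
    rw [Subgroup.coe_pow, Subgroup.coe_one] at h4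
    exact h4
  have h1 := hpow (Nat.card S)
  rw [hcardS, one_mul, mul_one] at h1
  have hdS : d ^ Nat.card S = 1 := by
    have h3 : x * 1 = x * d ^ Nat.card S := by rw [mul_one]; exact h1
    exact (mul_left_cancel h3).symm
  obtain ⟨k, hk⟩ := H.hR ⟨d, hdR⟩
  have hdr : d ^ r ^ k = 1 := by
    have h3 := congrArg Subtype.val hk
    simpa using h3
  have hgcd : (Nat.card S).gcd (r ^ k) = 1 := Nat.Coprime.pow_right k H.hSr
  have hd1 : d = 1 := by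
    have h3 := pow_gcd_eq_one.2 ⟨hdS, hdr⟩
    rwa [hgcd, pow_one] at h3
  rw [hd1, mul_one] at htx
  exact htx.symm

end Hyp

/-- **Configuration lemma** (normal form).  `ρ` a faithful representation of the finite group
`Γ` over an algebraically closed field `K`; `R ⊴ Γ` an `r`-group, `S ≤ Γ` of order prime to `p`
and `r`, `A ≤ Γ` elementary abelian of order `p ^ 2` normalising `S`; `p, r ≠ 0` in `K`.  Under
the hypotheses `h1`–`h6`, `R` and `S` commute elementwise. -/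
theorem config (ρ : Γ →* Module.End K W) (hρ : Function.Injective ρ) {p r : ℕ} (hp : p.Prime)
    (hr : r.Prime) (hpr : p ≠ r) (R S A : Subgroup Γ) [R.Normal] (hR : IsPGroup r R)
    (hSr : (Nat.card S).Coprime r) (hSp : ¬ p ∣ Nat.card S)
    (hAS : A ≤ Subgroup.normalizer (S : Set Γ)) (hAc : ∀ a ∈ A, ∀ b ∈ A, a * b = b * a)
    (hAp : ∀ a ∈ A, a ^ p = 1) (hAcard : Nat.card A = p ^ 2) (hpK : (p : K) ≠ 0)
    (hrK : (r : K) ≠ 0) (h1 : ∀ t ∈ S, (∀ c ∈ A, c * t = t * c) → t = 1)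
    (h2 : ∀ c ∈ A, c ≠ 1 → ∀ x ∈ R, c * x = x * c → ∀ w : W, ρ c w = w → ρ x w = w)
    (h4 : ∀ D : Subgroup Γ, D ≤ R → D ≠ R → S ≤ Subgroup.normalizer (D : Set Γ) →
      A ≤ Subgroup.normalizer (D : Set Γ) → ∀ d ∈ D, ∀ t ∈ S, d * t = t * d)
    (h5 : ∀ T : Subgroup Γ, T ≤ S → T ≠ S → A ≤ Subgroup.normalizer (T : Set Γ) →
      ∀ t ∈ T, ∀ x ∈ R, t * x = x * t)
    (h6 : ∀ c ∈ A, c ≠ 1 → ∀ x ∈ R, ∀ t ∈ S, c * x = x * c → c * t = t * c → x * t = t * x) :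
    ∀ x ∈ R, ∀ t ∈ S, x * t = t * x := by
  by_contra hne
  exact Hyp.false (ρ := ρ) (R := R) (S := S) (A := A) (p := p) (r := r)
    ⟨hρ, hp, hr, hpr, hR, hSr, hSp, hAS, hAc, hAp, hAcard, hpK, hrK, h1, h2, h4, h5, h6, hne⟩

end Config

end Cfsg.Agent.Helper53.Ward
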