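-- helper53 library: reduction tools for Ward's theorem (S3796): the configuration lemma without
-- normality of `R`, coprime decompositions and lifting of prime-power elements; add-only.
import Cfsg.Agent.Helper53.WardConfig2

set_option autoImplicit false

namespace Cfsg.Agent.Helper53.Ward

open Module

universe u v w

section ConfigWrapper

variable {K : Type u} [Field K] [IsAlgClosed K] {W : Type v} [AddCommGroup W] [Module K W]
  [FiniteDimensional K W] {Γ : Type w} [Group Γ] [Finite Γ]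

/-- **Configuration lemma**, without normality of `R` in the ambient group: `S` and `A` only
have to normalise `R`. -/
theorem config' (ρ : Γ →* Module.End K W) (hρ : Function.Injective ρ) {p r : ℕ} (hp : p.Prime)
    (hr : r.Prime) (hpr : p ≠ r) (R S A : Subgroup Γ)
    (hSR : S ≤ Subgroup.normalizer (R : Set Γ)) (hAR : A ≤ Subgroup.normalizer (R : Set Γ))
    (hR : IsPGroup r R) (hSr : (Nat.card S).Coprime r) (hSp : ¬ p ∣ Nat.card S)
    (hAS : A ≤ Subgroup.normalizer (S : Set Γ)) (hAc : ∀ a ∈ A, ∀ b ∈ A, a * b = b * a)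
    (hAp : ∀ a ∈ A, a ^ p = 1) (hAcard : Nat.card A = p ^ 2) (hpK : (p : K) ≠ 0)
    (hrK : (r : K) ≠ 0) (h1 : ∀ t ∈ S, (∀ c ∈ A, c * t = t * c) → t = 1)
    (h2 : ∀ c ∈ A, c ≠ 1 → ∀ x ∈ R, c * x = x * c → ∀ w : W, ρ c w = w → ρ x w = w)
    (h4 : ∀ D : Subgroup Γ, D ≤ R → D ≠ R → S ≤ Subgroup.normalizer (D : Set Γ) →
      A ≤ Subgroup.normalizer (D : Set Γ) → ∀ d ∈ D, ∀ t ∈ S, d * t = t * d)
    (h5 : ∀ T : Subgroup Γ, T ≤ S → T ≠ S → A ≤ Subgroup.normalizer (T : Set Γ) →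
      ∀ t ∈ T, ∀ x ∈ R, t * x = x * t)
    (h6 : ∀ c ∈ A, c ≠ 1 → ∀ x ∈ R, ∀ t ∈ S, c * x = x * c → c * t = t * c → x * t = t * x) :
    ∀ x ∈ R, ∀ t ∈ S, x * t = t * x := by
  obtain ⟨N, hN⟩ : ∃ N : Subgroup Γ, N = Subgroup.normalizer (R : Set Γ) := ⟨_, rfl⟩
  have hRN : R ≤ N := by rw [hN]; exact Subgroup.le_normalizer
  have hSN : S ≤ N := by rw [hN]; exact hSR
  have hAN : A ≤ N := by rw [hN]; exact hAR
  haveI hRn : (R.subgroupOf N).Normal := by
    constructor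
    intro x hx g
    rw [Subgroup.mem_subgroupOf] at hx ⊢
    have hg : (g : Γ) ∈ Subgroup.normalizer (R : Set Γ) := by rw [← hN]; exact g.2
    exact (Subgroup.mem_normalizer_iff.1 hg _).1 hx
  have hnormmap : ∀ (D' : Subgroup ↥N) (g : ↥N), g ∈ Subgroup.normalizer (D' : Set ↥N) →
      (g : Γ) ∈ Subgroup.normalizer ((D'.map N.subtype : Subgroup Γ) : Set Γ) := by
    intro D' g hg
    rw [Subgroup.mem_normalizer_iff] at hg ⊢
    intro h
    constructor
    · rintro ⟨y, hy, rfl⟩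
      exact ⟨g * y * g⁻¹, (hg y).1 hy, rfl⟩
    · rintro ⟨y, hy, hyh⟩
      refine ⟨g⁻¹ * y * g, (hg (g⁻¹ * y * g)).2 ?_, ?_⟩
      · have e : g * (g⁻¹ * y * g) * g⁻¹ = y := by group
        rw [e]
        exact hy
      · have e2 : ((g⁻¹ * y * g : ↥N) : Γ) = (g : Γ)⁻¹ * (y : Γ) * (g : Γ) := rfl
        rw [Subgroup.coe_subtype, e2]
        have hyh' : (y : Γ) = (g : Γ) * h * (g : Γ)⁻¹ := hyh
        rw [hyh']
        group
  have hmapne : ∀ (D' H' : Subgroup ↥N), D' ≤ H' → D' ≠ H' →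
      (D'.map N.subtype : Subgroup Γ) ≠ H'.map N.subtype := by
    intro D' H' hle hne heq
    exact hne ((Subgroup.map_injective N.subtype_injective) heq)
  have hmapR : (R.subgroupOf N).map N.subtype = R := Subgroup.map_subgroupOf_eq_of_le hRN
  have hmapS : (S.subgroupOf N).map N.subtype = S := Subgroup.map_subgroupOf_eq_of_le hSN
  have key := config (ρ.comp N.subtype) (hρ.comp N.subtype_injective) hp hr hpr
    (R.subgroupOf N) (S.subgroupOf N) (A.subgroupOf N) hR.comap_subtype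
    (by rw [Nat.card_congr (Subgroup.subgroupOfEquivOfLe hSN).toEquiv]; exact hSr)
    (by rw [Nat.card_congr (Subgroup.subgroupOfEquivOfLe hSN).toEquiv]; exact hSp)
    (by
      intro g hg
      rw [Subgroup.mem_normalizer_iff]
      intro h
      exact (Subgroup.mem_normalizer_iff.1 (hAS (Subgroup.mem_subgroupOf.1 hg))) (h : Γ))
    (fun a ha b hb => Subtype.ext (hAc a (Subgroup.mem_subgroupOf.1 ha) b
      (Subgroup.mem_subgroupOf.1 hb)))
    (fun a ha => Subtype.ext (by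
      rw [Subgroup.coe_pow]; exact hAp a (Subgroup.mem_subgroupOf.1 ha)))
    (by rw [Nat.card_congr (Subgroup.subgroupOfEquivOfLe hAN).toEquiv]; exact hAcard)
    hpK hrK
    (fun t ht hcomm => Subtype.ext (h1 t (Subgroup.mem_subgroupOf.1 ht) (fun c hc =>
      congrArg Subtype.val (hcomm ⟨c, hAN hc⟩ (Subgroup.mem_subgroupOf.2 hc)))))
    (fun c hc hc1 x hx hcx w hw => h2 c (Subgroup.mem_subgroupOf.1 hc)
      (fun h => hc1 (Subtype.ext h)) x (Subgroup.mem_subgroupOf.1 hx)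
      (congrArg Subtype.val hcx) w hw)
    (by
      intro D' hD'R hD'ne hSD hAD d hd t ht
      have hD : (D'.map N.subtype : Subgroup Γ) ≤ R := by
        rw [← hmapR]
        exact Subgroup.map_mono hD'R
      have hDne : (D'.map N.subtype : Subgroup Γ) ≠ R := by
        rw [← hmapR]
        exact hmapne D' _ hD'R hD'ne
      have hS' : S ≤ Subgroup.normalizer ((D'.map N.subtype : Subgroup Γ) : Set Γ) := by
        intro s hs
        exact hnormmap D' ⟨s, hSN hs⟩ (hSD (Subgroup.mem_subgroupOf.2 hs))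
      have hA' : A ≤ Subgroup.normalizer ((D'.map N.subtype : Subgroup Γ) : Set Γ) := by
        intro s hs
        exact hnormmap D' ⟨s, hAN hs⟩ (hAD (Subgroup.mem_subgroupOf.2 hs))
      exact Subtype.ext (h4 _ hD hDne hS' hA' d ⟨d, hd, rfl⟩ t (Subgroup.mem_subgroupOf.1 ht)))
    (by
      intro T' hT'S hT'ne hAT t ht x hx
      have hT : (T'.map N.subtype : Subgroup Γ) ≤ S := by
        rw [← hmapS]
        exact Subgroup.map_mono hT'S
      have hTne : (T'.map N.subtype : Subgroup Γ) ≠ S := by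
        rw [← hmapS]
        exact hmapne T' _ hT'S hT'ne
      have hA' : A ≤ Subgroup.normalizer ((T'.map N.subtype : Subgroup Γ) : Set Γ) := by
        intro s hs
        exact hnormmap T' ⟨s, hAN hs⟩ (hAT (Subgroup.mem_subgroupOf.2 hs))
      exact Subtype.ext (h5 _ hT hTne hA' t ⟨t, ht, rfl⟩ x (Subgroup.mem_subgroupOf.1 hx)))
    (fun c hc hc1 x hx t ht hcx hct => Subtype.ext (h6 c (Subgroup.mem_subgroupOf.1 hc)
      (fun h => hc1 (Subtype.ext h)) x (Subgroup.mem_subgroupOf.1 hx) t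
      (Subgroup.mem_subgroupOf.1 ht) (congrArg Subtype.val hcx) (congrArg Subtype.val hct)))
  intro x hx t ht
  exact congrArg Subtype.val (key ⟨x, hRN hx⟩ (Subgroup.mem_subgroupOf.2 hx) ⟨t, hSN ht⟩
    (Subgroup.mem_subgroupOf.2 ht))

end ConfigWrapper

section Lifting

variable {H : Type u} [Group H]

/-- Coprime decomposition of an element into commuting powers. -/
theorem decomp_coprime (a : H) (m n : ℕ) (hcop : m.Coprime n) (ha : a ^ (m * n) = 1) :
    ∃ a₁ a₂ : H, a₁ ∈ Subgroup.zpowers a ∧ a₂ ∈ Subgroup.zpowers a ∧ a = a₁ * a₂ ∧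
      a₁ ^ n = 1 ∧ a₂ ^ m = 1 := by
  have hbez : (m : ℤ) * Nat.gcdA m n + (n : ℤ) * Nat.gcdB m n = 1 := by
    have h := Nat.gcd_eq_gcd_ab m n
    rw [hcop.gcd_eq_one] at h
    exact_mod_cast h.symm
  refine ⟨(a ^ m) ^ Nat.gcdA m n, (a ^ n) ^ Nat.gcdB m n, ?_, ?_, ?_, ?_, ?_⟩
  · exact Subgroup.zpow_mem _ (Subgroup.pow_mem _ (Subgroup.mem_zpowers a) _) _
  · exact Subgroup.zpow_mem _ (Subgroup.pow_mem _ (Subgroup.mem_zpowers a) _) _
  · rw [← zpow_natCast a m, ← zpow_natCast a n, ← zpow_mul, ← zpow_mul, ← zpow_add, hbez,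
      zpow_one]
  · rw [← zpow_natCast, ← zpow_natCast a m, ← zpow_mul, ← zpow_mul]
    have h : ((m : ℤ) * (Nat.gcdA m n * (n : ℤ))) = ((m * n : ℕ) : ℤ) * Nat.gcdA m n := by
      push_cast; ring
    rw [h, zpow_mul, zpow_natCast, ha, one_zpow]
  · rw [← zpow_natCast, ← zpow_natCast a n, ← zpow_mul, ← zpow_mul]
    have h : ((n : ℤ) * (Nat.gcdB m n * (m : ℤ))) = ((m * n : ℕ) : ℤ) * Nat.gcdB m n := by
      push_cast; ring
    rw [h, zpow_mul, zpow_natCast, ha, one_zpow]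

theorem pow_eq_one_of_mem_zpowers {a b : H} (hb : b ∈ Subgroup.zpowers a) {n : ℕ}
    (ha : a ^ n = 1) : b ^ n = 1 := by
  obtain ⟨i, rfl⟩ := Subgroup.mem_zpowers_iff.1 hb
  rw [← zpow_natCast, ← zpow_mul, mul_comm, zpow_mul, zpow_natCast, ha, one_zpow]

theorem eq_one_of_pow_coprime {a : H} {m n : ℕ} (hcop : m.Coprime n) (hm : a ^ m = 1)
    (hn : a ^ n = 1) : a = 1 := by
  have h := pow_gcd_eq_one.2 ⟨hm, hn⟩
  have hg : m.gcd n = 1 := hcop
  rwa [hg, pow_one] at h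

variable [Finite H] {Γ : Type w} [Group Γ]

/-- An `r`-element of the image of `f` is the image of an `r`-element (a power of any given
preimage). -/
theorem liftR (f : H →* Γ) (h : H) {r : ℕ} (hr : r.Prime) (k : ℕ) (hk : f h ^ r ^ k = 1) :
    ∃ h' ∈ Subgroup.zpowers h, f h' = f h ∧ ∃ j : ℕ, h' ^ r ^ j = 1 := by
  have hN : orderOf h ≠ 0 := (orderOf_pos h).ne'
  obtain ⟨b, m₀, hm₀, hNeq⟩ := Nat.exists_eq_pow_mul_and_not_dvd hN r hr.ne_one
  have hcop : (r ^ b).Coprime m₀ := Nat.Coprime.pow_left b ((Nat.Prime.coprime_iff_not_dvd hr).2 hm₀)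
  have hpow : h ^ (r ^ b * m₀) = 1 := by rw [← hNeq]; exact pow_orderOf_eq_one h
  obtain ⟨h₁, h₂, hh₁, hh₂, heq, h1, h2⟩ := decomp_coprime h (r ^ b) m₀ hcop hpow
  refine ⟨h₂, hh₂, ?_, b, h2⟩
  have hf1 : f h₁ ∈ Subgroup.zpowers (f h) := by
    obtain ⟨i, rfl⟩ := Subgroup.mem_zpowers_iff.1 hh₁
    rw [map_zpow]
    exact Subgroup.zpow_mem _ (Subgroup.mem_zpowers _) _
  have e1 : f h₁ ^ r ^ k = 1 := pow_eq_one_of_mem_zpowers hf1 hk
  have e2 : f h₁ ^ m₀ = 1 := by rw [← map_pow, h1, map_one]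
  have e3 : f h₁ = 1 :=
    eq_one_of_pow_coprime (Nat.Coprime.pow_left k ((Nat.Prime.coprime_iff_not_dvd hr).2 hm₀)) e1 e2
  rw [heq, map_mul, e3, one_mul]

/-- An `r'`-element of the image of `f` is the image of an `r'`-element. -/
theorem liftR' (f : H →* Γ) (h : H) {r : ℕ} (hr : r.Prime) (m : ℕ) (hm : m.Coprime r)
    (hk : f h ^ m = 1) :
    ∃ h' ∈ Subgroup.zpowers h, f h' = f h ∧ ∃ m' : ℕ, m'.Coprime r ∧ h' ^ m' = 1 := by
  have hN : orderOf h ≠ 0 := (orderOf_pos h).ne'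
  obtain ⟨b, m₀, hm₀, hNeq⟩ := Nat.exists_eq_pow_mul_and_not_dvd hN r hr.ne_one
  have hcop : (r ^ b).Coprime m₀ := Nat.Coprime.pow_left b ((Nat.Prime.coprime_iff_not_dvd hr).2 hm₀)
  have hpow : h ^ (r ^ b * m₀) = 1 := by rw [← hNeq]; exact pow_orderOf_eq_one h
  obtain ⟨h₁, h₂, hh₁, hh₂, heq, h1, h2⟩ := decomp_coprime h (r ^ b) m₀ hcop hpow
  refine ⟨h₁, hh₁, ?_, m₀, ((Nat.Prime.coprime_iff_not_dvd hr).2 hm₀).symm, h1⟩
  have hf2 : f h₂ ∈ Subgroup.zpowers (f h) := by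
    obtain ⟨i, rfl⟩ := Subgroup.mem_zpowers_iff.1 hh₂
    rw [map_zpow]
    exact Subgroup.zpow_mem _ (Subgroup.mem_zpowers _) _
  have e1 : f h₂ ^ m = 1 := pow_eq_one_of_mem_zpowers hf2 hk
  have e2 : f h₂ ^ r ^ b = 1 := by rw [← map_pow, h2, map_one]
  have e3 : f h₂ = 1 := eq_one_of_pow_coprime (Nat.Coprime.pow_right b hm) e1 e2
  rw [heq, map_mul, e3, mul_one]

end Lifting

end Cfsg.Agent.Helper53.Ward
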