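-- helper53 library: the dual representation of `MulAut V` on the additive functions `V → K`,
-- its faithfulness, and transfer of fixed points (for Ward's theorem, S3796); add-only.
import Cfsg.Agent.Helper53.WardRed1
import Cfsg.Agent.Helper63.AddCharRep

set_option autoImplicit false

namespace Cfsg.Agent.Helper53.Ward

open Module Cfsg.Agent.Helper63.AddCharRep

universe u v

section Dual

variable {G : Type u} [Group G] (V : Subgroup G) (K : Type v) [Field K]

/-- The representation of `MulAut V` on the additive functions `V → K`: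
`(σ • f) v = f (σ⁻¹ v)`. -/
def dualRho : MulAut ↥V →* Module.End K ↥(addChar V K) where
  toFun σ :=
    { toFun := fun f => ⟨fun a => (f : ↥V → K) (σ⁻¹ a), by
        intro a b
        show (f : ↥V → K) (σ⁻¹ (a * b)) = (f : ↥V → K) (σ⁻¹ a) + (f : ↥V → K) (σ⁻¹ b)
        rw [map_mul]
        exact f.2 _ _⟩
      map_add' := fun _ _ => rfl
      map_smul' := fun _ _ => rfl }
  map_one' := by
    apply LinearMap.ext
    intro f
    apply Subtype.ext
    funext a
    show (f : ↥V → K) ((1 : MulAut ↥V)⁻¹ a) = (f : ↥V → K) a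
    rw [inv_one, MulAut.one_apply]
  map_mul' := by
    intro σ τ
    apply LinearMap.ext
    intro f
    apply Subtype.ext
    funext a
    show (f : ↥V → K) ((σ * τ)⁻¹ a) = (f : ↥V → K) (τ⁻¹ (σ⁻¹ a))
    rw [mul_inv_rev, MulAut.mul_apply]

variable {V K}

theorem dualRho_apply (σ : MulAut ↥V) (f : ↥(addChar V K)) (a : ↥V) :
    ((dualRho V K σ f : ↥(addChar V K)) : ↥V → K) a = (f : ↥V → K) (σ⁻¹ a) := rfl

/-- The dual representation of an elementary abelian `l`-group over a field of characteristic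
`l` is faithful. -/
theorem dualRho_injective [Finite V] {l : ℕ} [Fact l.Prime] [CharP K l]
    (hcomm : ∀ a b : ↥V, a * b = b * a) (hexp : ∀ a : ↥V, a ^ l = 1) :
    Function.Injective (dualRho V K) := by
  rw [injective_iff_map_eq_one]
  intro σ hσ
  have h1 : ∀ a : ↥V, σ⁻¹ a = a := by
    intro a
    by_contra hne
    have h2 : σ⁻¹ a * a⁻¹ ≠ 1 := fun h => hne (mul_inv_eq_one.1 h)
    obtain ⟨f, hf⟩ := exists_addChar_ne_zero (K := K) hcomm hexp _ h2
    apply hf
    have h4 : (f : ↥V → K) (σ⁻¹ a) = (f : ↥V → K) a := by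
      have h5 := congrArg
        (fun T : Module.End K ↥(addChar V K) => ((T f : ↥(addChar V K)) : ↥V → K) a) hσ
      exact h5
    rw [f.2, addChar_inv, h4, add_neg_cancel]
  have h3 : σ⁻¹ = 1 := MulEquiv.ext h1
  exact inv_eq_one.1 h3

/-- Transfer of fixed points to the dual: if `x` commutes with `c`, `c ^ p = 1` with `p` prime
to `|V|`, and `x` fixes every `c`-fixed element of `V`, then `x` fixes every `c`-fixed additive
function. -/
theorem dual_fix [Finite V] {p : ℕ} [Fact p.Prime] (hpV : ¬ p ∣ Nat.card V) (c x : MulAut ↥V)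
    (hcx : c * x = x * c) (hcp : c ^ p = 1) (hfix : ∀ v : ↥V, c v = v → x v = v)
    (f : ↥(addChar V K)) (hf : dualRho V K c f = f) : dualRho V K x f = f := by
  have hfc : ∀ v : ↥V, (f : ↥V → K) (c v) = (f : ↥V → K) v := by
    intro v
    have h1 := congrArg (fun f' : ↥(addChar V K) => (f' : ↥V → K) (c v)) hf
    have h2 : (f : ↥V → K) (c⁻¹ (c v)) = (f : ↥V → K) (c v) := h1
    rw [MulAut.inv_apply_self] at h2
    exact h2.symm
  obtain ⟨M, hM⟩ : ∃ M : Subgroup ↥V, M = Subgroup.closure {u | ∃ v : ↥V, u = v⁻¹ * c v} :=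
    ⟨_, rfl⟩
  have hgen : ∀ v : ↥V, v⁻¹ * c v ∈ M := by
    intro v
    rw [hM]
    exact Subgroup.subset_closure ⟨v, rfl⟩
  have hMf : ∀ u ∈ M, (f : ↥V → K) u = 0 := by
    let Kf : Subgroup ↥V :=
      { carrier := {u | (f : ↥V → K) u = 0}
        one_mem' := addChar_one f
        mul_mem' := by
          intro a b ha hb
          show (f : ↥V → K) (a * b) = 0
          rw [f.2, show (f : ↥V → K) a = 0 from ha, show (f : ↥V → K) b = 0 from hb, add_zero]
        inv_mem' := by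
          intro a ha
          show (f : ↥V → K) a⁻¹ = 0
          rw [addChar_inv, show (f : ↥V → K) a = 0 from ha, neg_zero] }
    have hle : M ≤ Kf := by
      rw [hM, Subgroup.closure_le]
      rintro u ⟨v, rfl⟩
      show (f : ↥V → K) (v⁻¹ * c v) = 0
      rw [f.2, addChar_inv, hfc, neg_add_cancel]
    exact fun u hu => hle hu
  have hinv : ∀ τ : MulAut ↥V, τ * c = c * τ → ∀ u ∈ M, τ u ∈ M := by
    intro τ hτ
    have hle : M ≤ M.comap τ.toMonoidHom := by
      rw [hM, Subgroup.closure_le]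
      rintro u ⟨v, rfl⟩
      show τ (v⁻¹ * c v) ∈ Subgroup.closure {u | ∃ v : ↥V, u = v⁻¹ * c v}
      apply Subgroup.subset_closure
      refine ⟨τ v, ?_⟩
      have h1 : τ (c v) = c (τ v) := by
        have h2 := congrArg (fun σ : MulAut ↥V => σ v) hτ
        exact h2
      rw [map_mul, map_inv, h1]
    exact fun u hu => hle hu
  have hMc : ∀ u ∈ M, c • u ∈ M := fun u hu => hinv c rfl u hu
  have hxc : x⁻¹ * c = c * x⁻¹ := by
    have h1 : x⁻¹ * (c * x) * x⁻¹ = x⁻¹ * (x * c) * x⁻¹ := by rw [hcx]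
    have e1 : x⁻¹ * (c * x) * x⁻¹ = x⁻¹ * c := by group
    have e2 : x⁻¹ * (x * c) * x⁻¹ = c * x⁻¹ := by group
    rw [e1, e2] at h1
    exact h1
  have hMx : ∀ u ∈ M, x⁻¹ u ∈ M := hinv x⁻¹ hxc
  have hMcard : ¬ p ∣ Nat.card M := fun h => hpV (h.trans (Subgroup.card_subgroup_dvd_card M))
  apply Subtype.ext
  funext v
  show (f : ↥V → K) (x⁻¹ v) = (f : ↥V → K) v
  obtain ⟨v', hv'M, hv'fix⟩ := Cfsg.Agent.Helper31.exists_fixed_in_coset_act (p := p) c 1
    (by rw [pow_one]; exact hcp) M hMcard hMc v (hgen v)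
  have hx' : x v' = v' := hfix v' hv'fix
  have hx'' : x⁻¹ v' = v' := by
    calc x⁻¹ v' = x⁻¹ (x v') := by rw [hx']
      _ = v' := MulAut.inv_apply_self _ _ _
  have hm : v'⁻¹ * v ∈ M := by
    have h1 := M.inv_mem hv'M
    rwa [mul_inv_rev, inv_inv] at h1
  have e : v' * (v'⁻¹ * v) = v := by group
  calc (f : ↥V → K) (x⁻¹ v) = (f : ↥V → K) (x⁻¹ (v' * (v'⁻¹ * v))) := by rw [e]
    _ = (f : ↥V → K) (x⁻¹ v') + (f : ↥V → K) (x⁻¹ (v'⁻¹ * v)) := by rw [map_mul, f.2]
    _ = (f : ↥V → K) v' + 0 := by rw [hx'', hMf _ (hMx _ hm)]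
    _ = (f : ↥V → K) v' + (f : ↥V → K) (v'⁻¹ * v) := by rw [hMf _ hm]
    _ = (f : ↥V → K) v := by rw [← f.2, e]

end Dual

end Cfsg.Agent.Helper53.Ward
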