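-- helper53 library: a nilpotency criterion via Sylow subgroups centralising the primary parts of
-- a nilpotent normal subgroup with nilpotent quotient (for Ward's theorem, S3796); add-only.
import Cfsg.Agent.Helper53.WardRed1
import Cfsg.Agent.Helper35.CoprimeSylow

set_option autoImplicit false

namespace Cfsg.Agent.Helper53.Ward

open Cfsg.Agent.Helper35
open scoped Pointwise

universe u

section Nil

/-- A `q`-element lies in every normal Sylow `q`-subgroup. -/
theorem mem_sylow_of_pow {H : Type u} [Group H] {q : ℕ} [Fact q.Prime] (S : Sylow q H)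
    (hS : (S : Subgroup H).Normal) (y : H) (j : ℕ) (hy : y ^ q ^ j = 1) :
    y ∈ (S : Subgroup H) := by
  have hz : IsPGroup q (Subgroup.zpowers y) := by
    rintro ⟨z, hz⟩
    obtain ⟨i, rfl⟩ := Subgroup.mem_zpowers_iff.mp hz
    refine ⟨j, ?_⟩
    apply Subtype.ext
    show (y ^ i) ^ q ^ j = 1
    rw [← zpow_natCast, ← zpow_mul, mul_comm, zpow_mul, zpow_natCast, hy, one_zpow]
  have hsup : IsPGroup q ((Subgroup.zpowers y) ⊔ (S : Subgroup H) : Subgroup H) :=
    hz.to_sup_of_normal_right S.isPGroup'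
  have h1 := S.is_maximal' hsup le_sup_right
  rw [← h1]
  exact (le_sup_left : Subgroup.zpowers y ≤ _) (Subgroup.mem_zpowers y)

variable {Γ : Type u} [Group Γ] [Finite Γ]

/-- The `r`-elements of a nilpotent subgroup form a subgroup. -/
theorem exists_rpart (L : Subgroup Γ) (hL : Group.IsNilpotent L) (r : ℕ) [hr : Fact r.Prime] :
    ∃ R : Subgroup Γ, IsPGroup r R ∧ ∀ x : Γ, x ∈ R ↔ x ∈ L ∧ ∃ k : ℕ, x ^ r ^ k = 1 := by
  obtain ⟨P⟩ : Nonempty (Sylow r ↥L) := inferInstance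
  have htfae := (Group.isNilpotent_of_finite_tfae (G := ↥L)).out 0 3
  have hPn : (P : Subgroup ↥L).Normal := htfae.mp hL r hr P
  refine ⟨(P : Subgroup ↥L).map L.subtype, P.isPGroup'.map _, ?_⟩
  intro x
  constructor
  · rintro ⟨y, hy, rfl⟩
    refine ⟨y.2, ?_⟩
    obtain ⟨k, hk⟩ := P.isPGroup' ⟨y, hy⟩
    refine ⟨k, ?_⟩
    have h1 : (y : ↥L) ^ r ^ k = 1 := congrArg Subtype.val hk
    have h2 := congrArg Subtype.val h1
    rw [Subgroup.coe_pow, Subgroup.coe_one] at h2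
    exact h2
  · rintro ⟨hxL, k, hk⟩
    refine ⟨⟨x, hxL⟩, mem_sylow_of_pow P hPn ⟨x, hxL⟩ k (Subtype.ext ?_), rfl⟩
    rw [Subgroup.coe_pow, Subgroup.coe_one]
    exact hk

omit [Finite Γ] in
theorem rpart_normalizer (L R : Subgroup Γ) (r : ℕ)
    (hR : ∀ x : Γ, x ∈ R ↔ x ∈ L ∧ ∃ k : ℕ, x ^ r ^ k = 1) (g : Γ)
    (hg : g ∈ Subgroup.normalizer (L : Set Γ)) : g ∈ Subgroup.normalizer (R : Set Γ) := by
  rw [Subgroup.mem_normalizer_iff] at hg ⊢
  intro h
  rw [hR, hR, ← hg h]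
  constructor
  · rintro ⟨h1, k, hk⟩
    exact ⟨h1, k, by rw [conj_pow, hk, mul_one, mul_inv_cancel]⟩
  · rintro ⟨h1, k, hk⟩
    refine ⟨h1, k, ?_⟩
    rw [conj_pow] at hk
    have h2 : g⁻¹ * (g * h ^ r ^ k * g⁻¹) * g = g⁻¹ * 1 * g := by rw [hk]
    have e1 : g⁻¹ * (g * h ^ r ^ k * g⁻¹) * g = h ^ r ^ k := by group
    have e2 : g⁻¹ * 1 * g = 1 := by group
    rw [e1, e2] at h2
    exact h2

/-- **Nilpotency criterion.**  `L` a nilpotent normal subgroup of `Y` such that elements of `Y`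
of coprime prime power orders commute modulo `L`; if for every prime `s` some Sylow
`s`-subgroup `P s` of `Y` centralises the `r`-elements of `L` for all primes `r ≠ s`, then `Y`
is nilpotent. -/
theorem nil_of_sylow (Y L : Subgroup Γ) (hLY : L ≤ Y)
    (hYL : Y ≤ Subgroup.normalizer (L : Set Γ)) (hLnil : Group.IsNilpotent L)
    (ha : ∀ t s : ℕ, t.Prime → s.Prime → t ≠ s → ∀ x ∈ Y, ∀ y ∈ Y, ∀ i j : ℕ, x ^ t ^ i = 1 →
      y ^ s ^ j = 1 → x * y * x⁻¹ * y⁻¹ ∈ L)
    (P : ℕ → Subgroup Γ) (hP : ∀ s : ℕ, s.Prime → P s ∈ sylowSet s Y)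
    (hcent : ∀ s r : ℕ, s.Prime → r.Prime → r ≠ s → ∀ x ∈ L, ∀ k : ℕ, x ^ r ^ k = 1 →
      ∀ y ∈ P s, x * y = y * x) : Group.IsNilpotent Y := by
  -- exponent of `P s`
  have hexp : ∀ s : ℕ, s.Prime → ∀ y ∈ P s, y ^ s ^ (Nat.card Y).factorization s = 1 := by
    intro s hs y hy
    have h1 := pow_card_eq_one' (G := ↥(P s)) (x := ⟨y, hy⟩)
    rw [(hP s hs).2] at h1
    have h2 := congrArg Subtype.val h1
    rw [Subgroup.coe_pow, Subgroup.coe_one] at h2
    exact h2
  -- Step A: `s`-elements of `L` lie in `P s`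
  have stepA : ∀ s : ℕ, s.Prime → ∀ x ∈ L, ∀ k : ℕ, x ^ s ^ k = 1 → x ∈ P s := by
    intro s hs x hx k hk
    haveI : Fact s.Prime := ⟨hs⟩
    obtain ⟨Q, hQp, hQ⟩ := exists_rpart L hLnil s
    have hQY : Q ≤ Y := fun z hz => hLY ((hQ z).1 hz).1
    have hYQ : Y ≤ Subgroup.normalizer (Q : Set Γ) :=
      fun g hg => rpart_normalizer L Q s hQ g (hYL hg)
    have hle := le_of_mem_sylowSet_of_le_normalizer (hP s hs) hQY hQp hYQ
    exact hle ((hQ x).2 ⟨hx, k, hk⟩)
  -- Step A'': `s'`-elements of `L` commute with `P s`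
  have stepA2 : ∀ s : ℕ, s.Prime → ∀ m : ℕ, ∀ z ∈ L, m.Coprime s → z ^ m = 1 →
      ∀ y ∈ P s, z * y = y * z := by
    intro s hs m
    induction m using Nat.strong_induction_on with
    | _ m ih =>
      intro z hz hcop hzm y hy
      by_cases hm1 : m = 1
      · rw [hm1, pow_one] at hzm
        rw [hzm, one_mul, mul_one]
      have hm0 : m ≠ 0 := by
        rintro rfl
        rw [Nat.coprime_zero_left] at hcop
        exact hs.ne_one hcop
      obtain ⟨r, hr, hrm⟩ := Nat.exists_prime_and_dvd hm1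
      have hrs : r ≠ s := by
        rintro rfl
        have h1 : r ∣ m.gcd r := Nat.dvd_gcd hrm dvd_rfl
        have h2 : m.gcd r = 1 := hcop
        rw [h2] at h1
        exact hr.one_lt.ne' (Nat.dvd_one.1 h1)
      obtain ⟨e, m', hm', hmeq⟩ := Nat.exists_eq_pow_mul_and_not_dvd hm0 r hr.ne_one
      have he : e ≠ 0 := by
        rintro rfl
        rw [pow_zero, one_mul] at hmeq
        rw [hmeq] at hrm
        exact hm' hrm
      have hm'pos : 0 < m' := by
        rcases Nat.eq_zero_or_pos m' with h | h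
        · rw [h, mul_zero] at hmeq
          exact absurd hmeq hm0
        · exact h
      have hlt : m' < m := by
        rw [hmeq]
        have h1 : 2 ≤ r ^ e := le_trans hr.two_le (Nat.le_self_pow he r)
        nlinarith
      have hcop2 : (r ^ e).Coprime m' :=
        Nat.Coprime.pow_left e ((Nat.Prime.coprime_iff_not_dvd hr).2 hm')
      obtain ⟨z₁, z₂, hz₁, hz₂, hzeq, h1, h2⟩ := decomp_coprime z (r ^ e) m' hcop2
        (by rw [← hmeq]; exact hzm)
      have hzp : Subgroup.zpowers z ≤ L := Subgroup.zpowers_le.2 hz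
      have c2 : z₂ * y = y * z₂ := hcent s r hs hr hrs z₂ (hzp hz₂) e h2 y hy
      have hcop3 : m'.Coprime s :=
        Nat.Coprime.coprime_dvd_left (Dvd.intro_left _ hmeq.symm) hcop
      have c1 : z₁ * y = y * z₁ := ih m' hlt z₁ (hzp hz₁) hcop3 h1 y hy
      rw [hzeq]
      calc z₁ * z₂ * y = z₁ * (z₂ * y) := mul_assoc _ _ _
        _ = z₁ * (y * z₂) := by rw [c2]
        _ = (z₁ * y) * z₂ := (mul_assoc _ _ _).symm
        _ = (y * z₁) * z₂ := by rw [c1]
        _ = y * (z₁ * z₂) := mul_assoc _ _ _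
  -- Step B: `t`-elements of `Y` normalise `P s`
  have stepB : ∀ t s : ℕ, t.Prime → s.Prime → t ≠ s → ∀ x ∈ Y, ∀ i : ℕ, x ^ t ^ i = 1 →
      ∀ y ∈ P s, x * y * x⁻¹ ∈ P s := by
    intro t s ht hs hts x hx i hxi y hy
    obtain ⟨e, he⟩ : ∃ e : ℕ, e = (Nat.card Y).factorization s := ⟨_, rfl⟩
    have hye : y ^ s ^ e = 1 := by rw [he]; exact hexp s hs y hy
    obtain ⟨c, hc⟩ : ∃ c : Γ, c = x * y * x⁻¹ * y⁻¹ := ⟨_, rfl⟩
    have hcL : c ∈ L := by
      rw [hc]
      exact ha t s ht hs hts x hx y ((hP s hs).1 hy) i e hxi hye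
    have hN : orderOf c ≠ 0 := (orderOf_pos c).ne'
    obtain ⟨b, m₀, hm₀, hNeq⟩ := Nat.exists_eq_pow_mul_and_not_dvd hN s hs.ne_one
    have hcop : (s ^ b).Coprime m₀ :=
      Nat.Coprime.pow_left b ((Nat.Prime.coprime_iff_not_dvd hs).2 hm₀)
    obtain ⟨c₁, c₂, hc₁, hc₂, hceq, h1, h2⟩ := decomp_coprime c (s ^ b) m₀ hcop
      (by rw [← hNeq]; exact pow_orderOf_eq_one c)
    have hzp : Subgroup.zpowers c ≤ L := Subgroup.zpowers_le.2 hcL
    have hc₂P : c₂ ∈ P s := stepA s hs c₂ (hzp hc₂) b h2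
    have hm₀s : m₀.Coprime s := ((Nat.Prime.coprime_iff_not_dvd hs).2 hm₀).symm
    have hc₁comm : ∀ y' ∈ P s, c₁ * y' = y' * c₁ := stepA2 s hs m₀ c₁ (hzp hc₁) hm₀s h1
    have huP : c₂ * y ∈ P s := mul_mem hc₂P hy
    have hconj : x * y * x⁻¹ = c₁ * (c₂ * y) := by
      have e1 : x * y * x⁻¹ = c * y := by rw [hc]; group
      rw [e1, hceq, mul_assoc]
    have huexp : (c₂ * y) ^ s ^ e = 1 := by rw [he]; exact hexp s hs _ huP
    have hpow : (c₁ * (c₂ * y)) ^ s ^ e = c₁ ^ s ^ e := by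
      rw [(show Commute c₁ (c₂ * y) from hc₁comm _ huP).mul_pow, huexp, mul_one]
    have hpow2 : (x * y * x⁻¹) ^ s ^ e = 1 := by
      rw [conj_pow, hye, mul_one, mul_inv_cancel]
    rw [hconj, hpow] at hpow2
    have hc₁1 : c₁ = 1 := eq_one_of_pow_coprime
      (Nat.Coprime.pow_left e ((Nat.Prime.coprime_iff_not_dvd hs).2 hm₀)) hpow2 h1
    rw [hconj, hc₁1, one_mul]
    exact huP
  -- Step C: `P s` is normal in `Y`
  have stepC : ∀ s : ℕ, s.Prime → Y ≤ Subgroup.normalizer (P s : Set Γ) := by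
    intro s hs
    haveI : Fact s.Prime := ⟨hs⟩
    have hT : (Subgroup.normalizer (P s : Set Γ)).subgroupOf Y = ⊤ := by
      rw [← Subgroup.index_eq_one, Nat.eq_one_iff_not_exists_prime_dvd]
      intro q hq hdvd
      haveI : Fact q.Prime := ⟨hq⟩
      by_cases hqs : q = s
      · subst hqs
        obtain ⟨Q, hQ⟩ := exists_sylow_of_mem_sylowSet (hP q hq)
        have hQT : (Q : Subgroup ↥Y) ≤ (Subgroup.normalizer (P q : Set Γ)).subgroupOf Y := by
          intro z hz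
          rw [Subgroup.mem_subgroupOf]
          apply Subgroup.le_normalizer
          rw [← hQ]
          exact ⟨z, hz, rfl⟩
        exact Q.not_dvd_index (hdvd.trans (Subgroup.index_dvd_of_le hQT))
      · obtain ⟨Q⟩ : Nonempty (Sylow q ↥Y) := inferInstance
        have hQT : (Q : Subgroup ↥Y) ≤ (Subgroup.normalizer (P s : Set Γ)).subgroupOf Y := by
          intro z hz
          rw [Subgroup.mem_subgroupOf]
          obtain ⟨k, hk⟩ := Q.isPGroup' ⟨z, hz⟩
          have hzk : (z : Γ) ^ q ^ k = 1 := by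
            have h1 : z ^ q ^ k = 1 := congrArg Subtype.val hk
            have h2 := congrArg Subtype.val h1
            rw [Subgroup.coe_pow, Subgroup.coe_one] at h2
            exact h2
          have hzinv : ((z : Γ)⁻¹) ^ q ^ k = 1 := by rw [inv_pow, hzk, inv_one]
          rw [Subgroup.mem_normalizer_iff]
          intro h
          constructor
          · intro hh
            exact stepB q s hq hs hqs z z.2 k hzk h hh
          · intro hh
            have h3 := stepB q s hq hs hqs (z : Γ)⁻¹ (inv_mem z.2) k hzinv _ hh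
            have e : (z : Γ)⁻¹ * ((z : Γ) * h * (z : Γ)⁻¹) * ((z : Γ)⁻¹)⁻¹ = h := by group
            rwa [e] at h3
        exact Q.not_dvd_index (hdvd.trans (Subgroup.index_dvd_of_le hQT))
    intro y hy
    have h1 : (⟨y, hy⟩ : ↥Y) ∈ (Subgroup.normalizer (P s : Set Γ)).subgroupOf Y := by
      rw [hT]
      trivial
    exact Subgroup.mem_subgroupOf.1 h1
  -- Step D: all Sylow subgroups of `Y` are normal
  have htfae := (Group.isNilpotent_of_finite_tfae (G := ↥Y)).out 0 3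
  apply htfae.mpr
  intro q hq Q
  haveI := hq
  have hQ' := sylow_map_mem_sylowSet Q
  obtain ⟨k, hkY, hk⟩ := sylowSet_trans (hP q hq.out) hQ'
  rw [conj_smul_eq_self_of_mem_normalizer (stepC q hq.out hkY)] at hk
  constructor
  intro z hz g
  have h1 : (z : Γ) ∈ P q := by
    rw [hk]
    exact ⟨z, hz, rfl⟩
  have h2 : (g : Γ) * z * (g : Γ)⁻¹ ∈ P q :=
    (Subgroup.mem_normalizer_iff.1 (stepC q hq.out g.2) _).1 h1
  rw [hk] at h2
  obtain ⟨z', hz', hzz⟩ := h2
  have h3 : z' = g * z * g⁻¹ := Subtype.ext hzz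
  rw [← h3]
  exact hz'

end Nil

end Cfsg.Agent.Helper53.Ward
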